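import Groth.Prelude.Def_LambdaRing

/-!
# `ψ²(x) = x² - 2 λ²(x)`
-/

set_option autoImplicit false
universe u

open PowerSeries Finset LambdaRing

namespace K535.Adams2

variable {K : Type u} [CommRing K] [LambdaOps K] (P : PosStructure K)

/-- `ψ²(x) = x² - 2 λ²(x)` -/
theorem adams_two (x : K) : adams P 2 x = x ^ 2 - 2 * LambdaOps.lam 2 x := by
  set S : PowerSeries K := PowerSeries.rescale (-1 : K) (lamSeries x) with hS
  have hc : ∀ n, PowerSeries.coeff n S = (-1) ^ n * LambdaOps.lam n x := by
    intro n
    rw [hS, PowerSeries.coeff_rescale]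
    simp [lamSeries]
  have h0 : PowerSeries.constantCoeff S = 1 := by
    rw [← PowerSeries.coeff_zero_eq_constantCoeff_apply, hc, LambdaOps.lam_zero]; simp
  have hinv : S * S.invOfUnit 1 = 1 := PowerSeries.mul_invOfUnit S 1 (by rw [h0]; simp)
  have i0 : PowerSeries.coeff 0 (S.invOfUnit 1) = 1 := by
    have := congrArg (PowerSeries.coeff 0) hinv
    rw [PowerSeries.coeff_mul] at this
    simpa [hc, LambdaOps.lam_zero] using this
  have i1 : PowerSeries.coeff 1 (S.invOfUnit 1) = x := by
    have := congrArg (PowerSeries.coeff 1) hinv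
    rw [PowerSeries.coeff_mul, Finset.Nat.antidiagonal_succ] at this
    simp only [Finset.Nat.antidiagonal_zero, Finset.sum_cons, Finset.map_singleton, Finset.sum_singleton, hc,
      LambdaOps.lam_zero, pow_zero, one_mul, pow_one, PowerSeries.coeff_one] at this
    simp only [Function.Embedding.prodMap, Function.Embedding.coeFn_mk, Prod.map, Nat.succ_eq_add_one,
      zero_add, Function.Embedding.refl_apply, hc, pow_one, LambdaOps.lam_one, i0] at this
    simp at this
    linear_combination this
  rw [adams, adamsSeries, map_sub]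
  have hC : PowerSeries.coeff 2 (PowerSeries.C (P.aug x : K)) = 0 := by
    rw [PowerSeries.coeff_C]; simp
  rw [hC, zero_sub, mul_assoc, show (2 : ℕ) = 1 + 1 from rfl, PowerSeries.coeff_succ_X_mul, PowerSeries.coeff_mul,
    Finset.Nat.antidiagonal_succ]
  simp only [Finset.Nat.antidiagonal_zero, Finset.sum_cons, Finset.map_singleton, Finset.sum_singleton,
    PowerSeries.coeff_derivative, Function.Embedding.prodMap, Function.Embedding.coeFn_mk, Prod.map,
    Nat.succ_eq_add_one, zero_add, Function.Embedding.refl_apply]
  rw [i0, i1, hc, hc]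
  simp [LambdaOps.lam_one]
  ring

end K535.Adams2
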