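import Groth.Agent.Ega2.FiniteSet
import Groth.Agent.Ega2.AmpleGlobGen
import Groth.Agent.Smoothlim.LineSec
import Groth.Agent.Ega2.QCohLocal

/-!
# Sections of `E ⊗ L^{kn}` generating at finitely many given points, `L` ample
-/

set_option autoImplicit false
universe u
open CategoryTheory CategoryTheory.Limits AlgebraicGeometry Opposite TopologicalSpace
open Groth.Agent Groth.Agent.Fdesc.LocGen

namespace K535.AmplePts

open Groth.Agent.Ega2 Groth.Agent.Ega2.TensGen Groth.Agent.Ega2.TensPow Groth.Agent.Ega2.SecCalc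

variable {X : Scheme.{u}}

/-- Let `L` be ample, `E` invertible and `Z` a finite set of points.  Then there is `n` such that for all `k ≥ 1`
there is a global section of `E ⊗ L^{kn}` which is a basis at all points of `Z`. -/
theorem exists_section {L E : X.Modules} (hL : CohB1.IsAmple L) (hE : PicF.IsInvertible E) (Z : Set X)
    (hZ : Z.Finite) :
    ∃ n : ℕ, 1 ≤ n ∧ ∀ k : ℕ, 1 ≤ k → ∃ s : Coh.structureModule X ⟶ CohB1.tensorMod E (CohB1.tensorPow L (n * k)),
      ∀ x ∈ Z, x ∈ CohB1.genLocus (CohB1.tensorMod E (CohB1.tensorPow L (n * k))) s := by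
  have hcomp : CompactSpace X := hL.2.1
  have hqs := quasiSeparatedSpace_of_isAmple hL
  obtain ⟨m, f, hZf, -, haff⟩ := FiniteSet.exists_affine_genLocus_of_finite hL Z hZ ⊤ (Set.subset_univ _)
  obtain ⟨t, ht⟩ := Smoothlim.LineSec.exists_genAt_finite hE haff Z hZ fun x hx => hZf hx
  have hLm := isInvertible_tensorPow hL.1 (m + 1)
  obtain ⟨N, hN⟩ := AmpleGlobGen.exists_extend_top (QCohLocal.isQCoh_of_isInvertible hE) hLm f t
  refine ⟨(m + 1) * (N + 1), Nat.mul_pos (Nat.succ_pos _) (Nat.succ_pos _), fun k hk => ?_⟩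
  have hNk : N ≤ (N + 1) * k := by nlinarith
  obtain ⟨t', ht'⟩ := hN ((N + 1) * k) hNk
  let e : CohB1.tensorMod E (CohB1.tensorPow (CohB1.tensorPow L (m + 1)) ((N + 1) * k)) ≅
      CohB1.tensorMod E (CohB1.tensorPow L ((m + 1) * (N + 1) * k)) :=
    Tens.mapTIso (Iso.refl E) (powMul L (m + 1) ((N + 1) * k) ≪≫ powCongr L (mul_assoc _ _ _).symm)
  refine ⟨homOf t' ≫ e.hom, fun x hx => ?_⟩
  rw [genLocus_comp, mem_genLocus_iff]
  obtain ⟨U, hU, hxU, hg⟩ := ht x hx
  refine ⟨U, hxU, ?_⟩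
  have hg' : IsGen (res E hU t) := hg
  rw [sec_homOf]
  have h1 := congrArg (res _ hU) ht'
  rw [res_res, res_tmul] at h1
  rw [h1]
  refine hg'.tmul ?_
  rw [res_pow]
  exact ((isGen_sec_genLocus f).res hU).pow _

end K535.AmplePts
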