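import Groth.Agent.Books.Lambda1
import Groth.Agent.Krr.H478.Functional
import Mathlib.RingTheory.PowerSeries.WellKnown
import Mathlib.Algebra.Group.ForwardDiff

/-!
# Augmentations of `λ^i(e)`, `σ^j(e)` and of the functional on `(ℓ - 1)^r`

* `aug_lam`: `ε(λ^i e) = C(ε(e), i)` for positive `e`.
* `aug_sigma`: `ε(σ^j e) = C(r + j, j)` for positive `e` of augmentation `r + 1`.
* `aug_functional`: `ε(f((ℓ - 1)^r)) = 1`.
-/

set_option autoImplicit false
universe v u

namespace K535.AugSigma

open Finset LambdaRing Groth.Agent.Books.Lambda1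

variable {K : Type u} [CommRing K] [LambdaOps K]

theorem aug_lam (P : PosStructure K) (hK : HasSplitting K P) (e : K) (he : e ∈ P.pos) (m : ℕ)
    (hm : P.aug e = m) (i : ℕ) : P.aug (LambdaOps.lam i e) = (m.choose i : ℤ) := by
  obtain ⟨L', f, hf, s, hs, hsum⟩ := exists_split P hK e he
  have h1 : L'.posStr.aug (LambdaOps.lam i (f e)) = ((Multiset.card s).choose i : ℤ) := by
    rw [← hsum]
    exact aug_lam_multiset_sum L'.posStr s hs i
  have h2 : (Multiset.card s : ℤ) = m := by
    rw [← aug_multiset_sum L'.posStr s hs, hsum, hf.aug_comp, hm]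
  have h3 : Multiset.card s = m := by exact_mod_cast h2
  rw [← hf.aug_comp, hf.isLambdaHom, h1, h3]

theorem coeff_one_add_X_pow (m n : ℕ) :
    PowerSeries.coeff n ((1 + PowerSeries.X : PowerSeries ℤ) ^ m) = (m.choose n : ℤ) := by
  have h1 : ((1 : PowerSeries ℤ) + PowerSeries.X) ^ m = (((1 + Polynomial.X : Polynomial ℤ) ^ m : Polynomial ℤ) :
      PowerSeries ℤ) := by
    rw [Polynomial.coe_pow, Polynomial.coe_add, Polynomial.coe_one, Polynomial.coe_X]
  rw [h1, Polynomial.coeff_coe, Polynomial.coeff_one_add_X_pow]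

theorem map_aug_R (P : PosStructure K) (hK : HasSplitting K P) (e : K) (he : e ∈ P.pos) (m : ℕ)
    (hm : P.aug e = m) : PowerSeries.map P.aug (R e) = (1 - PowerSeries.X) ^ m := by
  have h1 : ((1 : PowerSeries ℤ) - PowerSeries.X) ^ m =
      PowerSeries.rescale (-1 : ℤ) ((1 + PowerSeries.X) ^ m) := by
    rw [map_pow, map_add, map_one, PowerSeries.rescale_X]
    congr 1
    simp [sub_eq_add_neg]
  rw [h1]
  ext n
  rw [PowerSeries.coeff_map, R, PowerSeries.coeff_rescale, map_mul, coeff_lamSeries,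
    aug_lam P hK e he m hm, PowerSeries.coeff_rescale, coeff_one_add_X_pow, map_pow, map_neg, map_one]

theorem map_aug_sigmaSeries (P : PosStructure K) (hK : HasSplitting K P) (e : K) (he : e ∈ P.pos)
    (r : ℕ) (hr : P.aug e = r + 1) :
    PowerSeries.map P.aug (KRR.sigmaSeries e) = PowerSeries.mk fun n => ((r + n).choose r : ℤ) := by
  have h1 := congrArg (PowerSeries.map P.aug) (Groth.Agent.Krr.H478.Functional.rescale_mul_sigmaSeries e)
  rw [map_mul, map_one] at h1
  have h2 : PowerSeries.map P.aug (PowerSeries.rescale (-1 : K) (lamSeries e)) =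
      (1 - PowerSeries.X) ^ (r + 1) := map_aug_R P hK e he (r + 1) (by rw [hr]; push_cast; rfl)
  rw [h2] at h1
  have h3 := PowerSeries.mk_add_choose_mul_one_sub_pow_eq_one ℤ r
  calc PowerSeries.map P.aug (KRR.sigmaSeries e)
      = ((PowerSeries.mk fun n => ((r + n).choose r : ℤ)) * (1 - PowerSeries.X) ^ (r + 1)) *
        PowerSeries.map P.aug (KRR.sigmaSeries e) := by rw [h3, one_mul]
    _ = (PowerSeries.mk fun n => ((r + n).choose r : ℤ)) * ((1 - PowerSeries.X) ^ (r + 1) *
        PowerSeries.map P.aug (KRR.sigmaSeries e)) := by rw [mul_assoc]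
    _ = _ := by rw [h1, mul_one]

theorem aug_sigma (P : PosStructure K) (hK : HasSplitting K P) (e : K) (he : e ∈ P.pos)
    (r : ℕ) (hr : P.aug e = r + 1) (j : ℕ) :
    P.aug (KRR.sigma j e) = ((r + j).choose j : ℤ) := by
  have h := congrArg (PowerSeries.coeff j) (map_aug_sigmaSeries P hK e he r hr)
  rw [PowerSeries.coeff_map, PowerSeries.coeff_mk] at h
  rw [KRR.sigma, h, Nat.choose_symm_add]

theorem sum_choose (r : ℕ) : ∑ k ∈ range (r + 1), ((-1 : ℤ) ^ (r - k) * r.choose k) * ((r + k).choose r : ℤ) = 1 := by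
  have h1 := fwdDiff_iter_eq_sum_shift (1 : ℕ) (fun x : ℕ => (x.choose (r + 0) : ℤ)) r r
  have h2 := fwdDiff_iter_choose 0 r
  rw [h2] at h1
  simp only [Nat.choose_zero_right, Nat.cast_one, smul_eq_mul, mul_one, add_zero] at h1
  exact h1.symm

theorem aug_functional (P : PosStructure K) (hK : HasSplitting K P) (e : K) (he : e ∈ P.pos)
    (r : ℕ) (hr : P.aug e = r + 1) {A : Type v} [CommRing A] [Algebra K A] (l : A)
    (f : A →ₗ[K] K) (hf : ∀ i : ℕ, i ≤ r → f (l ^ i) = KRR.sigma i e) :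
    P.aug (f ((l - 1) ^ r)) = 1 := by
  rw [sub_eq_add_neg, add_pow]
  have h1 : f (∑ m ∈ range (r + 1), l ^ m * (-1) ^ (r - m) * (r.choose m : A)) =
      ∑ m ∈ range (r + 1), ((-1 : K) ^ (r - m) * (r.choose m : K)) * KRR.sigma m e := by
    rw [map_sum]
    refine Finset.sum_congr rfl fun m hm => ?_
    rw [← hf m (by simpa [Nat.lt_succ_iff] using hm), ← smul_eq_mul (a := ((-1 : K) ^ (r - m) * (r.choose m : K))), ← map_smul]
    congr 1
    rw [Algebra.smul_def, map_mul, map_pow, map_neg, map_one, map_natCast]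
    ring
  rw [h1, map_sum, ← sum_choose r]
  refine Finset.sum_congr rfl fun m _ => ?_
  rw [map_mul, map_mul, map_pow, map_neg, map_one, map_natCast, aug_sigma P hK e he r hr,
    Nat.choose_symm_add]

end K535.AugSigma
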