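import Groth.Agent.Sga67.CohBasic

/-!
# A coherent module mapping to two coherent extensions of the same module on an open set
-/

set_option autoImplicit false
universe u

open CategoryTheory CategoryTheory.Limits AlgebraicGeometry

namespace K535.CohGlue

open Scheme.Modules Groth.Agent.Sga67

variable {X : Scheme.{u}}

theorem isIso_restrict_unit {U : X.Opens} (F : X.Modules) :
    IsIso ((restrictFunctor U.ι).map ((restrictAdjunction U.ι).unit.app F)) := by
  have h := (restrictAdjunction U.ι).left_triangle_components F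
  exact IsIso.of_isIso_fac_right h

/-- The common module: the fibre product over the direct image. -/
theorem exists_common [IsNoetherian X] (U : X.Opens) (F₁ F₂ : X.Modules) (h₁ : Coh.IsCoh F₁)
    (h₂ : Coh.IsCoh F₂) (e : F₁.restrict U.ι ≅ F₂.restrict U.ι) :
    ∃ (G : X.Modules) (p₁ : G ⟶ F₁) (p₂ : G ⟶ F₂), Coh.IsCoh G ∧
      IsIso ((restrictFunctor U.ι).map p₁) ∧ IsIso ((restrictFunctor U.ι).map p₂) := by
  let Q : X.Modules := (pushforward U.ι).obj ((restrictFunctor U.ι).obj F₂)
  let a : F₁ ⟶ Q := (restrictAdjunction U.ι).unit.app F₁ ≫ (pushforward U.ι).map e.hom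
  let b : F₂ ⟶ Q := (restrictAdjunction U.ι).unit.app F₂
  have hQ : Coh.IsQCoh Q := CohBasic.isQCoh_push U.ι (Groth.Agent.PerfA.QCohSerre.isQCoh_restrict U.ι h₂.1)
  have hb : IsIso ((restrictFunctor U.ι).map b) := isIso_restrict_unit F₂
  have ha : IsIso ((restrictFunctor U.ι).map a) := by
    have h1 := isIso_restrict_unit (U := U) F₁
    have h2 : IsIso ((pushforward U.ι).map e.hom) := inferInstance
    change IsIso ((restrictFunctor U.ι).map ((restrictAdjunction U.ι).unit.app F₁ ≫ (pushforward U.ι).map e.hom))
    rw [Functor.map_comp]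
    infer_instance
  have hsq : IsPullback (pullback.fst a b) (pullback.snd a b) a b := IsPullback.of_hasPullback a b
  have hsq' := hsq.map (restrictFunctor U.ι)
  refine ⟨pullback a b, pullback.fst a b, pullback.snd a b, ?_, ?_, ?_⟩
  · have i : kernel (biprod.desc a (-b)) ≅ pullback a b :=
      (kernelIsKernel (biprod.desc a (-b))).conePointUniqueUpToIso
        (Abelian.PullbackToBiproductIsKernel.isLimitPullbackToBiproduct a b)
    exact CohBasic.isCoh_of_iso i (CohBasic.isCoh_kernel _ (CohBasic.isCoh_biprod h₁ h₂) hQ)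
  · exact hsq'.isIso_fst_of_isIso
  · exact hsq'.isIso_snd_of_isIso

end K535.CohGlue
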