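import Groth.Agent.Sga67.KosImm
import Groth.Agent.Dual.H376.KosBridge
import Groth.Agent.Flat2H.KoszulWrap
import Groth.Prelude.Def_RegImm
import Mathlib.RingTheory.Flat.EquationalCriterion

/-!
# Charts of a Koszul-regular closed immersion

`Chart i`: an affine open `U` of `X` with a Koszul-regular sequence generating the ideal of `i` over `U`.  Same as
`Sga67.KosImm.Chart`, with Koszul-regular instead of weakly regular sequences.
-/

set_option autoImplicit false

universe u v w

open CategoryTheory CategoryTheory.Limits AlgebraicGeometry Opposite TopologicalSpace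
open scoped TensorProduct
open Groth.Agent
open Groth.Agent.Sga67.Sec Groth.Agent.Sga67.LocBasis Groth.Agent.Sga67.KosAlt Groth.Agent.Sga67.KosStalk
open Groth.Agent.Sga67.KosImm hiding Chart

namespace K535.KrImm

section Flat

/-- Exactness of the Koszul complex of alternating maps with values in a flat module. -/
theorem exists_curryLeft_flat {B : Type u} [CommRing B] {n : ℕ} (g : Fin n → B)
    (hB : ∀ (k : ℕ) (z : Alt B n (k + 1) B), z.curryLeft g = 0 → ∃ w : Alt B n (k + 2) B, w.curryLeft g = z)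
    (E : Type v) [AddCommGroup E] [Module B E] [Module.Flat B E] (k : ℕ) (z : Alt B n (k + 1) E)
    (hz : z.curryLeft g = 0) : ∃ w : Alt B n (k + 2) E, w.curryLeft g = z := by
  let zt : (⋀[B]^(k + 1) (Fin n → B)) →ₗ[B] E := exteriorPower.alternatingMapLinearEquiv z
  let f : (⋀[B]^k (Fin n → B)) →ₗ[B] (⋀[B]^(k + 1) (Fin n → B)) :=
    exteriorPower.alternatingMapLinearEquiv ((exteriorPower.ιMulti B (k + 1)).curryLeft g)
  have hcomp : ∀ {F : Type v} [AddCommGroup F] [Module B F] (t : (⋀[B]^(k + 1) (Fin n → B)) →ₗ[B] F),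
      t ∘ₗ f = exteriorPower.alternatingMapLinearEquiv ((exteriorPower.alternatingMapLinearEquiv.symm t).curryLeft g) := by
    intro F _ _ t
    apply exteriorPower.linearMap_ext
    ext v
    simp [f]
  have hzt : zt ∘ₗ f = 0 := by
    rw [hcomp, LinearEquiv.symm_apply_apply, hz, map_zero]
  obtain ⟨m, a, y, hy, ha⟩ := Module.Flat.exists_factorization_of_comp_eq_zero_of_free (f := f) (x := zt) hzt
  have key : ∀ j : Fin m, ∃ w : Alt B n (k + 2) B, w.curryLeft g =
      exteriorPower.alternatingMapLinearEquiv.symm ((Finsupp.lapply j) ∘ₗ a) := by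
    intro j
    apply hB
    have h1 : ((Finsupp.lapply j) ∘ₗ a) ∘ₗ f = 0 := by rw [LinearMap.comp_assoc, ha, LinearMap.comp_zero]
    apply exteriorPower.alternatingMapLinearEquiv.injective
    rw [map_zero, ← h1]
    apply exteriorPower.linearMap_ext
    ext v
    simp [f]
  choose w hw using key
  refine ⟨∑ j, (LinearMap.toSpanSingleton B E (y (Finsupp.single j 1))).compAlternatingMap (w j), ?_⟩
  ext v
  have h2 : z = exteriorPower.alternatingMapLinearEquiv.symm (y ∘ₗ a) := by
    rw [← hy]; exact (LinearEquiv.symm_apply_apply _ _).symm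
  rw [h2]
  have h3 : ∀ j, (w j) (Matrix.vecCons g v) = (a (exteriorPower.ιMulti B (k + 1) v)) j := by
    intro j
    have := congrArg (fun t : Alt B n (k + 1) B => t v) (hw j)
    simpa using this
  have h4 : y (a (exteriorPower.ιMulti B (k + 1) v)) =
      ∑ j, (a (exteriorPower.ιMulti B (k + 1) v)) j • y (Finsupp.single j 1) := by
    conv_lhs => rw [← Finsupp.univ_sum_single (a (exteriorPower.ιMulti B (k + 1) v))]
    rw [map_sum]
    refine Finset.sum_congr rfl fun j _ => ?_
    rw [← map_smul, Finsupp.smul_single, smul_eq_mul, mul_one]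
  simp only [AlternatingMap.curryLeft_apply_apply]
  rw [Groth.Agent.Sga67.KosImm.Chart.alt_sum_apply]
  simp only [LinearMap.compAlternatingMap_apply, LinearMap.toSpanSingleton_apply, h3]
  rw [← h4]
  simp

end Flat

variable {X Y : Scheme.{u}} (i : Y ⟶ X)

/-- Charts for a closed immersion. -/
structure Chart where
  /-- the open -/
  U : X.Opens
  hU : IsAffineOpen U
  /-- the Koszul-regular sequence -/
  l : List Γ(X, U)
  hl : LCI.IsKoszulRegularSeq Γ(X, U) l
  hker : i.ker.ideal ⟨U, hU⟩ = Ideal.ofList l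

namespace Chart

variable {i} (c : Chart i)

/-- The sequence as a function. -/
def f : Fin c.l.length → Γ(X, c.U) := c.l.get

/-- The open of `Y`. -/
noncomputable def V : Y.Opens := i ⁻¹ᵁ c.U

theorem ofList_eq_span {A : Type u} [CommRing A] (l : List A) : Ideal.ofList l = Ideal.span (Set.range l.get) := by
  unfold Ideal.ofList
  congr 1
  ext a
  simp only [Set.mem_ofPred_eq, Set.mem_range]
  exact List.mem_iff_get

theorem app_f [IsClosedImmersion i] (j : Fin c.l.length) : i.app c.U (c.f j) = 0 := by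
  have h : c.f j ∈ i.ker.ideal ⟨c.U, c.hU⟩ := by
    rw [c.hker, ofList_eq_span]
    exact Ideal.subset_span ⟨j, rfl⟩
  rw [Scheme.Hom.ker_apply] at h
  exact h

theorem ker_stalkMap [IsClosedImmersion i] {y : Y} (hy : i y ∈ c.U) :
    RingHom.ker (i.stalkMap y).hom = Ideal.span (Set.range (fun j => gO X hy (c.f j))) := by
  rw [← CycA.StalkIdeal.stalkIdeal_ker, CycA.StalkIdeal.stalkIdeal_eq_map _ (i y) ⟨c.U, c.hU⟩ hy, c.hker,
    ofList_eq_span, Ideal.map_span, ← Set.range_comp]
  rfl

theorem cn_eq_zero [IsClosedImmersion i] {y : Y} (hy : i y ∈ c.U) (P : X.Modules) (e : StM P (i y))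
    (he : cn i P y e = 0) : ∃ b : Fin c.l.length → StM P (i y), e = ∑ j, gO X hy (c.f j) • b j := by
  have h := cn_ker i P y e he
  rw [c.ker_stalkMap hy] at h
  exact exists_sum_of_mem_span _ _ h

theorem isKoszulRegularSeq_stalk {x : X} (hx : x ∈ c.U) :
    LCI.IsKoszulRegularSeq (X.presheaf.stalk x) (c.l.map (gO X hx)) := by
  let : Algebra Γ(X, c.U) (X.presheaf.stalk x) := (X.presheaf.germ c.U x hx).hom.toAlgebra
  have h1 : IsLocalization.AtPrime (X.presheaf.stalk x)
      (c.hU.primeIdealOf ⟨x, hx⟩).asIdeal := c.hU.isLocalization_stalk ⟨x, hx⟩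
  have h2 : Module.Flat Γ(X, c.U) (X.presheaf.stalk x) :=
    IsLocalization.flat _ (c.hU.primeIdealOf ⟨x, hx⟩).asIdeal.primeCompl
  exact Flat2H.KoszulWrap.isKoszulRegularSeq_map c.hl

theorem exists_curryLeft_eq'' {A : Type u} [CommRing A] {n : ℕ} (g : Fin n → A) (hA : LCI.IsKoszulRegularSeq A (List.ofFn g))
    (k : ℕ) (z : Alt A n (k + 1) A) (hz : z.curryLeft g = 0) : ∃ w : Alt A n (k + 2) A, w.curryLeft g = z := by
  have key : ∀ (rs : List A) (hn : n = rs.length) (_ : ∀ j, g j = rs.get (Fin.cast hn j)),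
      LCI.IsKoszulRegularSeq A rs → ∃ w : Alt A n (k + 2) A, w.curryLeft g = z := by
    intro rs hn
    subst hn
    intro hg hrs
    have hg' : g = rs.get := funext hg
    subst hg'
    exact Dual.H376.KosBridge.exists_curryLeft_eq hrs k z hz
  exact key (List.ofFn g) (List.length_ofFn).symm (fun j => by simp) hA

/-- Koszul exactness on the stalks of the structure sheaf. -/
theorem koszul_exact_str {x : X} (hx : x ∈ c.U) (k : ℕ)
    (z : Alt (X.presheaf.stalk x) c.l.length (k + 1) (X.presheaf.stalk x))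
    (hz : z.curryLeft (fun j => gO X hx (c.f j)) = 0) :
    ∃ w : Alt (X.presheaf.stalk x) c.l.length (k + 2) (X.presheaf.stalk x),
      w.curryLeft (fun j => gO X hx (c.f j)) = z := by
  refine exists_curryLeft_eq'' _ ?_ k z hz
  have h : List.ofFn (fun j => gO X hx (c.f j)) = c.l.map (gO X hx) := by
    have h1 : List.ofFn (fun j => gO X hx (c.f j)) = List.map (gO X hx) (List.ofFn c.l.get) := by
      rw [List.map_ofFn]
      rfl
    rw [h1, List.ofFn_get]
  rw [h]
  exact c.isKoszulRegularSeq_stalk hx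

/-- Koszul exactness on the stalks of a flat module. -/
theorem koszul_exact {x : X} (hx : x ∈ c.U) {P : X.Modules} (hP : FlatMod.IsFlat P) (k : ℕ)
    (z : Alt (X.presheaf.stalk x) c.l.length (k + 1) (StM P x))
    (hz : z.curryLeft (fun j => gO X hx (c.f j)) = 0) :
    ∃ w : Alt (X.presheaf.stalk x) c.l.length (k + 2) (StM P x), w.curryLeft (fun j => gO X hx (c.f j)) = z := by
  have h1 : Module.Flat (X.presheaf.stalk x) (StM P x) := hP x
  exact exists_curryLeft_flat _ (fun k z hz => c.koszul_exact_str hx k z hz) (StM P x) k z hz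

/-- Relations between the elements of the sequence have coefficients in the ideal. -/
theorem coeff_mem {x : X} (hx : x ∈ c.U) (a : Fin c.l.length → X.presheaf.stalk x)
    (ha : ∑ j, a j * gO X hx (c.f j) = 0) (j : Fin c.l.length) :
    a j ∈ Ideal.span (Set.range (fun j => gO X hx (c.f j))) := by
  classical
  let L : (Fin c.l.length → X.presheaf.stalk x) →ₗ[X.presheaf.stalk x] X.presheaf.stalk x :=
    (Pi.basisFun (X.presheaf.stalk x) (Fin c.l.length)).constr (X.presheaf.stalk x) a
  let z : Alt (X.presheaf.stalk x) c.l.length 1 (X.presheaf.stalk x) :=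
    AlternatingMap.ofSubsingleton (X.presheaf.stalk x) _ _ (0 : Fin 1) L
  have hz : ∀ v, z v = L (v 0) := fun v => rfl
  have hL : ∀ v, L v = ∑ j, v j * a j := by
    intro v
    simp only [L, Module.Basis.constr_apply_fintype, Pi.basisFun_equivFun, LinearEquiv.refl_apply, smul_eq_mul]
  have hz0 : z.curryLeft (fun j => gO X hx (c.f j)) = 0 := by
    ext v
    rw [AlternatingMap.curryLeft_apply_apply, hz]
    change L (fun j => gO X hx (c.f j)) = 0
    rw [hL, ← ha]
    exact Finset.sum_congr rfl fun j _ => mul_comm _ _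
  obtain ⟨w, hw⟩ := c.koszul_exact_str hx 0 z hz0
  have h1 : a j = w.curryLeft (fun j => gO X hx (c.f j)) (fun _ => Pi.basisFun _ _ j) := by
    rw [hw, hz, hL, Finset.sum_eq_single j]
    · simp
    · intro l _ hl
      simp [hl]
    · simp
  rw [h1, curryLeft_eq_sum, Groth.Agent.Sga67.KosImm.Chart.alt_sum_apply]
  exact Ideal.sum_mem _ fun l _ => Ideal.mul_mem_right _ _ (Ideal.subset_span ⟨l, rfl⟩)

/-- Smaller charts. -/
theorem exists_le {y : Y} (hy : i y ∈ c.U) (W : X.Opens) (hW : i y ∈ W) :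
    ∃ c' : Chart i, i y ∈ c'.U ∧ c'.U ≤ W ∧ c'.U ≤ c.U ∧ c'.l.length = c.l.length := by
  obtain ⟨a, ha, hya⟩ := c.hU.exists_basicOpen_le ⟨i y, hW⟩ hy
  have hU' : IsAffineOpen (X.basicOpen a) := c.hU.basicOpen a
  let _ : Algebra Γ(X, c.U) Γ(X, X.basicOpen a) := (X.presheaf.map (homOfLE (X.basicOpen_le a)).op).hom.toAlgebra
  have hloc : IsLocalization.Away a Γ(X, X.basicOpen a) := c.hU.isLocalization_basicOpen a
  have hflat : Module.Flat Γ(X, c.U) Γ(X, X.basicOpen a) := IsLocalization.flat _ (Submonoid.powers a)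
  refine ⟨⟨X.basicOpen a, hU', c.l.map (X.presheaf.map (homOfLE (X.basicOpen_le a)).op).hom, ?_, ?_⟩, hya, ha,
    X.basicOpen_le a, ?_⟩
  · exact Flat2H.KoszulWrap.isKoszulRegularSeq_map c.hl
  · have h1 := i.ker.map_ideal (U := ⟨X.basicOpen a, hU'⟩) (V := ⟨c.U, c.hU⟩) (X.basicOpen_le a)
    rw [← h1, c.hker, Ideal.map_ofList]
    rfl
  · exact List.length_map _

end Chart

/-- A Koszul-regular closed immersion has charts. -/
theorem exists_chart {i : Y ⟶ X} [IsClosedImmersion i] (hi : RegImm.IsRegularImmersion .koszul i) (y : Y)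
    (W : X.Opens) (hW : i y ∈ W) : ∃ c : Chart i, i y ∈ c.U ∧ c.U ≤ W := by
  obtain ⟨U, hy, -, l, hl, hk⟩ := hi.2 y
  have hk' : i.ker.ideal ⟨U.1, U.2⟩ = Ideal.ofList l := by
    rw [← hk]
    exact Scheme.Hom.ker_apply i ⟨U.1, U.2⟩
  obtain ⟨c', h1, h2, -⟩ := (Chart.mk U.1 U.2 l hl hk').exists_le hy W hW
  exact ⟨c', h1, h2⟩

end K535.KrImm
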