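import Groth.Agent.KRR.K535.KrImm
import Groth.Agent.KRR.K535.KrConormal
import Groth.Agent.SGA6.K266.BlowLocal
import Groth.Agent.Sga67.BlowPerf3
import Groth.Agent.Sga67.BlowAmple
import Groth.Agent.Flat2C.BlowProper
import Groth.Agent.Flat2C.StrictTr
import Groth.Agent.Krr.H447.LeftInv

/-!
# The blow-up of a Koszul-regular closed immersion is a perfect morphism
-/

set_option autoImplicit false
set_option linter.style.haveILetI false

universe u

open CategoryTheory Limits AlgebraicGeometry BlowUp TopologicalSpace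
open Groth.Agent

attribute [local instance] HasDerivedCategory.standard

namespace K535.KrBlow

open Groth.Agent.Sga67.BlowPerf Groth.Agent.Flat2H Groth.Agent.Flat2H.TorDimHom

section Alg

variable {A : Type u} [CommRing A]

/-- The affine blow-up algebra of an ideal generated by a Koszul-regular sequence in the direction of a member of the
sequence is a perfect algebra. -/
theorem isPerfectHom_affineAlgebra_of_mem (l : List A) (hl : LCI.IsKoszulRegularSeq A l) (a : A)
    (ha : a ∈ l) : MoreMor.IsPerfectHom A (affineAlgebra A (Ideal.ofList l) a) := by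
  obtain ⟨l', hp⟩ : ∃ l', l.Perm (a :: l') := by
    classical
    exact ⟨l.erase a, List.perm_cons_erase ha⟩
  have h1 := hl
  rw [Flat2H.KoszulBC.isKoszulRegularSeq_perm_iff hp] at h1
  have h2 : l' = List.ofFn l'.get := (List.ofFn_get l').symm
  rw [h2] at h1
  refine isPerfectHom_affineAlgebra a l'.get ?_ h1
  rw [← ofList_ofFn, ← h2, ← Ideal.ofList_cons]
  unfold Ideal.ofList
  congr 1
  ext x
  exact hp.mem_iff

/-- The ring of a nonempty Koszul-regular sequence of nilpotent elements is trivial. -/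
theorem subsingleton_of_isNilpotent {l : List A} (hl : LCI.IsKoszulRegularSeq A l) (h0 : 0 < l.length)
    (hn : ∀ a ∈ l, IsNilpotent a) : Subsingleton A := by
  classical
  by_contra hA
  have hA' : Nontrivial A := not_subsingleton_iff_nontrivial.1 hA
  -- a nonzero element killed by the sequence
  obtain ⟨x, hx0, hx⟩ : ∃ x : A, x ≠ 0 ∧ ∀ a ∈ l, a * x = 0 := by
    have key : ∀ (l' : List A) (_ : ∀ a ∈ l', IsNilpotent a) (x₀ : A) (_ : x₀ ≠ 0), ∃ x : A, x ≠ 0 ∧
        (∃ c, x = c * x₀) ∧ ∀ a ∈ l', a * x = 0 := by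
      intro l'
      induction l' with
      | nil => intro _ x₀ hx₀; exact ⟨x₀, hx₀, ⟨1, (one_mul _).symm⟩, by simp⟩
      | cons b l' ih =>
        intro hl' x₀ hx₀
        obtain ⟨x₁, hx₁, ⟨c, hc⟩, hx₁'⟩ := ih (fun a ha => hl' a (List.mem_cons_of_mem _ ha)) x₀ hx₀
        have hb : IsNilpotent b := hl' b List.mem_cons_self
        have hex : ∃ n, b ^ n * x₁ = 0 := by
          obtain ⟨n, hn⟩ := hb
          exact ⟨n, by rw [hn, zero_mul]⟩
        have hm := Nat.find_spec hex
        have hpos : Nat.find hex ≠ 0 := by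
          intro h
          rw [h, pow_zero, one_mul] at hm
          exact hx₁ hm
        obtain ⟨m, hm'⟩ := Nat.exists_eq_succ_of_ne_zero hpos
        refine ⟨b ^ m * x₁, fun h => ?_, ⟨b ^ m * c, by rw [hc]; ring⟩, ?_⟩
        · exact Nat.find_min hex (m := m) (by omega) h
        · intro a ha
          rcases List.mem_cons.1 ha with rfl | ha
          · rw [← mul_assoc, ← pow_succ', ← Nat.succ_eq_add_one, ← hm']
            exact hm
          · rw [mul_left_comm, hx₁' a ha, mul_zero]
    obtain ⟨x, hx0, -, hx⟩ := key l hn 1 one_ne_zero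
    exact ⟨x, hx0, hx⟩
  obtain ⟨n, hn'⟩ : ∃ n, l.length = n + 1 := ⟨l.length - 1, by omega⟩
  have hm : l = List.ofFn (fun j : Fin (n + 1) => l.get (Fin.cast hn'.symm j)) := by
    conv_lhs => rw [← List.ofFn_get l]
    exact List.ofFn_congr hn' _
  rw [hm] at hl
  set g : Fin (n + 1) → A := fun j => l.get (Fin.cast hn'.symm j) with hg
  have hgx : ∀ j, g j * x = 0 := fun j => hx _ (List.get_mem _ _)
  let z : Groth.Agent.Sga67.KosAlt.Alt A (n + 1) (n + 1) A := x • (Pi.basisFun A (Fin (n + 1))).det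
  have hz : z.curryLeft g = 0 := by
    ext v
    change x • ((Pi.basisFun A (Fin (n + 1))).det (Matrix.vecCons g v)) = 0
    rw [Module.Basis.det_apply, Matrix.det_succ_column _ 0, Finset.smul_sum]
    refine Finset.sum_eq_zero fun j _ => ?_
    have h1 : (Pi.basisFun A (Fin (n + 1))).toMatrix (Matrix.vecCons g v) j 0 = g j := by
      simp [Module.Basis.toMatrix_apply]
    rw [h1, smul_eq_mul]
    have h2 := hgx j
    linear_combination ((-1) ^ ((j : ℕ) + ((0 : Fin (n + 1)) : ℕ)) * ((((Pi.basisFun A (Fin (n + 1))).toMatrix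
      (Matrix.vecCons g v)).submatrix j.succAbove (Fin.succAbove 0)).det)) * h2
  obtain ⟨w, hw⟩ := K535.KrImm.Chart.exists_curryLeft_eq'' g hl n z hz
  have hz0 : z = 0 := by
    rw [← hw]
    have hw0 : w = 0 := by
      refine (Pi.basisFun A (Fin (n + 1))).ext_alternating fun v hv => ?_
      have := Fintype.card_le_of_injective v hv
      simp at this
    rw [hw0]
    ext v
    simp
  have h3 : z (Pi.basisFun A (Fin (n + 1))) = x := by
    change x • ((Pi.basisFun A (Fin (n + 1))).det (Pi.basisFun A (Fin (n + 1)))) = x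
    rw [Module.Basis.det_self, smul_eq_mul, mul_one]
  rw [hz0] at h3
  exact hx0 h3.symm

end Alg

variable {X Y X' : Scheme.{u}}

/-- The length of the sequence of a chart is the rank of the conormal module. -/
theorem length_eq {i : Y ⟶ X} [IsClosedImmersion i] (c : K535.KrImm.Chart i) {d : ℕ}
    (hC : FlatMod.IsFinLocFreeOfRank d (Omega.conormal i)) {y : Y} (hy : i y ∈ c.U) : c.l.length = d := by
  obtain ⟨W, hyW, hW⟩ := hC y
  obtain ⟨b, hb⟩ := Groth.Agent.Sga67.LocBasis.nonempty_restrict_iso_iff.1 hW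
  exact Groth.Agent.Sga67.SymPow.card_eq_of_isLocBasis (K535.KrConormal.isLocBasis_fN c) hb y hy hyW

theorem support_ker (i : Y ⟶ X) [IsClosedImmersion i] : (i.ker.support : Set X) = Set.range i := by
  rw [Scheme.Hom.support_ker]
  exact i.isClosedEmbedding.isClosed_range.closure_eq

/-- The complement of a Koszul-regular closed subscheme of codimension `≥ 1` is dense. -/
theorem dense_compl (i : Y ⟶ X) [IsClosedImmersion i] (hi : RegImm.IsRegularImmersion .koszul i) {d : ℕ}
    (hd : 0 < d) (hC : FlatMod.IsFinLocFreeOfRank d (Omega.conormal i)) : Dense (Set.range i)ᶜ := by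
  rw [← interior_eq_empty_iff_dense_compl, Set.eq_empty_iff_forall_notMem]
  intro x hx
  obtain ⟨y, rfl⟩ := interior_subset hx
  obtain ⟨c, hy, hcW⟩ := K535.KrImm.exists_chart hi y ⟨interior (Set.range i), isOpen_interior⟩ hx
  have hn : ∀ a ∈ c.l, IsNilpotent a := by
    intro a ha
    rw [Scheme.isNilpotent_iff_basicOpen_eq_bot_of_isCompact c.hU.isCompact]
    refine le_bot_iff.1 fun z hz => ?_
    have hzU : z ∈ c.U := X.basicOpen_le a hz
    have h1 : z ∈ (i.ker.support : Set X) := by
      rw [support_ker i]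
      exact interior_subset (hcW hzU)
    have h2 := (Scheme.IdealSheafData.mem_support_iff_of_mem (I := i.ker) (U := ⟨c.U, c.hU⟩) hzU).1 h1
    have h3 : a ∈ i.ker.ideal ⟨c.U, c.hU⟩ := by
      rw [c.hker]
      exact Ideal.subset_span ha
    rw [Scheme.mem_zeroLocus_iff] at h2
    exact (h2 a h3) hz
  have hs := subsingleton_of_isNilpotent c.hl (by rw [length_eq c hC hy]; exact hd) hn
  have h4 : Nontrivial Γ(X, c.U) := by
    have : Nonempty c.U := ⟨⟨_, hy⟩⟩
    infer_instance
  exact not_subsingleton _ hs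

/-- The ideal of a Koszul-regular closed immersion is of finite type. -/
theorem isFiniteTypeIdeal_ker (i : Y ⟶ X) [IsClosedImmersion i] (hi : RegImm.IsRegularImmersion .koszul i) :
    BlowUp.IsFiniteTypeIdeal i.ker := by
  refine Flat2C.StrictTr.isFiniteTypeIdeal_of_forall_mem fun x => ?_
  by_cases hx : x ∈ Set.range i
  · obtain ⟨y, rfl⟩ := hx
    obtain ⟨c, hy, -⟩ := K535.KrImm.exists_chart hi y ⊤ trivial
    refine ⟨⟨c.U, c.hU⟩, hy, ?_⟩
    rw [c.hker]
    classical
    exact ⟨c.l.toFinset, by simp [Ideal.ofList]⟩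
  · let W : X.Opens := ⟨(Set.range i)ᶜ, i.isClosedEmbedding.isClosed_range.isOpen_compl⟩
    obtain ⟨U, hxU, hUW, -⟩ := Divis.CartierBasic.exists_affine_le W ⊤ hx trivial
    refine ⟨U, hxU, ?_⟩
    rw [Flat2C.EtaleCentre.ideal_eq_top_of_disjoint i.ker U fun x hxU' hxs => hUW hxU' (support_ker i ▸ hxs)]
    exact ⟨{1}, by simp⟩

/-- A morphism `f` is perfect near the points of a chart of the blow-up. -/
theorem perfRing_chart (f : X' ⟶ X) (J : X.IdealSheafData) (hf : IsBlowUp f J)
    (U : X.affineOpens) (l : List Γ(X, U.1)) (hl : LCI.IsKoszulRegularSeq Γ(X, U.1) l)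
    (hJ : J.ideal U = Ideal.ofList l) (x' : X') (hx' : f x' ∈ U.1) :
    ∃ (V : X.affineOpens) (W : X'.affineOpens) (_ : x' ∈ W.1) (e : W.1 ≤ f ⁻¹ᵁ V.1),
      PerfRing (f.appLE V W e).hom := by
  obtain ⟨a, ha, hxa⟩ := Divis.BlowChart2.exists_mem_chart_of_span f J U hf.1 (s := {a | a ∈ l}) hJ x' hx'
  have haJ : a ∈ J.ideal U := by
    rw [hJ]
    exact Ideal.subset_span ha
  refine ⟨U, ⟨_, Divis.BlowChart2.isAffineOpen_chart f J U hf haJ⟩, hxa, Divis.BlowChart2.chart_le f J U a, ?_⟩
  obtain ⟨θ, hθ⟩ := Divis.BlowChart2.exists_ringEquiv_chart f J U hf haJ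
  have h1 : (f.appLE U.1 (Divis.BlowChart2.chart f J U a) (Divis.BlowChart2.chart_le f J U a)).hom =
      (θ : _ →+* _).comp (algebraMap Γ(X, U.1) (affineAlgebra Γ(X, U.1) (J.ideal U) a)) := by
    ext c
    exact (hθ c).symm
  rw [h1]
  apply perfRing_respectsIso.1
  rw [perfRing_algebraMap_iff, hJ]
  exact isPerfectHom_affineAlgebra_of_mem l hl a ha

/-- The blow-up of a scheme in a Koszul-regularly embedded closed subscheme is a perfect morphism. -/
theorem isPerfectMor_of_isBlowUp (i : Y ⟶ X) [IsClosedImmersion i] (hi : RegImm.IsRegularImmersion .koszul i)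
    (f : X' ⟶ X) (hf : BlowUp.IsBlowUp f i.ker) : MoreMor.IsPerfectMor f := by
  refine isPerfectMor_of_exists_appLE f fun x' => ?_
  by_cases hx : f x' ∈ Set.range i
  · obtain ⟨y, hy⟩ := hx
    obtain ⟨c, hyU, -⟩ := K535.KrImm.exists_chart hi y ⊤ trivial
    exact perfRing_chart f i.ker hf ⟨c.U, c.hU⟩ c.l c.hl c.hker x' (hy ▸ hyU)
  · let W : X.Opens := ⟨(Set.range i)ᶜ, i.isClosedEmbedding.isClosed_range.isOpen_compl⟩
    obtain ⟨U, hxU, hUW, -⟩ := Divis.CartierBasic.exists_affine_le W ⊤ hx trivial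
    have h1 : Ideal.ofList [(1 : Γ(X, U.1))] = ⊤ := by
      rw [Ideal.ofList_singleton, Ideal.span_singleton_one]
    refine perfRing_chart f i.ker hf U [1] (Flat2H.KoszulLoc.isKoszulRegularSeq_of_ofList_eq_top h1) ?_ x' hxU
    rw [Flat2C.EtaleCentre.ideal_eq_top_of_disjoint i.ker U fun x hxU' hxs => hUW hxU' (support_ker i ▸ hxs), h1]

end K535.KrBlow
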