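import Groth.Agent.KRR.K535.KrBlow
import Groth.Agent.S4495

/-!
# The blow-up of a connected scheme in a Koszul-regular closed subscheme of codimension `≥ 1` is connected
-/

set_option autoImplicit false

universe u

open CategoryTheory CategoryTheory.Limits AlgebraicGeometry Opposite
open Groth.Agent

namespace K535.KrBlowConn

variable {X X' : Scheme.{u}}

/-- If the unit of the structure sheaf is an isomorphism then the global sections agree. -/
theorem bijective_appTop (f : X' ⟶ X)
    (h1 : IsIso ((Scheme.Modules.pullbackPushforwardAdjunction f).unit.app (Coh.structureModule X))) :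
    Function.Bijective (f.app ⊤) := by
  have h : IsIso (Fga.UnitRestrict.unitToPush f) := by
    rw [← Fga.UnitRestrict.unit_pullbackUnitHom]
    infer_instance
  rw [Scheme.Modules.Hom.isIso_iff_isIso_app] at h
  have h2 := h ⊤
  rw [ConcreteCategory.isIso_iff_bijective] at h2
  exact h2

/-- If `O_X = f_* O_X'` and `X` is connected then `X'` is connected. -/
theorem connectedSpace_of_unit [ConnectedSpace X] (f : X' ⟶ X)
    (h1 : IsIso ((Scheme.Modules.pullbackPushforwardAdjunction f).unit.app (Coh.structureModule X))) :
    ConnectedSpace X' := by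
  have hb := bijective_appTop f h1
  have hpre : PreconnectedSpace X' := by
    have hX : PreconnectedSpace X := inferInstance
    have h2 := (Groth.Agent.S4495.result X.toLocallyRingedSpace).1 hX
    refine (Groth.Agent.S4495.result X'.toLocallyRingedSpace).2 fun e he => ?_
    obtain ⟨e₀, rfl⟩ := hb.2 e
    have he' : f.app ⊤ e₀ * f.app ⊤ e₀ = f.app ⊤ e₀ := he
    have he₀ : e₀ * e₀ = e₀ := hb.1 (by rw [map_mul]; exact he')
    rcases h2 e₀ he₀ with h | h
    · left
      have h' : e₀ = 0 := h
      rw [h']
      exact map_zero _
    · right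
      have h' : e₀ = 1 := h
      rw [h']
      exact map_one _
  have hne : Nonempty X' := by
    by_contra hne
    have hE : IsEmpty X' := not_nonempty_iff.1 hne
    have hs : Subsingleton Γ(X', f ⁻¹ᵁ ⊤) := by
      infer_instance
    have hs' : Subsingleton Γ(X, ⊤) := hb.1.subsingleton
    obtain ⟨x⟩ : Nonempty X := inferInstance
    have hne' : Nonempty (⊤ : X.Opens) := ⟨⟨x, trivial⟩⟩
    have hn : Nontrivial Γ(X, ⊤) := inferInstance
    exact not_subsingleton _ hs'
  exact { toPreconnectedSpace := hpre, toNonempty := hne }

/-- The blow-up of a connected scheme in a Koszul-regular closed subscheme of codimension `≥ 1` is connected. -/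
theorem connectedSpace_blowUp [ConnectedSpace X] {Y : Scheme.{u}} (i : Y ⟶ X) [IsClosedImmersion i]
    (hi : RegImm.IsRegularImmersion .koszul i) {d : ℕ} (hd : 0 < d)
    (hC : FlatMod.IsFinLocFreeOfRank d (Omega.conormal i)) (f : X' ⟶ X) (hf : BlowUp.IsBlowUp f i.ker) :
    ConnectedSpace X' :=
  connectedSpace_of_unit f
    (K266.BlowLocal.isIso_unit i hi (K535.KrBlow.dense_compl i hi hd hC) f hf)

end K535.KrBlowConn
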