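import Groth.Agent.KRR.K535.KrBlow
import Groth.Agent.Krr.H472.BlowPush
import Groth.Agent.Krr.H472.PullModel
import Groth.Agent.Krr.H498.ResClass

/-!
# `f^K` is injective for the blow-up of a Koszul-regular closed immersion
-/

set_option autoImplicit false

universe v w u

open CategoryTheory CategoryTheory.Limits AlgebraicGeometry Pretriangulated
open Groth.Agent

attribute [local instance] HasDerivedCategory.standard

namespace K535.KrBlowInj

open Groth.Agent.Dcoh.DerSch Groth.Agent.Dcoh.DerPull Groth.Agent.PerfA.PerfLocal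
open Groth.Agent.Krr.H467.DerPush Groth.Agent.Krr.H496.PullK0 Groth.Agent.Krr.H498

variable {X Y : Scheme.{u}}

attribute [local instance] hasRpush

/-- `f^K` is injective when `Rf_* O_X = O_Y` and `Rf_*` preserves perfect complexes. -/
theorem pullK0_injective [CompactSpace Y] [QuasiSeparatedSpace Y] (hY : KRR.HasEnoughLocFree Y)
    [CompactSpace X] [QuasiSeparatedSpace X] (hX : KRR.HasEnoughLocFree X) (f : X ⟶ Y)
    (hf : PushPerf f)
    (h : Nonempty ((DCoh.Rpush f).obj (DCoh.inD X (Coh.structureModule X)) ≅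
      DCoh.inD Y (Coh.structureModule Y))) : Function.Injective (pullK0 f) := by
  have key : ((pushK f hf).comp (ResClass.rho hX).toAddMonoidHom).comp (pullK0 f) =
      (ResClass.rho hY).toAddMonoidHom := by
    refine Groth.Agent.Sga67.K0Basic.hom_ext_sub fun E hE => ?_
    have hE' := Groth.Agent.PerfB.FlatPull.isFinLocFree_pullback f hE
    obtain ⟨e⟩ := Groth.Agent.Krr.H472.PullInj.nonempty_rpush_pullback f h E hE
    change pushK f hf (ResClass.rho hX (pullK0 f (KRR.cl Y E))) = ResClass.rho hY (KRR.cl Y E)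
    rw [pullK0_cl f hE, ResClass.rho_cl hX hE', pushK_clTr f hf (isPerfect_inD_of_isFinLocFree hE'),
      ResClass.rho_cl hY hE]
    exact clTr_iso e
  intro x y hxy
  apply (ResClass.rho hY).injective
  have h1 := congrArg (pushK f hf) (congrArg (ResClass.rho hX) hxy)
  have h2 := DFunLike.congr_fun key x
  have h3 := DFunLike.congr_fun key y
  exact h2.symm.trans (h1.trans h3)

/-- **`f^K` is injective for the blow-up `f` of a Koszul-regular closed immersion of codimension `≥ 1` in a scheme with
an ample module.** -/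
theorem pullK0_injective_blowUp {X' : Scheme.{u}} (L : X.Modules) (hL : CohB1.IsAmple L) (i : Y ⟶ X)
    [IsClosedImmersion i] (hi : RegImm.IsRegularImmersion .koszul i) {d : ℕ} (hd : 0 < d)
    (hC : FlatMod.IsFinLocFreeOfRank d (Omega.conormal i)) [CompactSpace X] [QuasiSeparatedSpace X]
    (hX : KRR.HasEnoughLocFree X) [CompactSpace X'] [QuasiSeparatedSpace X'] (hX' : KRR.HasEnoughLocFree X')
    (f : X' ⟶ X) (hf : BlowUp.IsBlowUp f i.ker) : Function.Injective (pullK0 f) := by
  have hft := K535.KrBlow.isFiniteTypeIdeal_ker i hi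
  have : IsProper f := Groth.Agent.Flat2C.BlowProper.isProper_of_isBlowUp hf hft
  have hdense := K535.KrBlow.dense_compl i hi hd hC
  have hperf := K535.KrBlow.isPerfectMor_of_isBlowUp i hi f hf
  have hpush : PushPerf f := Groth.Agent.Krr.H447.LeftInv.pushPerf_of_ample ⟨L, hL⟩
    (Groth.Agent.Sga67.BlowAmple.exists_isAmple hf L hL) f hperf
  refine pullK0_injective hX hX' f hpush ?_
  refine Groth.Agent.Krr.H472.BlowPush.nonempty_rpush_structure f
    (K266.BlowLocal.isIso_unit i hi hdense f hf) fun q hq => ?_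
  have h0 := K266.BlowLocal.isZero i hi hdense f hf 0 q hq
  rw [pow_zero] at h0
  obtain ⟨e⟩ : Nonempty (Coh.structureModule X' ≅ ClSub.idealMod (1 : X'.IdealSheafData)) := by
    refine Dix.IdealModCartier.idealMod_principal (D := (1 : X'.IdealSheafData)) (a := (1 : Γ(X', ⊤))) ?_
    intro W hW
    rw [map_one]
    refine ⟨one_mem _, ?_⟩
    rw [Ideal.span_singleton_one]
    rfl
  exact h0.of_iso ((Coh.RpushAb f q).mapIso ((SheafOfModules.toSheaf X'.ringCatSheaf).mapIso e))

end K535.KrBlowInj
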