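import Groth.Agent.KRR.K535.KrGlobal
import Groth.Agent.Krr.H468.KosChain

/-!
# The homology of `f^* L` for a finite locally free resolution `L → f_* F`, `f` a Koszul-regular closed immersion

Same as `Krr.H468.KosChain`, for Koszul-regular closed immersions.
-/

set_option autoImplicit false
universe u
open CategoryTheory CategoryTheory.Limits AlgebraicGeometry
open Groth.Agent
open Groth.Agent.Krr.H489.PullRes Groth.Agent.Krr.H498 Groth.Agent.Sga67.KosStalk Groth.Agent.Sga67
open Groth.Agent.Krr.H468.KosChain (datOf hdPull)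

namespace K535.KrChain

variable {X Y : Scheme.{u}} {f : X ⟶ Y} [IsClosedImmersion f] {F : X.Modules} {L : ChainComplex Y.Modules ℕ}
  {π : L ⟶ (ChainComplex.single₀ Y.Modules).obj ((Scheme.Modules.pushforward f).obj F)}

/-- `H_p(f^* L) ≅ F ⊗ Λ^p C`. -/
theorem nonempty_homology (hf : RegImm.IsRegularImmersion .koszul f) (hL : ∀ k, FlatMod.IsFlat (L.X k))
    (h : ResCat.Ex π) (p : ℕ) {E : X.Modules} (hE : ExtPow.IsExtPow p (Omega.conormal f) E) :
    Nonempty ((pullCx f L).homology p ≅ CohB1.tensorMod F E) := by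
  exact KrGlobal.nonempty_iso (datOf hL h) (hdPull hL h p) hf hE

/-- `H_p(f^* L) = 0` for `p` larger than the rank of the conormal module. -/
theorem isZero_homology (hf : RegImm.IsRegularImmersion .koszul f) (hL : ∀ k, FlatMod.IsFlat (L.X k))
    (h : ResCat.Ex π) {r : ℕ} (hN : FlatMod.IsFinLocFreeOfRank r (Omega.conormal f)) (p : ℕ) (hp : r < p) :
    IsZero ((pullCx f L).homology p) := by
  exact KrGlobal.isZero (datOf hL h) (hdPull hL h p) hf hN hp

/-- `H_p(f^* L)` is finite locally free. -/
theorem isFinLocFree_homology (hf : RegImm.IsRegularImmersion .koszul f) (hL : ∀ k, FlatMod.IsFlat (L.X k))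
    (h : ResCat.Ex π) (hF : FlatMod.IsFinLocFree F) (p : ℕ) {E : X.Modules} (hE : ExtPow.IsExtPow p (Omega.conormal f) E)
    (hE' : FlatMod.IsFinLocFree E) : FlatMod.IsFinLocFree ((pullCx f L).homology p) := by
  obtain ⟨e⟩ := nonempty_homology hf hL h p hE
  exact LocBasis.isFinLocFree_of_iso e.symm (LocBasis.isFinLocFree_tensorMod hF hE')

end K535.KrChain
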