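import Groth.Agent.Krr.H468.EulerCx
import Groth.Agent.Sga67.KvbRing
import Groth.Agent.Sga67.SesImage
import Groth.Agent.Dcoh.Spread

/-!
# The Euler characteristic of a complex of bundles with bundle homology

`sum_cl`: `Σ_{k ≤ N} (-1)^k [P_k] = Σ_{k ≤ N} (-1)^k [H_k(P)]` in `K₀(vect Z)` for a complex `P` indexed by `ℕ`, zero in
degree `N + 1`, whose terms and homology modules are finite locally free (any scheme `Z`).
-/

set_option autoImplicit false
universe u
open CategoryTheory CategoryTheory.Limits AlgebraicGeometry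
open Groth.Agent
attribute [local instance] HasDerivedCategory.standard

namespace K535.KrEuler

open Groth.Agent.Krr.H468.EulerCx

variable {Z : Scheme.{u}}

theorem isFinLocFree_kernel {S : ShortComplex Z.Modules} (hS : S.ShortExact)
    (h₂ : FlatMod.IsFinLocFree S.X₂) (h₃ : FlatMod.IsFinLocFree S.X₃) :
    FlatMod.IsFinLocFree S.X₁ := by
  have := hS.epi_g
  exact Dcoh.Spread.isFinLocFree_of_isLimit_kernelFork h₂ h₃ S.f S.g S.zero hS.fIsKernel

theorem cl_isZero {M : Z.Modules} (h : IsZero M) : KRR.cl Z M = 0 := Sga67.SesImage.clSub_zero _ h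

theorem cl_iso {M N : Z.Modules} (e : M ≅ N) (h : FlatMod.IsFinLocFree M) : KRR.cl Z M = KRR.cl Z N :=
  Sga67.KvbRing.c_iso e h

theorem cl_ses {S : ShortComplex Z.Modules} (hS : S.ShortExact)
    (h₁ : FlatMod.IsFinLocFree S.X₁) (h₂ : FlatMod.IsFinLocFree S.X₂)
    (h₃ : FlatMod.IsFinLocFree S.X₃) : KRR.cl Z S.X₂ = KRR.cl Z S.X₁ + KRR.cl Z S.X₃ :=
  Sga67.KvbRing.c_ses hS h₁ h₂ h₃

variable (P : ChainComplex Z.Modules ℕ)
  (hP : ∀ k, FlatMod.IsFinLocFree (P.X k)) (hH : ∀ k, FlatMod.IsFinLocFree (P.homology k))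

include hP hH in
theorem flf_cycles_bd (k : ℕ) : FlatMod.IsFinLocFree (P.cycles k) ∧ FlatMod.IsFinLocFree (bd P k) := by
  have key : ∀ k, FlatMod.IsFinLocFree (P.cycles k) → FlatMod.IsFinLocFree (bd P k) := fun k h =>
    isFinLocFree_kernel (ses_hom P k) h (hH k)
  induction k with
  | zero =>
    have := isIso_iCycles_zero P
    have h0 : FlatMod.IsFinLocFree (P.cycles 0) :=
      Sga67.LocBasis.isFinLocFree_of_iso (asIso (P.iCycles 0)).symm (hP 0)
    exact ⟨h0, key 0 h0⟩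
  | succ k ih =>
    have h0 : FlatMod.IsFinLocFree (P.cycles (k + 1)) := isFinLocFree_kernel (ses_cyc P k) (hP (k + 1)) ih.2
    exact ⟨h0, key (k + 1) h0⟩

include hP hH in
theorem sum_cl_aux (N : ℕ) : ∑ k ∈ Finset.range (N + 1), (-1 : ℤ) ^ k • KRR.cl Z (P.X k) =
    (-1 : ℤ) ^ N • KRR.cl Z (P.cycles N) + ∑ k ∈ Finset.range N, (-1 : ℤ) ^ k • KRR.cl Z (P.homology k) := by
  induction N with
  | zero =>
    have := isIso_iCycles_zero P
    rw [zero_add, Finset.sum_range_one, Finset.range_zero, Finset.sum_empty, add_zero, pow_zero, one_smul, one_smul]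
    exact cl_iso (asIso (P.iCycles 0)).symm (hP 0)
  | succ N ih =>
    have h1 : KRR.cl Z (P.cycles N) = KRR.cl Z (bd P N) + KRR.cl Z (P.homology N) :=
      cl_ses (ses_hom P N) (flf_cycles_bd P hP hH N).2 (flf_cycles_bd P hP hH N).1 (hH N)
    have h2 : KRR.cl Z (P.X (N + 1)) = KRR.cl Z (P.cycles (N + 1)) + KRR.cl Z (bd P N) :=
      cl_ses (ses_cyc P N) (flf_cycles_bd P hP hH (N + 1)).1 (hP (N + 1)) (flf_cycles_bd P hP hH N).2
    rw [Finset.sum_range_succ, ih, Finset.sum_range_succ, h1, h2, pow_succ]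
    simp only [mul_neg, mul_one, smul_add, neg_smul]
    abel

include hP hH in
/-- The Euler characteristic. -/
theorem sum_cl (N : ℕ) (hN : IsZero (P.X (N + 1))) :
    ∑ k ∈ Finset.range (N + 1), (-1 : ℤ) ^ k • KRR.cl Z (P.X k) =
      ∑ k ∈ Finset.range (N + 1), (-1 : ℤ) ^ k • KRR.cl Z (P.homology k) := by
  have h3 : IsZero (bd P N) := by
    have := (ses_cyc P N).epi_g
    exact IsZero.of_epi (toBd P N) hN
  have h1 : KRR.cl Z (P.cycles N) = KRR.cl Z (bd P N) + KRR.cl Z (P.homology N) :=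
    cl_ses (ses_hom P N) (flf_cycles_bd P hP hH N).2 (flf_cycles_bd P hP hH N).1 (hH N)
  rw [sum_cl_aux P hP hH, Finset.sum_range_succ, h1, cl_isZero h3, zero_add, add_comm]

end K535.KrEuler
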