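import Groth.Agent.KRR.K535.KrImm
import Groth.Agent.Krr.H500.UVanish

/-!
# The maps `H_p(J^{n+1} ⊗ φ^* L) ⟶ H_p(J^n ⊗ φ^* L)` vanish (Koszul-regular immersions)

Same as `Krr.H500.UVanish`, for Koszul-regular closed immersions.
-/

set_option autoImplicit false

universe u v w

open CategoryTheory Category Limits MonoidalCategory AlgebraicGeometry
open Groth.Agent Groth.Agent.Krr.H500
open KosEval KosLocal KosMod StalkCx Groth.Agent.Dcoh.Stalk Groth.Agent.Krr.H468.TCx Groth.Agent.Krr.H489.PullRes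
open Groth.Agent.Flat2D.PbStalk Groth.Agent.CycB.PushStalk Groth.Agent.Sga67.IdealPow CohIII
open Groth.Agent.Ega3A.Koszul Groth.Agent.Flat2H.KoszulBasic
open Groth.Agent.Krr.H500.UVanish hiding exists_seq exists_seq' map_incl_eq_zero

namespace K535.KrVan

variable {X Y X₁ Y₁ : Scheme.{u}} {f : X ⟶ Y} {φ : Y₁ ⟶ Y} {f₁ : X₁ ⟶ Y₁} {ψ : X₁ ⟶ X}

/-- A Koszul-regular sequence of generators of the ideal of the stalk. -/
theorem exists_seq {X Y : Scheme.{u}} (i : Y ⟶ X) [IsClosedImmersion i] (hi : RegImm.IsRegularImmersion .koszul i)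
    (y : Y) : ∃ fs : List (X.presheaf.stalk (i y)), LCI.IsKoszulRegularSeq _ fs ∧
      Ideal.span {x | x ∈ fs} = RingHom.ker (i.stalkMap y).hom := by
  obtain ⟨c, hc, -⟩ := KrImm.exists_chart hi y ⊤ trivial
  refine ⟨_, c.isKoszulRegularSeq_stalk hc, ?_⟩
  rw [c.ker_stalkMap hc]
  congr 1
  ext t
  simp only [List.mem_map, Set.mem_ofPred_eq, Set.mem_range]
  constructor
  · rintro ⟨a, ha, rfl⟩
    obtain ⟨j, hj⟩ := List.mem_iff_get.1 ha
    exact ⟨j, by rw [← hj]; rfl⟩
  · rintro ⟨j, rfl⟩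
    exact ⟨c.f j, List.get_mem _ _, rfl⟩

theorem exists_seq' [IsClosedImmersion f] (hf : RegImm.IsRegularImmersion .koszul f) (x : X) {y : Y} (hy : f x = y) :
    ∃ a : List (Y.presheaf.stalk y), LCI.IsKoszulRegularSeq _ a ∧
      Ideal.span {t | t ∈ a} = RingHom.ker (stalkTo f x hy).hom := by
  subst hy
  rw [stalkTo_rfl]
  exact exists_seq f hf x

/-- **The maps `U_p(J^{n+1}) ⟶ U_p(J^n)` vanish.** -/
theorem map_incl_eq_zero [IsClosedImmersion f] [IsClosedImmersion f₁] (hsq : IsPullback f₁ ψ φ f)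
    (hf : RegImm.IsRegularImmersion .koszul f) (hf₁ : RegImm.IsRegularImmersion .koszul f₁) {F : X.Modules} (hF : FlatMod.IsFinLocFree F) {n : ℕ}
    {L : ChainComplex Y.Modules ℕ} {π : L ⟶ (ChainComplex.single₀ Y.Modules).obj ((Scheme.Modules.pushforward f).obj F)}
    (hL : KRR.IsLFRes ((Scheme.Modules.pushforward f).obj F) n L π) (m p : ℕ) :
    (U (pullCx φ L) p).map (incl f₁ m) = 0 := by
  apply Dcoh.StalkMod.hom_ext_stalk
  intro y
  suffices h : (stalkF y).map ((U (pullCx φ L) p).map (incl f₁ m)) = 0 by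
    have h1 : (stalkF y).map ((U (pullCx φ L) p).map (incl f₁ m)) = (stalkF y).map 0 := by
      rw [h, Functor.map_zero]
    exact congrArg ModuleCat.Hom.hom h1
  refine stalk_map_eq_zero φ y L (incl f₁ m) p ?_
  obtain ⟨P, hP⟩ := exists_stalkRes hL (φ y)
  rw [← hP]
  by_cases hy : φ y ∈ Set.range f
  · obtain ⟨x, hx⟩ := hy
    obtain ⟨x₁, hx₁, -⟩ : ∃ z : X₁, f₁ z = y ∧ ψ z = x := by
      obtain ⟨z, h1, h2⟩ := Scheme.Pullback.exists_preimage_pullback (f := φ) (g := f) y x hx.symm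
      refine ⟨hsq.isoPullback.inv z, ?_, ?_⟩
      · rw [← Scheme.Hom.comp_apply, hsq.isoPullback_inv_fst, h1]
      · rw [← Scheme.Hom.comp_apply, hsq.isoPullback_inv_snd, h2]
    subst hx₁
    have hw : f (ψ x₁) = φ (f₁ x₁) := by
      rw [← Scheme.Hom.comp_apply, ← Scheme.Hom.comp_apply, hsq.w]
    obtain ⟨a, ha, hak⟩ := exists_seq' hf (ψ x₁) hw
    obtain ⟨b, hb, hbk⟩ := exists_seq f₁ hf₁ x₁
    obtain ⟨r, ⟨e⟩⟩ := exists_push_equiv hF (ψ x₁) hw
    rw [← hak] at e
    refine vanish_ext (b := b) ha ?_ e _ (fun i => ?_) P p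
    · rw [← Ideal.map_ofList, ofList_eq_span, ofList_eq_span, hak, hbk]
      exact (Sga3C.QStalkKer.ker_stalkMap_of_isPullback hsq x₁ hw).symm
    · exact koszul_stalk f₁ x₁ b hb hbk m i
  · have hs : Subsingleton ((stalkF (φ y)).obj ((Scheme.Modules.pushforward f).obj F)) := by
      refine subsingleton_stalk_push f F (φ y) ?_
      rw [f.isClosedEmbedding.isClosed_range.closure_eq]
      exact hy
    refine vanish_ext (a := [1]) (b := [1]) (r := 0) (Flat2H.KoszulBC.isKoszulRegularSeq_of_isWeaklyRegular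
      (weaklyRegular_one _)) ?_ ?_ _ (fun i => ?_) P p
    · simp
    · exact { toFun := fun _ => 0, invFun := fun _ => 0, map_add' := fun _ _ => by simp,
              map_smul' := fun _ _ => by simp, left_inv := fun _ => Subsingleton.elim _ _,
              right_inv := fun _ => Subsingleton.elim _ _ }
    · exact (kv_iff _ _).1 (kv_one _) i

end K535.KrVan
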