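import Groth.Agent.KRR.K535.KrConormal
import Groth.Agent.Krr.H496.ExcBundle
import Groth.Agent.CalgB.QuasiRegular
import Groth.Agent.Sga67.KoszulH1

/-!
# The exceptional divisor of the blow-up of a Koszul-regular closed immersion is a projective bundle

Same as `Krr.H496.ExcBundle`, for Koszul-regular closed immersions.
-/

set_option autoImplicit false
universe u

open CategoryTheory CategoryTheory.Limits AlgebraicGeometry Opposite TopologicalSpace BlowUp
open Groth.Agent

namespace K535.KrExcBundle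

open Groth.Agent.Dix.IdealModCartier
open Groth.Agent.Krr.H496.GenLocus Groth.Agent.Krr.H496.ProjCrit Groth.Agent.Krr.H496.ConMapSec
open Groth.Agent.Krr.H496.ExcCoord Groth.Agent.Krr.H496.ExcChart
open Groth.Agent.Grpsch.ConormalIso Groth.Agent.Sga67.Sec Groth.Agent.Sga67.LocBasis
open Groth.Agent.Krr.H487.LocBasisPull Groth.Agent.Krr.H496.ExcBundle

variable {X Y Z X₁ : Scheme.{u}} {f : X ⟶ Y} {φ : Z ⟶ Y} {f₁ : X₁ ⟶ Z} {ψ : X₁ ⟶ X}

/-- **The exceptional divisor is the projective bundle of the conormal module.** -/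
theorem isProjBundle_exc [QuasiCompact f] [QuasiCompact f₁] [IsClosedImmersion f] (hf : RegImm.IsRegularImmersion .koszul f)
    (hφ : IsBlowUp φ f.ker) (hsq : IsPullback f₁ ψ φ f) :
    KRR.IsProjBundle ψ (Omega.conormal f) (Omega.conormal f₁) (conormalMap hsq.w) := by
  have : IsClosedImmersion f₁ :=
    MorphismProperty.of_isPullback (P := @IsClosedImmersion) hsq.flip inferInstance
  have hO1 : IsInv (Omega.conormal f₁) := isInv_pullback f₁ (isInv_idealMod (isEff_exc hφ hsq))
  have : Epi (conormalMap hsq.w) := epi_conormalMap hsq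
  refine isProjBundle_of_chartCond ψ (conormalMap hsq.w) hO1 fun x => ?_
  obtain ⟨c, hx, -⟩ := K535.KrImm.exists_chart hf x ⊤ trivial
  let s : Fin c.l.length → Sec (ClSub.idealMod f.ker) c.U :=
    fun i => K535.KrConormal.fI c i
  have hs : ∀ i, val f.ker (s i) = c.f i := fun i => K535.KrConormal.vl_fI c i
  have hs' : (fun i => val f.ker (s i)) = c.f := funext hs
  refine ⟨f ⁻¹ᵁ c.U, c.l.length, eN f s, hx, K535.KrConormal.isLocBasis_fN c, fun j => ?_⟩
  refine chartCond_exc hφ hsq ⟨c.U, c.hU⟩ s ?_ ?_ j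
  · rw [hs', c.hker, K535.KrImm.Chart.ofList_eq_span]
    rfl
  · rw [hs']
    exact Groth.Agent.CalgB.QuasiRegular.isQuasiRegular_of_isH1Regular
      (Groth.Agent.Sga67.KoszulH1.isH1Regular_of_isKoszulRegularSeq c.l c.hl)

end K535.KrExcBundle
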