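import Groth.Agent.KRR.K535.KrExc
import Groth.Agent.Krr.H487.KerRank

/-!
# The excess intersection formula for a Koszul-regular closed immersion (no Noetherian hypothesis)

`excess`: `φ^K (f_K x) = (f₁)_K (λ_{-1}(ψ^*C - C₁) · ψ^K x)`.
-/

set_option autoImplicit false
universe v u
open CategoryTheory CategoryTheory.Limits AlgebraicGeometry
open Groth.Agent
attribute [local instance] HasDerivedCategory.standard

namespace K535.KrExcFinal

/-- The excess intersection formula: `f` Koszul-regular, `f₁` regular. -/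
theorem excess {X Y X₁ Y₁ : Scheme.{u}} [CompactSpace Y] [QuasiSeparatedSpace Y] (hY : KRR.HasEnoughLocFree Y)
    [CompactSpace Y₁] [QuasiSeparatedSpace Y₁] (hY₁ : KRR.HasEnoughLocFree Y₁)
    (f : X ⟶ Y) [IsClosedImmersion f] (hf : RegImm.IsRegularImmersion .koszul f) [ConnectedSpace ↥X] (d : ℕ)
    (hC : FlatMod.IsFinLocFreeOfRank d (Omega.conormal f))
    (φ : Y₁ ⟶ Y) (f₁ : X₁ ⟶ Y₁) (ψ : X₁ ⟶ X) (hsq : IsPullback f₁ ψ φ f)
    [IsClosedImmersion f₁] (hf₁ : Mor2.IsRegularClosedImmersion f₁) [ConnectedSpace ↥X₁] (d₁ : ℕ)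
    (hC₁ : FlatMod.IsFinLocFreeOfRank d₁ (Omega.conormal f₁))
    (KX : Type v) [CommRing KX] [LambdaRing.LambdaOps KX] (PX : LambdaRing.PosStructure KX) (φX : SGA6.Kvb X →+ KX) (hKX : KRR.IsModel X KX PX φX)
    (KY : Type v) [CommRing KY] (φY : SGA6.Kvb Y →+ KY)
    (KX₁ : Type v) [CommRing KX₁] [LambdaRing.LambdaOps KX₁] (PX₁ : LambdaRing.PosStructure KX₁) (φX₁ : SGA6.Kvb X₁ →+ KX₁) (hKX₁ : KRR.IsModel X₁ KX₁ PX₁ φX₁)
    (KY₁ : Type v) [CommRing KY₁] (φY₁ : SGA6.Kvb Y₁ →+ KY₁)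
    (gφ : KY →+ KY₁) (hgφ : KRR.IsPull φ φY φY₁ gφ) (gψ : KX →+ KX₁) (hgψ : KRR.IsPull ψ φX φX₁ gψ)
    (gf : KX →+ KY) (hgf : KRR.IsPushCl f φX φY gf) (gf₁ : KX₁ →+ KY₁) (hgf₁ : KRR.IsPushCl f₁ φX₁ φY₁ gf₁)
    (x : KX) :
    gφ (gf x) = gf₁ (KRR.lamAlt PX₁ (gψ (φX (KRR.cl X (Omega.conormal f))) - φX₁ (KRR.cl X₁ (Omega.conormal f₁))) * gψ x) := by
  have hCf : FlatMod.IsFinLocFree (Omega.conormal f) := Groth.Agent.Krr.H487.KerRank.isFinLocFree_of_rank hC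
  -- the excess bundle
  let q : (Scheme.Modules.pullback ψ).obj (Omega.conormal f) ⟶ Omega.conormal f₁ :=
    Groth.Agent.Grpsch.ConormalIso.conormalMap hsq.w
  have hq : Epi q := Groth.Agent.Grpsch.ConormalIso.epi_conormalMap hsq
  have hψC : FlatMod.IsFinLocFreeOfRank d ((Scheme.Modules.pullback ψ).obj (Omega.conormal f)) :=
    Groth.Agent.Krr.H482.PullLambda.isFinLocFreeOfRank_pullback ψ hC
  obtain ⟨x₀⟩ : Nonempty ↥X₁ := inferInstance
  have hle : d₁ ≤ d := Groth.Agent.Krr.H487.KerRank.rank_le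
    (Groth.Agent.Krr.H487.KerRank.shortExact_kernel q) hψC hC₁ x₀
  obtain ⟨r, rfl⟩ : ∃ r, d = r + d₁ := ⟨d - d₁, by omega⟩
  have hE : FlatMod.IsFinLocFreeOfRank r (kernel q) :=
    Groth.Agent.Krr.H487.KerRank.isFinLocFreeOfRank_kernel q hψC hC₁
  have he : gψ (φX (KRR.cl X (Omega.conormal f))) - φX₁ (KRR.cl X₁ (Omega.conormal f₁)) =
      φX₁ (KRR.cl X₁ (kernel q)) := by
    rw [sub_eq_iff_eq_add, hgψ _ hCf]
    exact Groth.Agent.Krr.H487.Taut.cl_ses (Groth.Agent.Krr.H487.KerRank.shortExact_kernel q)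
      (Groth.Agent.Krr.H487.KerRank.isFinLocFree_of_rank hE)
      (Groth.Agent.Krr.H487.KerRank.isFinLocFree_of_rank hψC)
      (Groth.Agent.Krr.H487.KerRank.isFinLocFree_of_rank hC₁)
  have haug : (PX₁.aug (φX₁ (KRR.cl X₁ (kernel q)))).toNat = r := by
    rw [hKX₁.aug_cl r _ hE]
    simp
  -- reduction to bundles
  have key : gφ.comp gf = (gf₁.comp (AddMonoidHom.mulLeft (KRR.lamAlt PX₁
      (gψ (φX (KRR.cl X (Omega.conormal f))) - φX₁ (KRR.cl X₁ (Omega.conormal f₁)))))).comp gψ := by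
    refine Groth.Agent.Krr.H482.PullLambda.model_hom_ext hKX fun k F _ hF' => ?_
    have hF : FlatMod.IsFinLocFree F := Groth.Agent.Krr.H487.KerRank.isFinLocFree_of_rank hF'
    obtain ⟨m, L, π, hL₀⟩ := K535.KrPush.hasLFRes_of_koszul hY f hf hF
    have hL : KRR.IsLFRes ((Scheme.Modules.pushforward f).obj F) (m + r) L π :=
      ⟨hL₀.finLocFree, fun i hi => hL₀.isZero i (by omega), hL₀.quasiIso⟩
    have hz := fun n p : ℕ => K535.KrVan.map_incl_eq_zero hsq hf (K535.KrPush.koszul_of_regular f₁ hf₁) hF hL n p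
    have hH := K535.KrExc.hasLFRes_homology hsq hf hf₁ hC₁ hCf hF hL hY₁ hz
    have hlf : ∀ i, FlatMod.IsFinLocFree ((Groth.Agent.Krr.H489.PullRes.pullCx φ L).X i) := fun i =>
      Groth.Agent.PerfB.FlatPull.isFinLocFree_pullback φ (hL.finLocFree i)
    have hP : ∀ i, KRR.HasLFRes ((Groth.Agent.Krr.H489.PullRes.pullCx φ L).X i) := fun i =>
      Groth.Agent.Krr.H498.LFRes.hasLFRes_of_res
        (Groth.Agent.Krr.H498.ResCat.Res.zero _ (hlf i))
    have hsum := Groth.Agent.Krr.H468.EulerCx.sum_rcl (Groth.Agent.Krr.H489.PullRes.pullCx φ L) hY₁ hP hH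
      (m + r) ((Scheme.Modules.pullback φ).map_isZero (hL.isZero _ (by omega)))
    have h1 : gφ (gf (φX (KRR.cl X F))) =
        ∑ i ∈ Finset.range (m + r + 1), (-1 : ℤ) ^ i • φY₁ (Groth.Agent.Krr.H498.ResClass.rcl hY₁
          ((Groth.Agent.Krr.H489.PullRes.pullCx φ L).X i)) := by
      rw [hgf F hF (m + r) L π hL, map_sum]
      refine Finset.sum_congr rfl fun i _ => ?_
      rw [map_zsmul, hgφ _ (hL.finLocFree i), Groth.Agent.Krr.H498.ResClass.rcl_of_isFinLocFree hY₁ (hlf i)]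
      rfl
    have h2 : gφ (gf (φX (KRR.cl X F))) =
        ∑ i ∈ Finset.range (m + r + 1), (-1 : ℤ) ^ i • φY₁ (Groth.Agent.Krr.H498.ResClass.rcl hY₁
          ((Groth.Agent.Krr.H489.PullRes.pullCx φ L).homology i)) := by
      rw [h1]
      have h3 := congrArg φY₁ hsum
      rw [map_sum, map_sum] at h3
      simpa only [map_zsmul] using h3
    have h4 : ∀ i, φY₁ (Groth.Agent.Krr.H498.ResClass.rcl hY₁
        ((Groth.Agent.Krr.H489.PullRes.pullCx φ L).homology i)) =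
        gf₁ (gψ (φX (KRR.cl X F)) * LambdaRing.LambdaOps.lam i (φX₁ (KRR.cl X₁ (kernel q)))) := fun i => by
      rw [K535.KrExc.phi_rcl_homology hsq hf hf₁ hC₁ hCf hF hL hY₁ hz hKX hKX₁ hgψ hgf₁ i, he]
    change gφ (gf (φX (KRR.cl X F))) = gf₁ (KRR.lamAlt PX₁ (gψ (φX (KRR.cl X (Omega.conormal f))) -
      φX₁ (KRR.cl X₁ (Omega.conormal f₁))) * gψ (φX (KRR.cl X F)))
    rw [h2, he, KRR.lamAlt, haug]
    simp only [h4]
    rw [Finset.sum_mul, map_sum]
    symm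
    have h5 : ∀ i, gf₁ ((-1 : KX₁) ^ i * LambdaRing.LambdaOps.lam i (φX₁ (KRR.cl X₁ (kernel q))) *
        gψ (φX (KRR.cl X F))) = (-1 : ℤ) ^ i •
          gf₁ (gψ (φX (KRR.cl X F)) * LambdaRing.LambdaOps.lam i (φX₁ (KRR.cl X₁ (kernel q)))) := fun i => by
      rw [← map_zsmul, zsmul_eq_mul]
      push_cast
      congr 1
      ring
    simp only [h5]
    refine Finset.sum_subset (Finset.range_mono (by omega)) fun i _ hi => ?_
    rw [Finset.mem_range, not_lt] at hi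
    rw [Groth.Agent.Krr.H487.Taut.lam_cl_eq_zero hKX₁ hE (by omega), mul_zero, map_zero, smul_zero]
  exact DFunLike.congr_fun key x

end K535.KrExcFinal
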