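import Groth.Agent.KRR.K535.KrTheta
import Groth.Agent.KRR.K535.KrConormal
import Groth.Agent.Sga67.KosGlobal

/-!
# The Tor sheaves of a Koszul-regular closed immersion are the exterior powers of the conormal module

Same as `Sga67.KosGlobal`, for Koszul-regular sequences.
-/

set_option autoImplicit false

universe u v w

open CategoryTheory CategoryTheory.Limits AlgebraicGeometry Opposite TopologicalSpace
open scoped TensorProduct
open Groth.Agent Groth.Agent.Sga67
open Groth.Agent.Sga67.Sec Groth.Agent.Sga67.LocBasis Groth.Agent.Sga67.KosAlt Groth.Agent.Sga67.KosStalk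
open Groth.Agent.Sga67.KosImm hiding Chart
open K535.KrImm
open Groth.Agent.Sga67.KosTheta hiding koszul_data eq_zero_of_theta exists_theta_eq
open Groth.Agent.Sga67.KosConormal (vl vl_rs vl_injective vl_zero strEquiv vx vx_apply vx_gm vx_injective vx_mem)
open Groth.Agent.Sga67.ExtSheaf
open Groth.Agent.Sga67.KosGlobal (minor alt_apply_eq_sum coeff_compLinearMap ofCoeff_add crd bs bs_eq crd_bs sum_crd
  crd_res vl_add vl_smul vl_sum frM smul_frM rs_frM map_det_of theta_congr)
open K535.KrConormal K535.KrTheta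

namespace K535.KrGlobal

section Conormal

variable {X Y : Scheme.{u}} {i : Y ⟶ X}

/-- The matrix comparing the regular sequences of two charts. -/
theorem exists_matrix (c c' : Chart i) (h : c'.U ≤ c.U) :
    ∃ α : Matrix (Fin c.l.length) (Fin c'.l.length) Γ(X, c'.U), α.mulVec c'.f = fun j => resO X h (c.f j) := by
  have h1 : ∀ j, ∃ a : Fin c'.l.length → Γ(X, c'.U), ∑ k, a k * c'.f k = resO X h (c.f j) := by
    intro j
    have h2 : resO X h (c.f j) ∈ i.ker.ideal ⟨c'.U, c'.hU⟩ := by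
      have h3 := i.ker.map_ideal (U := ⟨c'.U, c'.hU⟩) (V := ⟨c.U, c.hU⟩) h
      rw [← h3]
      refine Ideal.mem_map_of_mem _ ?_
      rw [c.hker, KrImm.Chart.ofList_eq_span]
      exact Ideal.subset_span ⟨j, rfl⟩
    rw [c'.hker, KrImm.Chart.ofList_eq_span] at h2
    exact (Submodule.mem_span_range_iff_exists_fun _).mp h2
  choose a ha using h1
  exact ⟨Matrix.of a, funext fun j => ha j⟩

theorem rs_fI (c c' : Chart i) (h : c'.U ≤ c.U)
    (α : Matrix (Fin c.l.length) (Fin c'.l.length) Γ(X, c'.U))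
    (hα : α.mulVec c'.f = fun j => resO X h (c.f j)) (j : Fin c.l.length) :
    rs _ h (fI c j) = ∑ k, α j k • fI c' k := by
  apply vl_injective i.ker
  rw [vl_rs, vl_fI, vl_sum]
  have h1 : resO X h (c.f j) = ∑ k, α j k * c'.f k := (congrFun hα j).symm
  rw [h1]
  refine Finset.sum_congr rfl fun k _ => ?_
  rw [vl_smul, vl_fI]

/-- The classes of the regular sequence in the conormal module. -/
noncomputable def fN' (c : Chart i) (j : Fin c.l.length) : SM (Omega.conormal i) (i ⁻¹ᵁ c.U) := fN c j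

theorem rs_fN (c c' : Chart i) (h : c'.U ≤ c.U)
    (α : Matrix (Fin c.l.length) (Fin c'.l.length) Γ(X, c'.U))
    (hα : α.mulVec c'.f = fun j => resO X h (c.f j)) (j : Fin c.l.length) :
    rs (Omega.conormal i) (i.preimage_mono h) (fN' c j) = ∑ k, i.app c'.U (α j k) • fN' c' k := by
  refine (et_rs i (ClSub.idealMod i.ker) h (fI c j)).symm.trans ?_
  rw [rs_fI c c' h α hα, map_sum]
  refine Finset.sum_congr rfl fun k _ => ?_
  rw [et_smul]
  rfl

variable [IsClosedImmersion i]

/-- The affine open of `Y` given by a chart. -/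
def aff (c : Chart i) : Y.affineOpens := ⟨i ⁻¹ᵁ c.U, c.hU.preimage i⟩

/-- The basis of the conormal module over a chart. -/
noncomputable def bN (c : Chart i) :
    Module.Basis (Fin c.l.length) Γ(Y, (aff c).1) (Sec (Omega.conormal i) (aff c).1) :=
  (isLocBasis_fN c).basis le_rfl

theorem bN_apply (c : Chart i) (j : Fin c.l.length) : bN c j = fN' c j := by
  rw [bN, IsLocBasis.basis_apply]
  exact res_self _ _ _

theorem res_bN (c c' : Chart i) (h : c'.U ≤ c.U)
    (α : Matrix (Fin c.l.length) (Fin c'.l.length) Γ(X, c'.U))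
    (hα : α.mulVec c'.f = fun j => resO X h (c.f j)) (j : Fin c.l.length) :
    res (Omega.conormal i) (U := (aff c).1) (V := (aff c').1) (i.preimage_mono h) (bN c j) =
      ∑ k, (show Γ(Y, (aff c').1) from i.app c'.U (α j k)) • bN c' k := by
  simp only [bN_apply]
  exact rs_fN c c' h α hα j

end Conormal

section Global

variable {X Y : Scheme.{u}} {i : Y ⟶ X} [IsClosedImmersion i] {M : Y.Modules} (D : Dat i M) {p : ℕ} {T : Y.Modules}
  (H : HD D.K D.dK p T)

/-- Theta on families of coefficients. -/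
noncomputable def thL (c : Chart i) :
    (Set.powersetCard (Fin c.l.length) p → SM M (i ⁻¹ᵁ c.U)) →ₗ[Γ(Y, i ⁻¹ᵁ c.U)] SM T (i ⁻¹ᵁ c.U) where
  toFun F := theta D H c.f c.app_f (ofCoeff (A := Γ(X, c.U)) (fun J => frM (F J)))
  map_add' F F' := by
    rw [← theta_add, ← ofCoeff_add]
    rfl
  map_smul' b F := by
    refine theta_smul c.app_f _ _ b fun J => ?_
    rw [coeff_ofCoeff, coeff_ofCoeff]
    rfl

theorem thL_apply (c : Chart i) (F : Set.powersetCard (Fin c.l.length) p → SM M (i ⁻¹ᵁ c.U)) :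
    thL D H c F = theta D H c.f c.app_f (ofCoeff (A := Γ(X, c.U)) (fun J => frM (F J))) := rfl

variable {L : Y.Modules} (φ : Phi p (Omega.conormal i) L)

/-- The family of coefficients attached to a tensor. -/
noncomputable def cf (c : Chart i) :
    (Sec M (aff c).1 ⊗[Γ(Y, (aff c).1)] Sec L (aff c).1) →ₗ[Γ(Y, (aff c).1)]
      (Set.powersetCard (Fin c.l.length) p → Sec M (aff c).1) :=
  TensorProduct.lift (LinearMap.mk₂ _ (fun m s J => crd φ (aff c) (bN c) s J • m)
    (fun m m' s => funext fun J => smul_add _ _ _)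
    (fun a m s => funext fun J => smul_comm _ _ _)
    (fun m s s' => funext fun J => by rw [map_add]; exact add_smul _ _ _)
    (fun a m s => funext fun J => by rw [map_smul]; exact mul_smul _ _ _))

theorem cf_tmul (c : Chart i) (m : Sec M (aff c).1) (s : Sec L (aff c).1) (J : Set.powersetCard (Fin c.l.length) p) :
    cf φ c (m ⊗ₜ s) J = crd φ (aff c) (bN c) s J • m := rfl

/-- The map over a chart. -/
noncomputable def lm (c : Chart i) :
    (Sec M (aff c).1 ⊗[Γ(Y, (aff c).1)] Sec L (aff c).1) →ₗ[Γ(Y, (aff c).1)] Sec T (aff c).1 :=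
  (thL D H c : (Set.powersetCard (Fin c.l.length) p → Sec M (aff c).1) →ₗ[Γ(Y, (aff c).1)] Sec T (aff c).1) ∘ₗ
    cf φ c

theorem lm_apply (c : Chart i) (t : Sec M (aff c).1 ⊗[Γ(Y, (aff c).1)] Sec L (aff c).1) :
    lm D H φ c t = thL D H c (cf φ c t) := rfl

/-- Restriction of `theta` to a smaller chart. -/
theorem rs_theta (c c' : Chart i) (W : X.Opens) (hW : W ≤ c.U) (h : c'.U ≤ W)
    (α : Matrix (Fin c.l.length) (Fin c'.l.length) Γ(X, c'.U))
    (hα : α.mulVec c'.f = fun j => resO X (h.trans hW) (c.f j))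
    (ω : Alt Γ(X, W) c.l.length p (SM ((Scheme.Modules.pushforward i).obj M) W)) :
    rs T (i.preimage_mono h) (theta D H (fun j => resO X hW (c.f j)) (fun j => app_resO_eq_zero hW (c.app_f j)) ω) =
      theta D H c'.f c'.app_f ((bc Γ(X, c'.U) (KosStalk.rs _ h) ω).compLinearMap α.mulVecLin) := by
  rw [← theta_res h (fun j => app_resO_eq_zero hW (c.app_f j))]
  refine theta_comp c'.app_f α _ ?_ _
  rw [hα]
  funext j
  rw [resO_resO]

theorem rs_theta' (c c' : Chart i) (h : c'.U ≤ c.U)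
    (α : Matrix (Fin c.l.length) (Fin c'.l.length) Γ(X, c'.U))
    (hα : α.mulVec c'.f = fun j => resO X h (c.f j))
    (ω : Alt Γ(X, c.U) c.l.length p (SM ((Scheme.Modules.pushforward i).obj M) c.U)) :
    rs T (i.preimage_mono h) (theta D H c.f c.app_f ω) =
      theta D H c'.f c'.app_f ((bc Γ(X, c'.U) (KosStalk.rs _ h) ω).compLinearMap α.mulVecLin) := by
  rw [← theta_res h c.app_f]
  exact theta_comp c'.app_f α _ hα _

/-- Compatibility with restriction for nested charts. -/
theorem lm_res (hφ : PhiComp φ) (c c' : Chart i) (h : c'.U ≤ c.U) (m : Sec M (aff c).1) (s : Sec L (aff c).1) :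
    lm D H φ c' (res M (U := (aff c).1) (V := (aff c').1) (i.preimage_mono h) m ⊗ₜ
        res L (U := (aff c).1) (V := (aff c').1) (i.preimage_mono h) s) =
      res T (U := (aff c).1) (V := (aff c').1) (i.preimage_mono h) (lm D H φ c (m ⊗ₜ s)) := by
  obtain ⟨α, hα⟩ := exists_matrix c c' h
  rw [lm_apply, lm_apply, thL_apply, thL_apply]
  refine Eq.trans ?_ (rs_theta' D H c c' h α hα _).symm
  congr 1
  apply ext_coeff
  intro K
  rw [coeff_ofCoeff, coeff_compLinearMap]
  rw [cf_tmul, crd_res φ hφ (V := aff c) (V' := aff c') (i.preimage_mono h) (bN c) (bN c')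
    (fun j k => (show Γ(Y, (aff c').1) from i.app c'.U (α j k))) (res_bN c c' h α hα) s K]
  rw [Finset.sum_smul]
  refine Finset.sum_congr rfl fun J _ => ?_
  rw [coeff_bc, coeff_ofCoeff, cf_tmul, rs_frM, smul_frM, map_det_of]
  have h3 : rs M (i.preimage_mono h) (crd φ (aff c) (bN c) s J • m) =
    resO Y (i.preimage_mono h) (crd φ (aff c) (bN c) s J) • rs M (i.preimage_mono h) m := rs_smul M _ _ _
  refine congrArg frM ?_
  refine Eq.trans ?_ (congrArg _ h3.symm)
  rw [mul_comm]
  exact mul_smul (α := Γ(Y, (aff c').1)) (β := Sec M (aff c').1) _ _ _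

/-- The charts give a basis of the topology of `Y`. -/
theorem isBasis_charts (hi : RegImm.IsRegularImmersion .koszul i) :
    Opens.IsBasis (Set.range (fun c : Chart i => (aff c).1)) := by
  rw [Opens.isBasis_iff_nbhd]
  intro V y hy
  obtain ⟨O, hO, hOV⟩ := exists_open_preimage (i := i) hy
  obtain ⟨c, hc, hcO⟩ := exists_chart hi y O hO
  exact ⟨_, ⟨c, rfl⟩, hc, (i.preimage_mono hcO).trans hOV⟩

/-- Compatibility with restriction. -/
theorem lm_res' (hi : RegImm.IsRegularImmersion .koszul i) (hφ : PhiComp φ) (c c' : Chart i)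
    (h : (aff c').1 ≤ (aff c).1) (m : Sec M (aff c).1) (s : Sec L (aff c).1) :
    lm D H φ c' (res M h m ⊗ₜ res L h s) = res T h (lm D H φ c (m ⊗ₜ s)) := by
  apply eq_of_locally
  intro y hy
  obtain ⟨c₂, hy₂, hc₂⟩ := exists_chart hi y (c.U ⊓ c'.U) ⟨h hy, hy⟩
  refine ⟨(aff c₂).1, i.preimage_mono (hc₂.trans inf_le_right), hy₂, ?_⟩
  have h1 := lm_res D H φ hφ c c₂ (hc₂.trans inf_le_left) m s
  have h2 := lm_res D H φ hφ c' c₂ (hc₂.trans inf_le_right) (res M h m) (res L h s)
  rw [res_res, res_res] at h2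
  rw [res_res]
  exact h2.symm.trans h1

theorem exists_hom (hi : RegImm.IsRegularImmersion .koszul i) (hφ : PhiComp φ) :
    ∃ Θ : CohB1.tensorMod M L ⟶ T, ∀ (c : Chart i) (t : Sec M (aff c).1 ⊗[Γ(Y, (aff c).1)] Sec L (aff c).1),
      appS Θ (aff c).1 (tau M L (aff c).1 t) = lm D H φ c t :=
  exists_tensor_hom (isBasis_charts hi) M L T (fun c => lm D H φ c) (fun c c' h m s => lm_res' D H φ hi hφ c c' h m s)

/-- Every family of coefficients comes from a tensor. -/
theorem exists_cf (c : Chart i) (F : Set.powersetCard (Fin c.l.length) p → Sec M (aff c).1) :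
    ∃ t, cf φ c t = F := by
  classical
  refine ⟨∑ J, F J ⊗ₜ bs φ (aff c) (bN c) J, ?_⟩
  funext K
  rw [map_sum, Finset.sum_apply]
  simp only [cf_tmul, crd_bs]
  rw [Finset.sum_eq_single K]
  · rw [if_pos rfl, one_smul]
  · intro J _ hJ
    rw [if_neg hJ, zero_smul]
  · simp

theorem eq_sum_cf (c : Chart i) (t : Sec M (aff c).1 ⊗[Γ(Y, (aff c).1)] Sec L (aff c).1) :
    t = ∑ J, cf φ c t J ⊗ₜ bs φ (aff c) (bN c) J := by
  induction t using TensorProduct.induction_on with
  | zero => simp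
  | tmul m s =>
    conv_lhs => rw [sum_crd φ (aff c) (bN c) s, TensorProduct.tmul_sum]
    refine Finset.sum_congr rfl fun J _ => ?_
    rw [cf_tmul, TensorProduct.tmul_smul, TensorProduct.smul_tmul']
  | add t t' h h' =>
    conv_lhs => rw [h, h']
    rw [map_add, ← Finset.sum_add_distrib]
    refine Finset.sum_congr rfl fun J _ => ?_
    rw [Pi.add_apply, TensorProduct.add_tmul]

/-- Injectivity over a chart, locally. -/
theorem exists_cf_eq_zero (c : Chart i) (t : Sec M (aff c).1 ⊗[Γ(Y, (aff c).1)] Sec L (aff c).1)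
    (h : lm D H φ c t = 0) (y : Y) (hy : y ∈ (aff c).1) :
    ∃ (W : Y.Opens) (hW : W ≤ (aff c).1), y ∈ W ∧ ∀ J, res M hW (cf φ c t J) = 0 := by
  have h1 : theta D H (fun j => resO X le_rfl (c.f j)) (fun j => app_resO_eq_zero le_rfl (c.app_f j))
      (ofCoeff (A := Γ(X, c.U)) (fun J => frM (cf φ c t J))) = 0 :=
    Eq.trans (theta_congr D H (funext fun j => resO_self _ _) _ c.app_f _) h
  obtain ⟨W, hW, hyW, e⟩ := eq_zero_of_theta c le_rfl _ h1 y hy
  refine ⟨i ⁻¹ᵁ W, i.preimage_mono hW, hyW, fun J => ?_⟩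
  have h2 := congrArg (fun z => coeff z J) e
  rw [coeff_bc, coeff_ofCoeff] at h2
  exact h2

theorem isIso_hom (hi : RegImm.IsRegularImmersion .koszul i) (Θ : CohB1.tensorMod M L ⟶ T)
    (hΘ : ∀ (c : Chart i) (t : Sec M (aff c).1 ⊗[Γ(Y, (aff c).1)] Sec L (aff c).1),
      appS Θ (aff c).1 (tau M L (aff c).1 t) = lm D H φ c t) : IsIso Θ := by
  have h1 : Mono Θ := by
    apply mono_of_locally_injective
    intro y₀ V hy₀
    refine ⟨V, le_rfl, hy₀, fun s hs => eq_of_locally _ ?_⟩
    intro y hy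
    obtain ⟨V₁, hV₁, hyV₁, t, ht⟩ := tau_locsurj M L s y hy
    obtain ⟨O, hO, hOV⟩ := exists_open_preimage (i := i) hyV₁
    obtain ⟨c, hc, hcO⟩ := exists_chart hi y O hO
    have hcV₁ : (aff c).1 ≤ V₁ := (i.preimage_mono hcO).trans hOV
    have h2 : lm D H φ c (tres M L hcV₁ t) = 0 := by
      rw [← hΘ, tau_tres, ht, res_res, appS_res, hs, map_zero]
    obtain ⟨W, hW, hyW, e⟩ := exists_cf_eq_zero D H φ c _ h2 y hc
    refine ⟨W, hW.trans (hcV₁.trans hV₁), hyW, ?_⟩
    have h3 : res _ (hW.trans (hcV₁.trans hV₁)) s = tau M L W (tres M L hW (tres M L hcV₁ t)) := by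
      rw [tau_tres, tau_tres, ht, res_res, res_res]
    rw [map_zero, h3, eq_sum_cf φ c (tres M L hcV₁ t), tres_sum, map_sum]
    refine Finset.sum_eq_zero fun J _ => ?_
    rw [tres_tmul, e, TensorProduct.zero_tmul, map_zero]
  have h2 : Epi Θ := by
    apply epi_of_locally_surjective
    intro V τ y hy
    obtain ⟨O, hO, hOV⟩ := exists_open_preimage (i := i) hy
    obtain ⟨c, hc, hcO⟩ := exists_chart hi y O hO
    obtain ⟨W, hW, hWV, hyW, ω, hω⟩ := exists_theta_eq (D := D) (H := H) c τ y hy hc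
    obtain ⟨c', hc', hc'W⟩ := exists_chart hi y W hyW
    obtain ⟨α, hα⟩ := exists_matrix c c' (hc'W.trans hW)
    have h3 := rs_theta D H c c' W hW hc'W α hα ω
    rw [hω, rs_rs] at h3
    obtain ⟨t, ht⟩ := exists_cf (M := M) φ c' (fun J => toM (coeff ((bc Γ(X, c'.U) (KosStalk.rs _ hc'W) ω).compLinearMap
      α.mulVecLin) J))
    refine ⟨(aff c').1, (i.preimage_mono hc'W).trans hWV, hc', tau M L _ t, ?_⟩
    rw [hΘ, lm_apply, ht, thL_apply]
    refine Eq.trans ?_ h3.symm
    congr 1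
    apply ext_coeff
    intro J
    rw [coeff_ofCoeff]
    rfl
  exact isIso_of_mono_of_epi Θ

include D H in
/-- The `p`-th Tor sheaf is `M ⊗ Λ^p N`. -/
theorem nonempty_iso (hi : RegImm.IsRegularImmersion .koszul i) (hL : ExtPow.IsExtPow p (Omega.conormal i) L) :
    Nonempty (T ≅ CohB1.tensorMod M L) := by
  obtain ⟨φ, hφ⟩ := exists_phi hL
  obtain ⟨Θ, hΘ⟩ := exists_hom D H φ hi hφ
  have := isIso_hom D H φ hi Θ hΘ
  exact ⟨(asIso Θ).symm⟩

/-- The length of the regular sequence is the rank of the conormal module. -/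
theorem length_eq {r : ℕ} (hN : FlatMod.IsFinLocFreeOfRank r (Omega.conormal i)) (c : Chart i) (y : Y)
    (hy : y ∈ (aff c).1) : c.l.length = r := by
  obtain ⟨U, hyU, hU⟩ := hN y
  obtain ⟨b, hb⟩ := nonempty_restrict_iso_iff.mp hU
  let W : Y.Opens := (aff c).1 ⊓ U
  have hW : Nonempty W := ⟨⟨y, hy, hyU⟩⟩
  have b₁ := (isLocBasis_fN c).basis (V := W) inf_le_left
  have b₂ := hb.basis (V := W) inf_le_right
  have h1 := Module.finrank_eq_card_basis b₁
  have h2 := Module.finrank_eq_card_basis b₂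
  rw [Fintype.card_fin] at h1 h2
  exact h1.symm.trans h2

include D H in
/-- Vanishing of the Tor sheaves. -/
theorem isZero (hi : RegImm.IsRegularImmersion .koszul i) {r : ℕ}
    (hN : FlatMod.IsFinLocFreeOfRank r (Omega.conormal i)) (hp : r < p) : IsZero T := by
  rw [IsZero.iff_id_eq_zero]
  apply hom_ext
  intro V τ
  apply eq_of_locally
  intro y hy
  obtain ⟨O, hO, hOV⟩ := exists_open_preimage (i := i) hy
  obtain ⟨c, hc, hcO⟩ := exists_chart hi y O hO
  obtain ⟨W, hW, hWV, hyW, ω, hω⟩ := exists_theta_eq (D := D) (H := H) c τ y hy hc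
  have h1 : ω = 0 := by
    apply ext_coeff
    intro J
    exfalso
    have h2 := Finset.card_le_univ J.1
    have h3 : J.1.card = p := J.2
    rw [h3, Fintype.card_fin, length_eq hN c y hc] at h2
    exact absurd hp (not_lt.mpr h2)
  refine ⟨i ⁻¹ᵁ W, hWV, hyW, ?_⟩
  have h4 : rs T hWV τ = 0 := by
    rw [← hω, h1]
    have h5 := theta_add (D := D) (H := H) (fun j => app_resO_eq_zero hW (c.app_f j)) 0 0
    rw [add_zero] at h5
    exact left_eq_add.mp h5
  rw [appS_zero, map_zero]
  exact h4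

end Global

end K535.KrGlobal
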