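import Groth.Agent.KRR.K535.KrSelf
import Groth.Agent.Krr.H498.PushCl

/-!
# Push-forward of bundles along perfect closed immersions, schemes with enough locally free modules

`KRR.HasEnoughLocFree X` for any scheme with an ample module (no Noetherian hypothesis); `f_* F` has a finite resolution
by bundles for `f` a regular or Koszul-regular closed immersion into a quasi-compact quasi-separated such scheme.
-/

set_option autoImplicit false
universe u
open CategoryTheory CategoryTheory.Limits AlgebraicGeometry
open Groth.Agent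
attribute [local instance] HasDerivedCategory.standard

namespace K535.KrPush

theorem hasEnoughLocFree_of_isAmple {X : Scheme.{u}} {L : X.Modules} (hL : CohB1.IsAmple L) :
    KRR.HasEnoughLocFree X :=
  fun F hF => PerfC.ResolAmple.hasResolutionProperty_of_isAmple hL F hF.1 hF.2

variable {X Y : Scheme.{u}} [CompactSpace X] [QuasiSeparatedSpace X] (hX : KRR.HasEnoughLocFree X)

include hX in
/-- The direct image of a bundle along a perfect closed immersion has a finite resolution by bundles. -/
theorem hasLFRes_of_perfectMor (i : Y ⟶ X) [IsClosedImmersion i] (hi : MoreMor.IsPerfectMor i) {F : Y.Modules}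
    (hF : FlatMod.IsFinLocFree F) : KRR.HasLFRes ((Scheme.Modules.pushforward i).obj F) := by
  refine Krr.H473.PerfRes.hasLFRes_of_isPerfect (Krr.H498.ResPerf.hasResolutionProperty hX) _ ?_
  have hR : DCoh.HasRpush i := Dcoh.DerSch.hasRpush _
  exact PerfC.PerfLocal.perf_of_iso (Cohder.RelPCGraph.rpushInD i F)
    (Krr.H447.ClosedPerf.isPerfect_rpush i hi _ (PerfA.PerfLocal.isPerfect_inD_of_isFinLocFree hF))

include hX in
theorem hasLFRes_of_koszul (i : Y ⟶ X) [IsClosedImmersion i] (hi : RegImm.IsRegularImmersion .koszul i)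
    {F : Y.Modules} (hF : FlatMod.IsFinLocFree F) : KRR.HasLFRes ((Scheme.Modules.pushforward i).obj F) :=
  hasLFRes_of_perfectMor hX i (KrSelf.isPerfectMor i hi) hF

include hX in
theorem hasLFRes_of_regular (i : Y ⟶ X) [IsClosedImmersion i] (hi : Mor2.IsRegularClosedImmersion i)
    {F : Y.Modules} (hF : FlatMod.IsFinLocFree F) : KRR.HasLFRes ((Scheme.Modules.pushforward i).obj F) :=
  hasLFRes_of_perfectMor hX i (Flat2H.RegPerf.isPerfectMor_of_isRegularClosedImmersion i hi) hF

include hX in
theorem goodPush_of_koszul (i : Y ⟶ X) [IsClosedImmersion i] (hi : RegImm.IsRegularImmersion .koszul i) :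
    Krr.H498.PushCl.GoodPush i := fun _ hF => hasLFRes_of_koszul hX i hi hF

include hX in
theorem goodPush_of_regular (i : Y ⟶ X) [IsClosedImmersion i] (hi : Mor2.IsRegularClosedImmersion i) :
    Krr.H498.PushCl.GoodPush i := fun _ hF => hasLFRes_of_regular hX i hi hF

/-- A regular closed immersion is Koszul-regular. -/
theorem koszul_of_regular {X Y : Scheme.{u}} (i : Y ⟶ X) [IsClosedImmersion i] (hi : Mor2.IsRegularClosedImmersion i) :
    RegImm.IsRegularImmersion .koszul i := by
  refine ⟨inferInstance, fun z => ?_⟩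
  obtain ⟨U, hU, hzU, rs, hrs, hk⟩ := hi.2 z
  refine ⟨⟨U, hU⟩, hzU, inferInstance, rs, ?_, ?_⟩
  · exact Flat2H.KoszulBC.isKoszulRegularSeq_of_isWeaklyRegular hrs.toIsWeaklyRegular
  · rw [← hk, Scheme.Hom.ker_apply]

end K535.KrPush
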