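import Groth.Agent.KRR.K535.KrChain
import Groth.Agent.KRR.K535.KrEuler
import Groth.Agent.Krr.H446.ProjFormula
import Groth.Agent.Krr.H447.ClosedPerf
import Groth.Agent.Krr.H473.PerfRes
import Groth.Agent.Krr.H482.PullLambda
import Groth.Agent.Krr.H495.ExtExist
import Groth.Agent.Krr.H495.Rank
import Groth.Agent.Flat2H.RegPerf
import Groth.Agent.PerfC.ResolAmple
import Groth.Agent.Fdesc.LocGenAmple

/-!
# The self-intersection formula for a Koszul-regular closed immersion

`pull_push`: `i^K (i_K x) = x · λ_{-1}(N)`; `main`: `i_K (x · y · λ_{-1} N) = i_K x · i_K y`.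
-/

set_option autoImplicit false
universe v w u
open CategoryTheory CategoryTheory.Limits AlgebraicGeometry
open Groth.Agent
attribute [local instance] HasDerivedCategory.standard

namespace K535.KrSelf

open Groth.Agent.Krr.H489.PullRes Groth.Agent.Krr.H498

/-- A Koszul-regular closed immersion is a perfect morphism. -/
theorem isPerfectMor {X Y : Scheme.{u}} (i : Y ⟶ X) [IsClosedImmersion i]
    (hi : RegImm.IsRegularImmersion .koszul i) : MoreMor.IsPerfectMor i := by
  have key : Flat2H.PerfMor.PMor.{u} i := by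
    rw [HasRingHomProperty.iff_exists_appLE (P := Flat2H.PerfMor.PMor.{u})
      Flat2H.RegPerf.stableUnderCompositionWithLocalizationAwaySource]
    intro z
    obtain ⟨U, hzU, -, rs, hrs, hker⟩ := hi.2 z
    refine ⟨U, ⟨i ⁻¹ᵁ U.1, U.2.preimage i⟩, hzU, le_rfl, ?_⟩
    refine Flat2H.RegPerf.perfRing_of_surjective ?_ ?_
    · rw [← Scheme.Hom.app_eq_appLE]
      exact i.app_surjective U.1 U.2
    · have h1 : RingHom.ker (i.appLE U.1 (i ⁻¹ᵁ U.1) le_rfl).hom = Ideal.ofList rs := by
        rw [← hker, Scheme.Hom.app_eq_appLE]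
      rw [h1]
      exact Flat2H.RegPerf.isKoszulRegularIdeal_ofList hrs
  exact key

/-- The direct image of a bundle has a finite resolution by bundles. -/
theorem hasLFRes {X Y : Scheme.{u}} (L : X.Modules) (hL : CohB1.IsAmple L) (i : Y ⟶ X) [IsClosedImmersion i]
    (hi : RegImm.IsRegularImmersion .koszul i) (F : Y.Modules) (hF : FlatMod.IsFinLocFree F) :
    KRR.HasLFRes ((Scheme.Modules.pushforward i).obj F) := by
  have : CompactSpace X := hL.2.1
  have : QuasiSeparatedSpace X := Fdesc.LocGen.quasiSeparatedSpace_of_isAmple hL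
  refine Krr.H473.PerfRes.hasLFRes_of_isPerfect (PerfC.ResolAmple.hasResolutionProperty_of_isAmple hL) _ ?_
  have hR : DCoh.HasRpush i := Dcoh.DerSch.hasRpush _
  have h1 : DCoh.IsPerfect (DCoh.inD Y F) := PerfA.PerfLocal.isPerfect_inD_of_isFinLocFree hF
  exact PerfC.PerfLocal.perf_of_iso (Cohder.RelPCGraph.rpushInD i F)
    (Krr.H447.ClosedPerf.isPerfect_rpush i (isPerfectMor i hi) _ h1)

section Self

variable {X Y : Scheme.{u}} [ConnectedSpace ↥Y] (i : Y ⟶ X) [IsClosedImmersion i]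
  (hi : RegImm.IsRegularImmersion .koszul i) (hN : FlatMod.IsFinLocFree (Omega.conormal i))
  {KY : Type v} [CommRing KY] [LambdaRing.LambdaOps KY] {PY : LambdaRing.PosStructure KY} {φY : SGA6.Kvb Y →+ KY}
  (hKY : KRR.IsModel Y KY PY φY)
  {KX : Type w} [CommRing KX] {φX : SGA6.Kvb X →+ KX}

include hi hN hKY in
/-- The self-intersection formula on classes of bundles. -/
theorem pull_push_cl {q : KX →+ KY} (hq : KRR.IsPull i φX φY q) {g : KY →+ KX} (hg : KRR.IsPushCl i φY φX g)
    {F : Y.Modules} (hF : FlatMod.IsFinLocFree F) (hres : KRR.HasLFRes ((Scheme.Modules.pushforward i).obj F)) :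
    q (g (φY (KRR.cl Y F))) =
      φY (KRR.cl Y F) * KRR.lamAlt PY (φY (KRR.cl Y (Omega.conormal i))) := by
  obtain ⟨n, L, π, hL⟩ := hres
  obtain ⟨r, hr⟩ := Krr.H495.Rank.exists_rank_of_connected hN
  choose E hE hE' using fun k => Krr.H495.ExtExist.exists_isExtPow k (Omega.conormal i) hN
  have hflat : ∀ k, FlatMod.IsFlat (L.X k) := fun k => Dcoh.Spread.isFlat_of_isFinLocFree (hL.finLocFree k)
  have hex : ResCat.Ex π := (ResCat.quasiIso_iff π).1 hL.quasiIso
  have hH : ∀ k, FlatMod.IsFinLocFree ((pullCx i L).homology k) := fun k =>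
    KrChain.isFinLocFree_homology hi hflat hex hF k (hE' k) (hE k)
  have hX : ∀ k, FlatMod.IsFinLocFree ((pullCx i L).X k) := fun k =>
    PerfB.FlatPull.isFinLocFree_pullback i (hL.finLocFree k)
  obtain ⟨N, hnN, hrN⟩ : ∃ N, n ≤ N ∧ r ≤ N := ⟨max n r, le_max_left _ _, le_max_right _ _⟩
  have hL' : KRR.IsLFRes ((Scheme.Modules.pushforward i).obj F) N L π :=
    ⟨hL.finLocFree, fun k hk => hL.isZero k (lt_of_le_of_lt hnN hk), hL.quasiIso⟩
  have h1 : q (g (φY (KRR.cl Y F))) =
      φY (∑ k ∈ Finset.range (N + 1), (-1 : ℤ) ^ k • KRR.cl Y ((pullCx i L).X k)) := by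
    rw [hg F hF N L π hL', map_sum, map_sum]
    refine Finset.sum_congr rfl fun k _ => ?_
    rw [map_zsmul, map_zsmul, hq _ (hL.finLocFree k)]
    rfl
  have hz : IsZero ((pullCx i L).X (N + 1)) :=
    Functor.map_isZero (Scheme.Modules.pullback i) (hL.isZero (N + 1) (by omega))
  have h2 : ∀ k, φY (KRR.cl Y ((pullCx i L).homology k)) =
      φY (KRR.cl Y F) * LambdaRing.LambdaOps.lam k (φY (KRR.cl Y (Omega.conormal i))) := by
    intro k
    obtain ⟨e⟩ := KrChain.nonempty_homology hi hflat hex k (hE' k)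
    rw [hKY.map_lam k _ _ hN (hE k) (hE' k), hKY.map_mul F (E k) hF (hE k), KrEuler.cl_iso e (hH k)]
    rfl
  have h3 : ∀ k, r < k → φY (KRR.cl Y ((pullCx i L).homology k)) = 0 := by
    intro k hk
    rw [KrEuler.cl_isZero (KrChain.isZero_homology hi hflat hex hr k hk), map_zero]
  rw [h1, KrEuler.sum_cl _ hX hH N hz, map_sum, KRR.lamAlt, hKY.aug_cl r _ hr, Int.toNat_natCast,
    Finset.mul_sum]
  symm
  refine Finset.sum_subset_zero_on_sdiff (Finset.range_mono (by omega)) ?_ ?_
  · intro k hk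
    rw [Finset.mem_sdiff, Finset.mem_range, Finset.mem_range] at hk
    rw [map_zsmul, h3 k (by omega), smul_zero]
  · intro k _
    rw [map_zsmul, h2, zsmul_eq_mul]
    push_cast
    ring

include hi hN hKY in
/-- The self-intersection formula. -/
theorem pull_push {q : KX →+ KY} (hq : KRR.IsPull i φX φY q) {g : KY →+ KX} (hg : KRR.IsPushCl i φY φX g)
    (hres : ∀ F : Y.Modules, FlatMod.IsFinLocFree F → KRR.HasLFRes ((Scheme.Modules.pushforward i).obj F))
    (x : KY) : q (g x) = x * KRR.lamAlt PY (φY (KRR.cl Y (Omega.conormal i))) := by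
  induction x using Krr.H446.ProjFormula.model_induction hKY with
  | h0 => simp
  | hneg x hx => simp [hx]
  | hadd x x' hx hx' => simp [add_mul, hx, hx']
  | hc F hF => exact pull_push_cl i hi hN hKY hq hg hF (hres F hF)

end Self

/-- `i_K (x · y · λ_{-1} N) = i_K x · i_K y`. -/
theorem main {X Y : Scheme.{u}} [ConnectedSpace ↥Y]
    (L : X.Modules) (hL : CohB1.IsAmple L)
    (i : Y ⟶ X) [IsClosedImmersion i] (hi : RegImm.IsRegularImmersion .koszul i)
    (hN : FlatMod.IsFinLocFree (Omega.conormal i))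
    (KY : Type v) [CommRing KY] [LambdaRing.LambdaOps KY] (PY : LambdaRing.PosStructure KY) (φY : SGA6.Kvb Y →+ KY)
    (hKY : KRR.IsModel Y KY PY φY)
    (KX : Type w) [CommRing KX] [LambdaRing.LambdaOps KX] (PX : LambdaRing.PosStructure KX) (φX : SGA6.Kvb X →+ KX)
    (hKX : KRR.IsModel X KX PX φX)
    (g : KY →+ KX) (hg : KRR.IsPushCl i φY φX g) (x y : KY) :
    g (x * y * KRR.lamAlt PY (φY (KRR.cl Y (Omega.conormal i)))) = g x * g y := by
  have hres := hasLFRes L hL i hi
  obtain ⟨q, hq⟩ := Krr.H482.PullLambda.exists_isPull (KX := KY) i hKX.bijective φY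
  rw [← Krr.H446.ProjFormula.pushCl_mul_pull_of_hasLFRes i hres hKY hKX hq hg x (g y),
    pull_push i hi hN hKY hq hg hres y, mul_assoc]

end K535.KrSelf
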