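import Groth.Agent.KRR.K535.Lam2Mono
import Groth.Agent.KRR.K535.Adams2
import Groth.Agent.KRR.K535.KrSelf
import Groth.Agent.Krr.H458.DivSeq
import Groth.Agent.Krr.H450.Assembly
import Groth.Agent.Krr.H472.SelfInt
import Groth.Agent.Krr.H446.ProjFormula
import Groth.Agent.Krr.H482.PullFinal
import Groth.Agent.Krr.H491.BottMul

/-!
# Adams–Riemann–Roch for `ψ²` and an effective Cartier divisor

`adams_two_push`: for a closed immersion `i : Z ⟶ W` with effective Cartier ideal, `ψ²(i_K x) = i_K (θ²(C) ψ² x)`, `C` the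
conormal module, without Noetherian hypotheses.
-/

set_option autoImplicit false
universe v w u
open CategoryTheory CategoryTheory.Limits AlgebraicGeometry
open Groth.Agent
attribute [local instance] HasDerivedCategory.standard

namespace K535.Lam2Final

open Groth.Agent.Krr.H498 K535.Lam2Mono Groth.Agent.Krr.H482.PullLambda

/-- The class of a tensor product with a bundle. -/
theorem rcl_tensor {W : Scheme.{u}} [CompactSpace W] [QuasiSeparatedSpace W] (hW : KRR.HasEnoughLocFree W)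
    {K : Type v} [CommRing K] [LambdaRing.LambdaOps K] {P : LambdaRing.PosStructure K}
    {φ : SGA6.Kvb W →+ K} (hK : KRR.IsModel W K P φ) {E M : W.Modules} (hE : FlatMod.IsFinLocFree E)
    (hM : KRR.HasLFRes M) :
    KRR.HasLFRes (CohB1.tensorMod E M) ∧
      φ (ResClass.rcl hW (CohB1.tensorMod E M)) = φ (KRR.cl W E) * φ (ResClass.rcl hW M) := by
  obtain ⟨n, L, π, hL⟩ := hM
  have h1 := Groth.Agent.Krr.H446.TensRes.isLFRes_tensor hE hL
  refine ⟨⟨_, _, _, h1⟩, ?_⟩
  have h2 := ResClass.rcl_eq_sum hW h1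
  have h3 := ResClass.rcl_eq_sum hW hL
  refine (congrArg φ h2).trans ?_
  rw [h3, map_sum, map_sum, Finset.mul_sum]
  refine Finset.sum_congr rfl fun k _ => ?_
  rw [map_zsmul, map_zsmul, mul_smul_comm, hK.map_mul E (L.X k) hE (hL.finLocFree k)]
  rfl

variable {Z W : Scheme.{u}} [CompactSpace W] [QuasiSeparatedSpace W] (hW : KRR.HasEnoughLocFree W)
  (i : Z ⟶ W) [IsClosedImmersion i] (hD : BlowUp.IsEffCartierIdeal i.ker) (hi : PushCl.GoodPush i)
  {KZ : Type v} [CommRing KZ] [LambdaRing.LambdaOps KZ] {PZ : LambdaRing.PosStructure KZ}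
  {φZ : SGA6.Kvb Z →+ KZ} (hKZ : KRR.IsModel Z KZ PZ φZ)
  {KW : Type w} [CommRing KW] [LambdaRing.LambdaOps KW] {PW : LambdaRing.PosStructure KW}
  {φW : SGA6.Kvb W →+ KW} (hKW : KRR.IsModel W KW PW φW)
  {g : KW →+ KZ} (hg : KRR.IsPull i φW φZ g) {h : KZ →+ KW} (hh : KRR.IsPushCl i φZ φW h)

theorem lam_two_add {K : Type v} [CommRing K] [LambdaRing.LambdaOps K] (x y : K) :
    LambdaRing.LambdaOps.lam 2 (x + y) =
      LambdaRing.LambdaOps.lam 2 x + x * y + LambdaRing.LambdaOps.lam 2 y := by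
  rw [LambdaRing.LambdaOps.lam_add, Finset.sum_range_succ, Finset.sum_range_succ, Finset.sum_range_one]
  simp only [Nat.sub_zero, Nat.sub_self, LambdaRing.LambdaOps.lam_zero, LambdaRing.LambdaOps.lam_one, one_mul,
    mul_one, show 2 - 1 = 1 from rfl]
  ring

include hW hD hi hKZ hKW hg hh in
/-- The formula on classes of bundles. -/
theorem adams_two_push_cl (hgh : ∀ y, g (h y) = y * (1 - g (φW (KRR.cl W (ClSub.idealMod i.ker)))))
    {F : Z.Modules} (hF : FlatMod.IsFinLocFree F) :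
    LambdaRing.adams PW 2 (h (φZ (KRR.cl Z F))) =
      h ((1 + g (φW (KRR.cl W (ClSub.idealMod i.ker)))) * LambdaRing.adams PZ 2 (φZ (KRR.cl Z F))) := by
  obtain ⟨⟨E₀, E₁, L₀, L₁, G, K, LF, LK, hE₀, hE₁, hK, hL₀, hL₁, hLF, hLK, S₀, S₁, T₀, T₁, hS₀, hS₁, hT₀, hT₁,
    ⟨a1, a2, a3⟩, ⟨b1, b2, b3⟩, ⟨c1, c2, c3⟩, ⟨d1, d2, d3⟩⟩⟩ := exists_data hW i hD hi hF
  have fL₀ := Groth.Agent.Sga67.LocBasis.isFinLocFree_of_isExtPow hE₀ hL₀
  have fL₁ := Groth.Agent.Sga67.LocBasis.isFinLocFree_of_isExtPow hE₁ hL₁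
  have fLF := Groth.Agent.Sga67.LocBasis.isFinLocFree_of_isExtPow hF hLF
  have fLK := Groth.Agent.Sga67.LocBasis.isFinLocFree_of_isExtPow hK hLK
  have hflf : ∀ {E : W.Modules}, FlatMod.IsFinLocFree E → KRR.HasLFRes E := fun hE => by
    rw [ResPerf.hasLFRes_iff_isPerfect hW]
    exact PerfA.PerfLocal.isPerfect_inD_of_isFinLocFree hE
  have hp : ∀ {F : Z.Modules}, FlatMod.IsFinLocFree F →
      φW (ResClass.rcl hW ((Scheme.Modules.pushforward i).obj F)) = h (φZ (KRR.cl Z F)) := fun hF =>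
    ((PushCl.isPushCl_iff i hW φZ φW hi h).1 hh _ hF).symm
  have hI : FlatMod.IsFinLocFree (ClSub.idealMod i.ker) :=
    isFinLocFree_of_rank (Groth.Agent.Ega2.QCohLocal.isFinLocFreeOfRank_one_iff.mpr
        (Groth.Agent.Dix.IdealModCartier.isInvertible_idealMod hD))
  have hG : KRR.HasLFRes G := by
    rw [← c1]
    refine ResPerf.hasLFRes_X₁ hW hT₀ ?_ ?_
    · rw [c2]; exact hflf fL₀
    · rw [c3]; exact hi _ fLF
  obtain ⟨hIG, hIG'⟩ := rcl_tensor hW hKW hI hG
  -- the four relations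
  have e1 : φW (KRR.cl W E₀) = φW (KRR.cl W E₁) + h (φZ (KRR.cl Z F)) := by
    have := ResClass.rcl_shortExact hW hS₀ (by rw [a1]; exact hflf hE₁) (by rw [a2]; exact hflf hE₀)
      (by rw [a3]; exact hi _ hF)
    rw [a1, a2, a3, ResClass.rcl_of_isFinLocFree hW hE₀, ResClass.rcl_of_isFinLocFree hW hE₁] at this
    rw [this, map_add, hp hF]
  have e2 : g (φW (KRR.cl W E₀)) = φZ (KRR.cl Z K) + φZ (KRR.cl Z F) := by
    have := KrEuler.cl_ses hS₁ (by rw [b1]; exact hK) (by rw [b2]; exact isFinLocFree_pullback i hE₀)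
      (by rw [b3]; exact hF)
    rw [b1, b2, b3] at this
    rw [hg _ hE₀, this, map_add]
  have e3 : LambdaRing.LambdaOps.lam 2 (φW (KRR.cl W E₀)) = φW (ResClass.rcl hW G) +
      h (LambdaRing.LambdaOps.lam 2 (φZ (KRR.cl Z F))) := by
    have := ResClass.rcl_shortExact hW hT₀ (by rw [c1]; exact hG) (by rw [c2]; exact hflf fL₀)
      (by rw [c3]; exact hi _ fLF)
    rw [c1, c2, c3, ResClass.rcl_of_isFinLocFree hW fL₀] at this
    rw [hKW.map_lam 2 E₀ L₀ hE₀ fL₀ hL₀, this, map_add, hp fLF, hKZ.map_lam 2 F LF hF fLF hLF]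
  have e4 : LambdaRing.LambdaOps.lam 2 (φW (KRR.cl W E₁)) =
      φW (KRR.cl W (ClSub.idealMod i.ker)) * φW (ResClass.rcl hW G) +
      h (LambdaRing.LambdaOps.lam 2 (φZ (KRR.cl Z K))) := by
    have := ResClass.rcl_shortExact hW hT₁ (by rw [d1]; exact hIG) (by rw [d2]; exact hflf fL₁)
      (by rw [d3]; exact hi _ fLK)
    rw [d1, d2, d3, ResClass.rcl_of_isFinLocFree hW fL₁] at this
    rw [hKW.map_lam 2 E₁ L₁ hE₁ fL₁ hL₁, this, map_add, hp fLK, hKZ.map_lam 2 K LK hK fLK hLK, hIG']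
  have hproj : ∀ x y, h (x * g y) = h x * y := fun x y =>
    Groth.Agent.Krr.H446.ProjFormula.pushCl_mul_pull_of_hasLFRes i hi hKZ hKW hg hh x y
  have hlam : ∀ y, g (LambdaRing.LambdaOps.lam 2 y) = LambdaRing.LambdaOps.lam 2 (g y) := fun y =>
    Groth.Agent.Krr.H482.PullFinal.commAt_pull hKZ hKW hg y 2
  have hmul : ∀ x y, g (x * y) = g x * g y := pull_mul hKZ hKW hg
  have h1 : ∀ z, h (g z) = z * (1 - φW (KRR.cl W (ClSub.idealMod i.ker))) := fun z =>
    Groth.Agent.Krr.H458.DivSeq.push_pull i hW hKW hi hD hg hh z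
  generalize φW (KRR.cl W (ClSub.idealMod i.ker)) = ℓ at *
  generalize φZ (KRR.cl Z F) = y at *
  generalize φZ (KRR.cl Z K) = k at *
  generalize φW (KRR.cl W E₀) = a at *
  generalize φW (KRR.cl W E₁) = b at *
  generalize φW (ResClass.rcl hW G) = G' at *
  have e5 : LambdaRing.LambdaOps.lam 2 k = g (LambdaRing.LambdaOps.lam 2 a) - g a * y + y * y -
      LambdaRing.LambdaOps.lam 2 y := by
    have e6 : LambdaRing.LambdaOps.lam 2 (g a) =
        LambdaRing.LambdaOps.lam 2 k + k * y + LambdaRing.LambdaOps.lam 2 y := by rw [e2]; exact lam_two_add k y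
    rw [hlam, e6, e2]
    ring
  have e7 : h (LambdaRing.LambdaOps.lam 2 k) = LambdaRing.LambdaOps.lam 2 a * (1 - ℓ) - a * h y + h (y * y) -
      h (LambdaRing.LambdaOps.lam 2 y) := by
    rw [e5, map_sub, map_add, map_sub, h1, mul_comm (g a) y, hproj, mul_comm (h y) a]
  have e8 : h y * h y = h (y * y) - h (g ℓ * (y * y)) := by
    rw [← hproj, hgh, ← map_sub]
    congr 1
    ring
  have e9 : ∀ z, h (g ℓ * z) = ℓ * h z := fun z => by rw [mul_comm, hproj, mul_comm]
  have e10 : LambdaRing.LambdaOps.lam 2 a = LambdaRing.LambdaOps.lam 2 b + b * h y +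
      LambdaRing.LambdaOps.lam 2 (h y) := by
    rw [e1]; exact lam_two_add b (h y)
  rw [Adams2.adams_two, Adams2.adams_two]
  have e11 : h ((1 + g ℓ) * (y ^ 2 - 2 * LambdaRing.LambdaOps.lam 2 y)) =
      h (y * y) - 2 * h (LambdaRing.LambdaOps.lam 2 y) + ℓ * (h (y * y) - 2 * h (LambdaRing.LambdaOps.lam 2 y)) := by
    have : (1 + g ℓ) * (y ^ 2 - 2 * LambdaRing.LambdaOps.lam 2 y) =
      (y * y - LambdaRing.LambdaOps.lam 2 y - LambdaRing.LambdaOps.lam 2 y) +
        g ℓ * (y * y - LambdaRing.LambdaOps.lam 2 y - LambdaRing.LambdaOps.lam 2 y) := by ring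
    rw [this, map_add, e9, map_sub, map_sub]
    ring
  rw [e11]
  rw [e9] at e8
  -- `λ²(h y) = λ² a - λ² b - b h y`
  rw [e3] at e10 e7
  rw [e4] at e10
  rw [e7] at e10
  linear_combination (2 : KW) * e10 - e8 - (2 * h y) * e1

theorem adams_two_add {K : Type v} [CommRing K] [LambdaRing.LambdaOps K] (P : LambdaRing.PosStructure K) (x y : K) :
    LambdaRing.adams P 2 (x + y) = LambdaRing.adams P 2 x + LambdaRing.adams P 2 y := by
  rw [Adams2.adams_two, Adams2.adams_two, Adams2.adams_two, lam_two_add]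
  ring

theorem adams_two_zero {K : Type v} [CommRing K] [LambdaRing.LambdaOps K] (P : LambdaRing.PosStructure K) :
    LambdaRing.adams P 2 (0 : K) = 0 := by
  have h := adams_two_add P 0 0
  rw [add_zero] at h
  exact left_eq_add.1 h

theorem adams_two_neg {K : Type v} [CommRing K] [LambdaRing.LambdaOps K] (P : LambdaRing.PosStructure K) (x : K) :
    LambdaRing.adams P 2 (-x) = - LambdaRing.adams P 2 x := by
  have h := adams_two_add P x (-x)
  rw [add_neg_cancel, adams_two_zero] at h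
  exact (neg_eq_of_add_eq_zero_right h.symm).symm

include hW hD hi hKZ hKW hg hh in
/-- Adams–Riemann–Roch for `ψ²` and a divisor. -/
theorem adams_two_push [ConnectedSpace Z] (y : KZ) :
    LambdaRing.adams PW 2 (h y) =
      h (KRR.bott PZ 2 (φZ (KRR.cl Z (Omega.conormal i))) * LambdaRing.adams PZ 2 y) := by
  have hI1 : FlatMod.IsFinLocFreeOfRank 1 (ClSub.idealMod i.ker) :=
    (Groth.Agent.Ega2.QCohLocal.isFinLocFreeOfRank_one_iff.mpr
        (Groth.Agent.Dix.IdealModCartier.isInvertible_idealMod hD))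
  have hI : FlatMod.IsFinLocFree (ClSub.idealMod i.ker) := isFinLocFree_of_rank hI1
  have hN1 : FlatMod.IsFinLocFreeOfRank 1 (Omega.conormal i) := isFinLocFreeOfRank_pullback i hI1
  have hN : FlatMod.IsFinLocFree (Omega.conormal i) := isFinLocFree_of_rank hN1
  have hc : g (φW (KRR.cl W (ClSub.idealMod i.ker))) = φZ (KRR.cl Z (Omega.conormal i)) := hg _ hI
  have hl : PZ.IsLine (φZ (KRR.cl Z (Omega.conormal i))) :=
    ⟨(hKZ.mem_pos_iff _).2 ⟨1, _, le_rfl, hN1, rfl⟩, by rw [hKZ.aug_cl 1 _ hN1]; rfl⟩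
  have hk : RegImm.IsRegularImmersion .koszul i :=
    KrPush.koszul_of_regular i (Groth.Agent.Krr.H458.DivSeq.isRegularClosedImmersion_of_isEff i hD)
  have hlam : KRR.lamAlt PZ (φZ (KRR.cl Z (Omega.conormal i))) = 1 - φZ (KRR.cl Z (Omega.conormal i)) := by
    have h1 : PZ.aug (φZ (KRR.cl Z (Omega.conormal i))) = 1 := hl.2
    rw [KRR.lamAlt, h1]
    change ∑ i ∈ Finset.range 2, (-1 : KZ) ^ i * LambdaRing.LambdaOps.lam i _ = _
    rw [Finset.sum_range_succ, Finset.sum_range_one, LambdaRing.LambdaOps.lam_zero, LambdaRing.LambdaOps.lam_one]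
    ring
  have hgh : ∀ y, g (h y) = y * (1 - g (φW (KRR.cl W (ClSub.idealMod i.ker)))) := fun y => by
    rw [KrSelf.pull_push i hk hN hKZ hg hh hi y, hlam, hc]
  have hb : KRR.bott PZ 2 (φZ (KRR.cl Z (Omega.conormal i))) =
      1 + g (φW (KRR.cl W (ClSub.idealMod i.ker))) := by
    rw [Groth.Agent.Krr.H491.BottMul.bott_line PZ 2 _ hl, Finset.sum_range_succ, Finset.sum_range_one, pow_zero,
      pow_one, hc]
  rw [hb]
  induction y using Groth.Agent.Krr.H446.ProjFormula.model_induction hKZ with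
  | h0 => rw [map_zero, adams_two_zero, adams_two_zero, mul_zero, map_zero]
  | hneg x hx => rw [map_neg, adams_two_neg, adams_two_neg, mul_neg, map_neg, hx]
  | hadd x x' hx hx' => rw [map_add, adams_two_add, adams_two_add, mul_add, map_add, hx, hx']
  | hc F hF => exact adams_two_push_cl hW i hD hi hKZ hKW hg hh hgh hF

end K535.Lam2Final
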