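import Groth.Agent.SGA6.K266.SplitVb
import Groth.Agent.Krr.H483.Main
import Groth.Agent.Krr.H442.ModelIso
import Groth.Agent.Krr.H474.Main

/-!
# The splitting property of `K(X)` for a connected quasi-compact scheme

`splitHyp`: `Krr.H474.Main.SplitHyp X` for `X` connected and quasi-compact (no Noetherian hypothesis).
-/

set_option autoImplicit false

universe v w u

open CategoryTheory CategoryTheory.Limits AlgebraicGeometry

namespace K535.SplitQC

open Groth.Agent
open KRR Groth.Agent.Krr.H482.PullLambda Groth.Agent.Krr.H482.PullFinal Groth.Agent.Krr.H483.Main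
open Groth.Agent.Sga67.KvbRing Groth.Agent.Krr.H442.PosIso Groth.Agent.Krr.H442.ModelIso

/-- The pull-back to a projective bundle is injective. -/
theorem injective_pull {X P : Scheme.{u}} [CompactSpace X] {r : ℕ} {E : X.Modules}
    (hE : FlatMod.IsFinLocFreeOfRank (r + 1) E) {π : P ⟶ X} {O1 : P.Modules}
    {q : (Scheme.Modules.pullback π).obj E ⟶ O1} (hPB : KRR.IsProjBundle π E O1 q) :
    Function.Injective (Groth.Agent.Krr.H496.PullK0.pullK0 π) := by
  obtain ⟨ι, hι, A, hA, h, j, hh, hsurj, hpb, hO1⟩ := Krr.H484.PBCharts.exists_charts hE hPB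
  have hO : PicF.IsInvertible O1 := Ega2.QCohLocal.isFinLocFreeOfRank_one_iff.1 hPB.invertible
  let 𝔸 : Krr.H488.Atlas.Atlas r π O1 A h := ⟨j, hpb, hsurj, hO1⟩
  have h1 := K266.PBRing.bijective 𝔸 hO (fun i => Krr.H488.Serre.serreProp r (A i))
  intro a b hab
  have hab' : K266.KRing.pull π (toKR X a) = K266.KRing.pull π (toKR X b) := congrArg (toKR P) hab
  have h2 := @h1.1 (Pi.single 0 (toKR X a)) (Pi.single 0 (toKR X b)) (by
    simp only
    refine Finset.sum_congr rfl fun i _ => ?_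
    by_cases hi : i = 0
    · subst hi
      rw [Pi.single_eq_same, Pi.single_eq_same, hab']
    · rw [Pi.single_eq_of_ne hi, Pi.single_eq_of_ne hi])
  have h3 := congrFun h2 0
  rwa [Pi.single_eq_same, Pi.single_eq_same] at h3

/-- The splitting of one finite locally free module. -/
def Splits {X : Scheme.{u}} {K : Type v} [CommRing K] (φ : SGA6.Kvb X →+ K) (m : ℕ) (E : X.Modules) : Prop :=
  ∃ (X' : Scheme.{u}) (_ : CompactSpace X') (_ : ConnectedSpace ↥X') (f : X' ⟶ X)
      (K' : Type (u + 1)) (_ : CommRing K') (_ : LambdaRing.LambdaOps K') (P' : LambdaRing.PosStructure K')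
      (φ' : SGA6.Kvb X' →+ K') (_ : KRR.IsModel X' K' P' φ') (g : K →+ K') (_ : KRR.IsPull f φ φ' g),
      Function.Injective g ∧
      ∃ L : Fin m → X'.Modules, (∀ j, FlatMod.IsFinLocFreeOfRank 1 (L j)) ∧
        g (φ (KRR.cl X E)) = ∑ j, φ' (KRR.cl X' (L j))

/-- Every finite locally free module of rank `m` splits after an injective pull-back. -/
theorem splits (m : ℕ) : ∀ (X : Scheme.{u}) (_ : CompactSpace X)
    (_ : ConnectedSpace ↥X) (K : Type (u + 1)) [CommRing K] [LambdaRing.LambdaOps K]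
    (P : LambdaRing.PosStructure K) (φ : SGA6.Kvb X →+ K) (_ : KRR.IsModel X K P φ) (E : X.Modules)
    (_ : FlatMod.IsFinLocFreeOfRank m E), Splits φ m E := by
  induction m with
  | zero =>
    intro X hN hC K _ _ P φ hK E hE
    refine ⟨X, hN, hC, 𝟙 X, K, inferInstance, inferInstance, P, φ, hK, AddMonoidHom.id K,
      isPull_id fun E _ => rfl, Function.injective_id, Fin.elim0, fun j => j.elim0, ?_⟩
    rw [Finset.univ_eq_empty, Finset.sum_empty, AddMonoidHom.id_apply]
    have h0 : cl X E = 0 :=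
      Groth.Agent.Sga67.SesImage.clSub_zero (vbP X) (Groth.Agent.Krr.H487.Taut.isZero_of_rank_zero hE)
    rw [h0, map_zero]
  | succ r ih =>
    intro X hN hC K _ _ P φ hK E hE
    obtain ⟨Y, π, O1, q, hPB⟩ := Krr.H490.PBExist.exists_isProjBundle hE
    have hprop := Krr.H483.PBTop.isProper hE hPB
    have hNY : CompactSpace Y := QuasiCompact.compactSpace_of_compactSpace π
    have hCY : ConnectedSpace Y := Krr.H483.PBTop.connectedSpace hE hPB
    have hKY := Groth.Agent.Krr.H495.Model.isModel Y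
    obtain ⟨g₁, hg₁⟩ := exists_isPull π hK.bijective (Groth.Agent.Sga67.KvbRing.toKR Y).toAddMonoidHom
    have hinj₁ : Function.Injective g₁ := by
      intro x y hxy
      obtain ⟨x, rfl⟩ := hK.bijective.2 x
      obtain ⟨y, rfl⟩ := hK.bijective.2 y
      have key : ∀ z, g₁ (φ z) = toKR Y (Groth.Agent.Krr.H496.PullK0.pullK0 π z) := by
        intro z
        have e : g₁.comp φ = ((toKR Y).toAddMonoidHom).comp (Groth.Agent.Krr.H496.PullK0.pullK0 π) := by
          refine Groth.Agent.Sga67.KvbRing.hom_ext' fun E hE => ?_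
          have h1 := hg₁ E hE
          have h2 := Groth.Agent.Krr.H496.PullK0.pullK0_cl π hE
          exact h1.trans (congrArg (toKR Y).toAddMonoidHom h2.symm)
        exact DFunLike.congr_fun e z
      rw [key, key] at hxy
      rw [injective_pull hE hPB ((toKR Y).injective hxy)]
    obtain ⟨H, hH, hcl⟩ := cl_pull hE hPB hg₁
    obtain ⟨X', hN', hC', f, K', _, _, P', φ', hK', g, hg, hinj, L, hL, hsum⟩ := ih Y hNY hCY _ _ _ hKY H hH
    refine ⟨X', hN', hC', f ≫ π, K', inferInstance, inferInstance, P', φ', hK', g.comp g₁,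
      isPull_comp hg hg₁, hinj.comp hinj₁, Fin.cons ((Scheme.Modules.pullback f).obj O1) L, ?_, ?_⟩
    · intro j
      refine Fin.cases ?_ (fun i => ?_) j
      · exact isFinLocFreeOfRank_pullback f hPB.invertible
      · exact hL i
    · rw [Fin.sum_univ_succ]
      simp only [Fin.cons_zero, Fin.cons_succ]
      rw [AddMonoidHom.comp_apply, hcl, map_add, hsum, hg O1 (isFinLocFree_of_rank hPB.invertible), add_comm]

/-- The class of all models of `K` of connected quasi-compact schemes has the splitting property. -/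
theorem hasSplitting
    (X : Scheme.{u}) [CompactSpace X] [ConnectedSpace ↥X]
    (K : Type (u + 1)) [CommRing K] [LambdaRing.LambdaOps K] (P : LambdaRing.PosStructure K)
    (φ : SGA6.Kvb X →+ K) (hK : KRR.IsModel X K P φ) : LambdaRing.HasSplitting K P := by
  refine ⟨{L | ∃ (Y : Scheme.{u}) (_ : CompactSpace Y) (_ : ConnectedSpace ↥Y) (ψ : SGA6.Kvb Y →+ L.carrier),
    KRR.IsModel Y L.carrier L.posStr ψ}, ⟨X, inferInstance, inferInstance, φ, hK⟩, ?_⟩
  rintro L ⟨Y, hNY, hCY, ψ, hL⟩ e he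
  obtain ⟨m, E, hm, hE, rfl⟩ := (hL.mem_pos_iff _).1 he
  obtain ⟨X', hN', hC', f, K', _, _, P', φ', hK', g, hg, hinj, M, hM, hsum⟩ :=
    splits m Y hNY hCY L.carrier L.posStr ψ hL E hE
  refine ⟨⟨K', P'⟩, ⟨X', hN', hC', φ', hK'⟩, pullRingHom hK' hL hg, isExtension_pull hK' hL hg hinj,
    (Finset.univ.val.map fun j => φ' (cl X' (M j))), ?_, ?_⟩
  · intro u hu
    obtain ⟨j, -, rfl⟩ := Multiset.mem_map.1 hu
    exact ⟨(hK'.mem_pos_iff _).2 ⟨1, M j, le_rfl, hM j, rfl⟩, by rw [hK'.aug_cl _ (M j) (hM j)]; simp⟩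
  · exact hsum.symm

theorem splitHyp (X : Scheme.{u}) [CompactSpace X] [ConnectedSpace ↥X] : Groth.Agent.Krr.H474.Main.SplitHyp X :=
  fun K _ _ P φ hK => hasSplitting X K P φ hK

/-- The shift of the γ-filtration, from the Riemann–Roch formula for one `ψ^j`, for models in any universe. -/
theorem pushCl_gammaFiltration {X Y : Scheme.{u}} [CompactSpace Y] [ConnectedSpace Y]
    (LY : Y.Modules) (hLY : CohB1.IsAmple LY) (f : X ⟶ Y) [IsClosedImmersion f] [ConnectedSpace X]
    (d : ℕ) (C : X.Modules) (hC : FlatMod.IsFinLocFreeOfRank d C)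
    (KX : Type v) [CommRing KX] [LambdaRing.LambdaOps KX] (PX : LambdaRing.PosStructure KX) (φX : SGA6.Kvb X →+ KX)
    (hKX : IsModel X KX PX φX)
    (KY : Type w) [CommRing KY] [LambdaRing.LambdaOps KY] (PY : LambdaRing.PosStructure KY) (φY : SGA6.Kvb Y →+ KY)
    (hKY : IsModel Y KY PY φY)
    (h : KX →+ KY) (j : ℕ) (hj : 2 ≤ j)
    (hRR : ∀ x, LambdaRing.adams PY j (h x) = h (KRR.bott PX j (φX (cl X C)) * LambdaRing.adams PX j x))
    (n : ℕ) (x : KX) (hx : x ∈ LambdaRing.gammaFiltration PX n) :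
    ∃ N : ℕ, 1 ≤ N ∧ (N : KY) * h x ∈ LambdaRing.gammaFiltration PY (n + d) := by
  have hX : CompactSpace X := QuasiCompact.compactSpace_of_compactSpace f
  let := Groth.Agent.Krr.H495.Model.lambdaOps X
  let := Groth.Agent.Krr.H495.Model.lambdaOps Y
  have hMX := Groth.Agent.Krr.H495.Model.isModel X
  have hMY := Groth.Agent.Krr.H495.Model.isModel Y
  obtain ⟨eX, heX, heX'⟩ := Groth.Agent.Krr.H442.ModelIso.exists_posIso hKX hMX
  obtain ⟨eY, heY, heY'⟩ := Groth.Agent.Krr.H442.ModelIso.exists_posIso hKY hMY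
  have hsX := splitHyp X _ _ _ hMX
  have hsY := splitHyp Y _ _ _ hMY
  have hRR' : ∀ x, LambdaRing.adams (Groth.Agent.Krr.H495.Model.pos Y) j
      (conj eX eY h x) = conj eX eY h
        (KRR.bott (Groth.Agent.Krr.H495.Model.pos X) j ((toKR X).toAddMonoidHom (cl X C)) *
          LambdaRing.adams (Groth.Agent.Krr.H495.Model.pos X) j x) := by
    intro x
    obtain ⟨y, rfl⟩ := eX.surjective x
    rw [← heX' (cl X C), ← heX.bott, ← heX.adams, conj_apply_apply, ← map_mul,
      conj_apply_apply, ← heY.adams, hRR]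
  obtain ⟨N, hN, hmem⟩ := Groth.Agent.Krr.H474.FiltShift.filtShift (Groth.Agent.Krr.H495.Model.pos X)
    (Groth.Agent.Krr.H495.Model.pos Y) hsX hsY
    ((toKR X).toAddMonoidHom (cl X ((Scheme.Modules.pullback f).obj LY)))
    (Groth.Agent.Krr.H442.AmpleClass.isAmpleElt_of_isAmple hMX (Groth.Agent.Sga5.AmpleFib.isAmple_pullback f hLY))
    (conj eX eY h) j hj d _
    (Groth.Agent.Krr.H474.Main.aug_bott_cl hMX hsX j d hC) hRR' n (eX x)
    ((heX.mem_gammaFiltration_iff n x).1 hx)
  refine ⟨N, hN, ?_⟩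
  rw [heY.mem_gammaFiltration_iff, map_mul, map_natCast]
  rwa [conj_apply_apply] at hmem

end K535.SplitQC
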