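import Groth.Agent.KRR.K535.KrBlowInj
import Groth.Agent.KRR.K535.KrBlowConn
import Groth.Agent.KRR.K535.KrExcBundle
import Groth.Agent.KRR.K535.KrExcFinal
import Groth.Agent.KRR.K535.Lam2Final
import Groth.Agent.KRR.K535.SplitQC
import Groth.Agent.Krr.H483.PBTop
import Groth.Agent.Krr.H491.BottMul
import Groth.Agent.Krr.H450.Assembly
import Groth.Agent.Flat2C.BlowExist
import Groth.Agent.Divis.AmpleAvoid

/-!
# Adams–Riemann–Roch for `ψ²` and Koszul-regular closed immersions of schemes with an ample module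
-/

set_option autoImplicit false

universe v w u

open CategoryTheory CategoryTheory.Limits AlgebraicGeometry
open Groth.Agent

attribute [local instance] HasDerivedCategory.standard

namespace K535.KrRR

open KRR Groth.Agent.Krr.H495.Model Groth.Agent.Sga67.KvbRing Groth.Agent.Krr.H482.PullLambda

section Alg

variable {K : Type w} [CommRing K] [LambdaRing.LambdaOps K] (P : LambdaRing.PosStructure K)

theorem adams_lamAlt_two (hK : LambdaRing.HasSplitting K P) {F : K} (hF : F ∈ P.pos ∨ F = 0) :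
    LambdaRing.adams P 2 (lamAlt P F) = lamAlt P F * bott P 2 F := by
  rcases hF with hF | rfl
  · exact Groth.Agent.Krr.H491.Bott.adams_lamAlt P hK F hF 2
  · rw [Groth.Agent.Krr.H491.BottMul.lamAlt_zero, Groth.Agent.Krr.H491.BottMul.bott_zero,
      Groth.Agent.Books.Lambda1.adams_one, mul_one]

theorem bott_add_two (hK : LambdaRing.HasSplitting K P) {F E : K} (hF : F ∈ P.pos ∨ F = 0) (hE : E ∈ P.pos) :
    bott P 2 (F + E) = bott P 2 F * bott P 2 E := by
  rcases hF with hF | rfl
  · exact Groth.Agent.Krr.H491.BottMul.bott_add P hK 2 F E hF hE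
  · rw [Groth.Agent.Krr.H491.BottMul.bott_zero, zero_add, one_mul]

end Alg

variable {X Y : Scheme.{u}}

theorem adams_two_KR [ConnectedSpace X] (L : X.Modules) (hL : CohB1.IsAmple L) {d : ℕ} (hd : 0 < d)
    (i : Y ⟶ X) [IsClosedImmersion i] (hi : RegImm.IsRegularImmersion .koszul i) [ConnectedSpace Y]
    (hC : FlatMod.IsFinLocFreeOfRank d (Omega.conormal i)) [CompactSpace X]
    (h : KR Y →+ KR X) (hh : KRR.IsPushCl i (toKR Y).toAddMonoidHom (toKR X).toAddMonoidHom h) (y : KR Y) :
    LambdaRing.adams (pos X) 2 (h y) =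
      h (bott (pos Y) 2 ((toKR Y).toAddMonoidHom (cl Y (Omega.conormal i))) * LambdaRing.adams (pos Y) 2 y) := by
  -- the blow-up
  have hqs : QuasiSeparatedSpace X := Groth.Agent.Divis.AmpleAvoid.quasiSeparatedSpace_of_isAmple hL
  have hX := KrPush.hasEnoughLocFree_of_isAmple hL
  have hft := K535.KrBlow.isFiniteTypeIdeal_ker i hi
  obtain ⟨X', f, hf⟩ : ∃ (X' : Scheme.{u}) (f : X' ⟶ X), BlowUp.IsBlowUp f i.ker :=
    ⟨_, _, Groth.Agent.Flat2C.BlowExist.isBlowUp_b i.ker⟩
  have hfp : IsProper f := Groth.Agent.Flat2C.BlowProper.isProper_of_isBlowUp hf hft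
  obtain ⟨M, hM⟩ := Groth.Agent.Sga67.BlowAmple.exists_isAmple hf L hL
  have hcX' : CompactSpace X' := QuasiCompact.compactSpace_of_compactSpace f
  have hqs' : QuasiSeparatedSpace X' := Groth.Agent.Divis.AmpleAvoid.quasiSeparatedSpace_of_isAmple hM
  have hX' := KrPush.hasEnoughLocFree_of_isAmple hM
  have hconn' : ConnectedSpace X' := K535.KrBlowConn.connectedSpace_blowUp i hi hd hC f hf
  -- the exceptional divisor
  let f₁ := pullback.fst f i
  let ψ := pullback.snd f i
  have hsq : IsPullback f₁ ψ f i := IsPullback.of_hasPullback f i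
  have hf₁c : IsClosedImmersion f₁ :=
    MorphismProperty.of_isPullback (P := @IsClosedImmersion) hsq.flip inferInstance
  have hD : BlowUp.IsEffCartierIdeal f₁.ker := Groth.Agent.Krr.H496.ExcBundle.isEff_exc hf hsq
  have hf₁r : Mor2.IsRegularClosedImmersion f₁ := Groth.Agent.Krr.H458.DivSeq.isRegularClosedImmersion_of_isEff f₁ hD
  have hC₁ : FlatMod.IsFinLocFreeOfRank 1 (Omega.conormal f₁) :=
    Groth.Agent.Krr.H496.GenLocus.isInv_iff.1 (Groth.Agent.Krr.H496.GenLocus.isInv_pullback f₁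
      (Groth.Agent.Krr.H496.ExcBundle.isInv_idealMod hD))
  have hPB := K535.KrExcBundle.isProjBundle_exc hi hf hsq
  obtain ⟨r, rfl⟩ : ∃ r, d = r + 1 := ⟨d - 1, by omega⟩
  have hconn₁ : ConnectedSpace ↥(pullback f i) := Groth.Agent.Krr.H483.PBTop.connectedSpace hC hPB
  -- models
  let φX := (toKR X).toAddMonoidHom
  let φY := (toKR Y).toAddMonoidHom
  let φX' := (toKR X').toAddMonoidHom
  let φE := (toKR (pullback f i)).toAddMonoidHom
  have mX := isModel X
  have mY := isModel Y
  have mX' := isModel X'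
  have mE := isModel (pullback f i)
  obtain ⟨g, hg⟩ := exists_isPull f mX.bijective φX'
  obtain ⟨gψ, hgψ⟩ := exists_isPull ψ mY.bijective φE
  obtain ⟨gf₁, hgf₁⟩ := exists_isPull f₁ mX'.bijective φE
  have hgood : Groth.Agent.Krr.H498.PushCl.GoodPush f₁ := KrPush.goodPush_of_regular hX' f₁ hf₁r
  obtain ⟨h₁, hh₁, -⟩ := Groth.Agent.Krr.H498.PushCl.existsUnique_isPushCl f₁ hX' φE φX' hgood mE.bijective
  have hginj : Function.Injective g := Groth.Agent.Krr.H472.PullModel.injective_of_pullK0 mX.bijective mX'.bijective hg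
    (K535.KrBlowInj.pullK0_injective_blowUp L hL i hi hd hC hX hX' f hf)
  have hsplitE := K535.SplitQC.hasSplitting (pullback f i) _ _ _ mE
  -- the classes
  have hCf : FlatMod.IsFinLocFree (Omega.conormal i) := Groth.Agent.Krr.H487.KerRank.isFinLocFree_of_rank hC
  let q : (Scheme.Modules.pullback ψ).obj (Omega.conormal i) ⟶ Omega.conormal f₁ :=
    Groth.Agent.Grpsch.ConormalIso.conormalMap hsq.w
  have hq : Epi q := Groth.Agent.Grpsch.ConormalIso.epi_conormalMap hsq
  have hψC : FlatMod.IsFinLocFreeOfRank (r + 1) ((Scheme.Modules.pullback ψ).obj (Omega.conormal i)) :=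
    Groth.Agent.Krr.H482.PullLambda.isFinLocFreeOfRank_pullback ψ hC
  have hker : FlatMod.IsFinLocFreeOfRank r (kernel q) :=
    Groth.Agent.Krr.H487.KerRank.isFinLocFreeOfRank_kernel q hψC hC₁
  set N := φY (cl Y (Omega.conormal i)) with hN
  set O := φE (cl _ (Omega.conormal f₁)) with hO
  set F := φE (cl _ (kernel q)) with hF
  have hsum : gψ N = F + O := by
    rw [hN, hgψ _ hCf]
    exact Groth.Agent.Krr.H487.Taut.cl_ses (Groth.Agent.Krr.H487.KerRank.shortExact_kernel q)
      (Groth.Agent.Krr.H487.KerRank.isFinLocFree_of_rank hker)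
      (Groth.Agent.Krr.H487.KerRank.isFinLocFree_of_rank hψC)
      (Groth.Agent.Krr.H487.KerRank.isFinLocFree_of_rank hC₁)
  have hFpos : F ∈ (pos (pullback f i)).pos ∨ F = 0 := by
    rcases Nat.eq_zero_or_pos r with rfl | hr
    · right
      rw [hF]
      have h0 : IsZero (kernel q) := Groth.Agent.Krr.H495.Rank.isZero_of_rank_zero hker
      rw [Groth.Agent.Krr.H450.IsoCase.cl_isZero h0, map_zero]
    · left
      exact (mE.mem_pos_iff _).2 ⟨r, _, hr, hker, rfl⟩
  have hOpos : O ∈ (pos (pullback f i)).pos := (mE.mem_pos_iff _).2 ⟨1, _, le_rfl, hC₁, rfl⟩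
  have hexc : ∀ x, g (h x) = h₁ (lamAlt (pos (pullback f i)) F * gψ x) := by
    intro x
    have := K535.KrExcFinal.excess hX hX' i hi (r + 1) hC f f₁ ψ hsq hf₁r 1 hC₁ _ _ φY mY _ φX _ _ φE mE _ φX'
      g hg gψ hgψ h hh h₁ hh₁ x
    rw [this]
    congr 3
    rw [← hN, ← hO, hsum, add_sub_cancel_right]
  apply hginj
  have hconnX : ConnectedSpace X := inferInstance
  rw [Groth.Agent.Krr.H450.Assembly.pull_adams mX' mX hg (by norm_num) (h y), hexc, hexc,
    K535.Lam2Final.adams_two_push hX' f₁ hD hgood mE mX' hgf₁ hh₁]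
  congr 1
  rw [pull_mul mE mY hgψ, Groth.Agent.Krr.H450.Assembly.pull_bott mE mY hgψ,
    Groth.Agent.Krr.H450.Assembly.pull_adams mE mY hgψ (by norm_num) y,
    Groth.Agent.Books.Lambda1.adams_mul _ hsplitE, adams_lamAlt_two _ hsplitE hFpos, hsum,
    bott_add_two _ hsplitE hFpos hOpos]
  ring

end K535.KrRR
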