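import Groth.Agent.KRR.K535.KrImm
import Groth.Agent.Sga67.KosTheta2

/-!
# `theta` over a chart of a Koszul-regular closed immersion

Same as the section `Chart` of `Sga67.KosTheta2`, for Koszul-regular sequences.
-/

set_option autoImplicit false

universe u v w

open CategoryTheory CategoryTheory.Limits AlgebraicGeometry Opposite TopologicalSpace
open scoped TensorProduct
open Groth.Agent Groth.Agent.Sga67
open Groth.Agent.Sga67.Sec Groth.Agent.Sga67.LocBasis Groth.Agent.Sga67.KosAlt Groth.Agent.Sga67.KosStalk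
open Groth.Agent.Sga67.KosImm hiding Chart
open K535.KrImm
open Groth.Agent.Sga67.KosTheta hiding koszul_data eq_zero_of_theta exists_theta_eq

namespace K535.KrTheta

variable {X Y : Scheme.{u}} {i : Y ⟶ X} {M : Y.Modules} {D : Dat i M} {p : ℕ} {T : Y.Modules}
  {H : HD D.K D.dK p T}

section Chart

variable [IsClosedImmersion i] (c : Chart i)

omit [IsClosedImmersion i] in
theorem koszul_data {x : X} (hx : x ∈ c.U) :
    ∀ q k (z : Alt (X.presheaf.stalk x) c.l.length (k + 1) (StM (D.P q) x)),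
      z.curryLeft (fun j => gO X hx (c.f j)) = 0 →
      ∃ w : Alt (X.presheaf.stalk x) c.l.length (k + 2) (StM (D.P q) x),
        w.curryLeft (fun j => gO X hx (c.f j)) = z :=
  fun q k z hz => c.koszul_exact hx (D.flat q) k z hz

theorem eq_zero_of_theta {U : X.Opens} (hU : U ≤ c.U)
    (ω : Alt Γ(X, U) c.l.length p (SM ((Scheme.Modules.pushforward i).obj M) U))
    (h0 : theta D H (fun j => resO X hU (c.f j)) (fun j => app_resO_eq_zero hU (c.app_f j)) ω = 0)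
    (y : Y) (hy : i y ∈ U) :
    ∃ (W : X.Opens) (hW : W ≤ U), i y ∈ W ∧ bc Γ(X, W) (KosStalk.rs _ hW) ω = 0 := by
  obtain ⟨W, hW, hyW, z, hz, hε, hcl⟩ := exists_rel_theta D H (fun j => resO X hU (c.f j))
    (fun j => app_resO_eq_zero hU (c.app_f j)) ω hy
  rw [h0, map_zero] at hcl
  have hg : ∀ j, i.app W (resO X hW (resO X hU (c.f j))) = 0 := fun j =>
    app_resO_eq_zero hW (app_resO_eq_zero hU (c.app_f j))
  obtain ⟨V, hV, hyV, b, hb⟩ := hcl.exists_boundary y hyW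
  have hyc : i y ∈ c.U := hU hy
  -- germs
  obtain ⟨e, he⟩ := cn_surjective i (D.P (p + 1)) y (gm (D.K (p + 1)) hyV b)
  have h1 : cn i (D.P p) y (gm (D.P p) hyW (ev0 (z p 0)) - stM (D.d p) (i y) e) = 0 := by
    rw [map_sub, cn_gm, cn_stM, he]
    have h2 : gm (D.K p) hyV (ap (D.dK p) V b) = gm (D.K p) hyV (rs _ hV (et i (D.P p) W (ev0 (z p 0)))) := by
      rw [hb]
    rw [gm_rs, ← stM_gm] at h2
    exact sub_eq_zero.mpr h2.symm
  obtain ⟨b', hb'⟩ := c.cn_eq_zero hyc _ _ h1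
  obtain ⟨w, hw⟩ := exists_alt_one b' (fun j => gO X hyc (c.f j))
  have hzx := isZig_gm hz hyW
  have hgg : (fun j => gO X hyW (resO X hW (resO X hU (c.f j)))) = (fun j => gO X hyc (c.f j)) := by
    funext j
    rw [gO_resO, gO_resO]
  rw [hgg] at hzx
  have h3 := eq_zero_of_zig (E := fun q => StM (D.P q) (i y)) (d := fun q => stM (D.d q) (i y))
    (g := fun j => gO X hyc (c.f j)) (stM D.ε (i y))
    (fun e => stM_comp_zero (D.d 0) D.ε D.dε (i y) e)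
    (fun q e => stM_comp_zero (D.d (q + 1)) (D.d q) (D.dd q) (i y) e)
    (fun j t => smul_stalk_push hyc (c.f j) (c.app_f j) t)
    (koszul_data c hyc) hzx ⟨AlternatingMap.constOfIsEmpty _ _ _ e, w, by
      apply ext_ev0
      rw [ev0_bc]
      change gm (D.P p) hyW (ev0 (z p 0)) = stM (D.d p) (i y) e + ev0 (w.curryLeft fun j => gO X hyc (c.f j))
      rw [hw, ← hb', add_sub_cancel]⟩
  have h4 : bc (X.presheaf.stalk (i y)) (gm _ hyW) (bc Γ(X, W) (KosStalk.rs _ hW) ω) = 0 := by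
    rw [← hε, ← h3]
    exact (bc_comp (gm (D.P 0) hyW) (gm _ hyW) (ap D.ε W) (stM D.ε (i y)) (fun e => stM_gm D.ε hyW e) _).symm
  obtain ⟨W', hW', hyW', e5⟩ := alt_eq_zero _ hyW _ h4
  rw [bc_bc _ _ (KosStalk.rs _ (hW'.trans hW)) (fun e => rs_rs _ hW hW' e)] at e5
  exact ⟨W', hW'.trans hW, hyW', e5⟩

theorem exists_theta_eq {V : Y.Opens} (τ : SM T V) (y : Y) (hy : y ∈ V) (hyc : i y ∈ c.U) :
    ∃ (W : X.Opens) (hW : W ≤ c.U) (hWV : i ⁻¹ᵁ W ≤ V), i y ∈ W ∧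
      ∃ ω : Alt Γ(X, W) c.l.length p (SM ((Scheme.Modules.pushforward i).obj M) W),
        theta D H (fun j => resO X hW (c.f j)) (fun j => app_resO_eq_zero hW (c.app_f j)) ω =
          rs T hWV τ := by
  obtain ⟨V₁, hV₁, hyV₁, c₁, hc₁⟩ := exists_cl_locally (H := H) τ y hy
  obtain ⟨e, he⟩ := cn_surjective i (D.P p) y (gm (D.K p) hyV₁ c₁)
  obtain ⟨W₀, hW₀, hyW₀, s, rfl⟩ := exists_gm (D.P p) hyc e
  -- on an open of X
  obtain ⟨O, hO, hOV₁⟩ := exists_open_preimage (i := i) hyV₁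
  have hOW₀ : i ⁻¹ᵁ (W₀ ⊓ O) ≤ V₁ := (i.preimage_mono inf_le_right).trans hOV₁
  have h1 : gm (D.K p) (show y ∈ i ⁻¹ᵁ (W₀ ⊓ O) from ⟨hyW₀, hO⟩) (et i (D.P p) (W₀ ⊓ O) (rs _ inf_le_left s)) =
      gm (D.K p) (show y ∈ i ⁻¹ᵁ (W₀ ⊓ O) from ⟨hyW₀, hO⟩) (rs _ hOW₀ c₁) := by
    rw [gm_rs, ← he, et_rs]
    refine (gm_rs _ _ _ _).trans ?_
    exact (cn_gm i (D.P p) y hyW₀ s).symm
  obtain ⟨V₂, hV₂, hyV₂, e₂⟩ := gm_eq _ _ _ _ h1
  obtain ⟨O₂, hO₂, hO₂V₂⟩ := exists_open_preimage (i := i) hyV₂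
  -- W₁ = W₀ ⊓ O ⊓ O₂
  let W₁ : X.Opens := W₀ ⊓ O ⊓ O₂
  have hW₁V₂ : i ⁻¹ᵁ W₁ ≤ V₂ := (i.preimage_mono inf_le_right).trans hO₂V₂
  have hW₁ : W₁ ≤ W₀ := inf_le_left.trans inf_le_left
  have hyW₁ : i y ∈ W₁ := ⟨⟨hyW₀, hO⟩, hO₂⟩
  have e₃ : et i (D.P p) W₁ (rs _ hW₁ s) = rs _ (hW₁V₂.trans (hV₂.trans hOW₀)) c₁ := by
    have e4 := congrArg (rs (D.K p) hW₁V₂) e₂
    rw [rs_rs, rs_rs, rs_rs, et_rs] at e4
    rw [et_rs, ← e4]
    exact (rs_rs _ _ _ _).symm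
  have hcl : Cl H (et i (D.P p) W₁ (rs _ hW₁ s)) (rs T ((hW₁V₂.trans (hV₂.trans hOW₀)).trans hV₁) τ) := by
    rw [e₃]
    have := hc₁.rs (hW₁V₂.trans (hV₂.trans hOW₀))
    rw [rs_rs] at this
    exact this
  -- zigzag at the stalk
  have hcyc := hcl.isCyc
  obtain ⟨zx, hzx, hzx0⟩ := exists_zig_of_top (E := fun q => StM (D.P q) (i y))
    (d := fun q => stM (D.d q) (i y)) (g := fun j => gO X hyc (c.f j))
    (fun q e => stM_comp_zero (D.d (q + 1)) (D.d q) (D.dd q) (i y) e)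
    (koszul_data c hyc) (p := p) (AlternatingMap.constOfIsEmpty _ _ _ (gm (D.P p) hyW₁ (rs _ hW₁ s))) (by
      intro q hq
      subst hq
      have h2 : cn i (D.P q) y (stM (D.d q) (i y) (gm (D.P (q + 1)) hyW₁ (rs _ hW₁ s))) = 0 := by
        rw [cn_stM, cn_gm]
        refine (stM_gm (D.dK q) (show y ∈ i ⁻¹ᵁ W₁ from hyW₁) _).trans ?_
        have : ap (D.dK q) (i ⁻¹ᵁ W₁) (et i (D.P (q + 1)) W₁ (rs _ hW₁ s)) = 0 := hcyc
        rw [this, map_zero]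
        rfl
      obtain ⟨b', hb'⟩ := c.cn_eq_zero hyc _ _ h2
      obtain ⟨w, hw⟩ := exists_alt_one b' (fun j => gO X hyc (c.f j))
      refine ⟨w, ?_⟩
      apply ext_ev0
      rw [hw, ← hb']
      rfl)
  obtain ⟨W₂, hW₂, hyW₂, z, hz, hzz⟩ := exists_zig_nhd hyW₁ (fun j => resO X (hW₁.trans hW₀) (c.f j)) zx (by
    simp only [gO_resO]
    exact hzx)
  have h5 : gm (D.P p) hyW₂ (ev0 (z p 0)) = gm (D.P p) hyW₂ (rs _ hW₂ (rs _ hW₁ s)) := by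
    rw [← ev0_bc (A' := X.presheaf.stalk (i y)), hzz p 0 le_rfl (Nat.zero_le _), hzx0]
    exact (gm_rs _ hW₂ hyW₂ _).symm
  obtain ⟨W₃, hW₃, hyW₃, e₅⟩ := gm_eq _ hyW₂ _ _ h5
  -- final open
  have hle : W₃ ≤ c.U := (hW₃.trans hW₂).trans (hW₁.trans hW₀)
  refine ⟨W₃, hle, (i.preimage_mono (hW₃.trans hW₂)).trans
    ((hW₁V₂.trans (hV₂.trans hOW₀)).trans hV₁), hyW₃,
    bc Γ(X, W₃) (KosStalk.rs _ hW₃) ((ap D.ε W₂).compAlternatingMap (z 0 p)), ?_⟩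
  apply theta_eq
  intro y' hy'
  refine ⟨W₃, le_rfl, hy', fun q k => bc Γ(X, W₃) (KosStalk.rs (D.P q) hW₃) (z q k), ?_, ?_, ?_⟩
  · have := isZig_rs hz hW₃
    simpa only [resO_resO] using this
  · rw [bc_bc _ _ (KosStalk.rs _ hW₃) (fun e => rs_rs _ hW₃ le_rfl e)]
    exact bc_comp (KosStalk.rs (D.P 0) hW₃) (KosStalk.rs _ hW₃) (ap D.ε W₂) (ap D.ε W₃) (fun e => ap_rs D.ε hW₃ e) _
  · have h6 := hcl.rs (i.preimage_mono (hW₃.trans hW₂))
    have h7 : et i (D.P p) W₃ (ev0 (bc Γ(X, W₃) (KosStalk.rs (D.P p) hW₃) (z p 0))) =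
        rs (D.K p) (i.preimage_mono (hW₃.trans hW₂)) (et i (D.P p) W₁ (rs _ hW₁ s)) := by
      rw [ev0_bc, e₅]
      refine Eq.trans (congrArg (et i (D.P p) W₃) (rs_rs (D.P p) hW₂ hW₃ (rs _ hW₁ s))) ?_
      exact et_rs i (D.P p) (hW₃.trans hW₂) (rs _ hW₁ s)
    have h8 : rs T (i.preimage_mono le_rfl) (rs T ((i.preimage_mono (hW₃.trans hW₂)).trans
        ((hW₁V₂.trans (hV₂.trans hOW₀)).trans hV₁)) τ) =
        rs T (i.preimage_mono (hW₃.trans hW₂)) (rs T ((hW₁V₂.trans (hV₂.trans hOW₀)).trans hV₁) τ) := by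
      rw [rs_rs, rs_rs]
    rw [h7, h8]
    exact h6

end Chart

end K535.KrTheta
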