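import Mathlib.LinearAlgebra.ExteriorPower.Basic
import Mathlib.LinearAlgebra.TensorProduct.RightExactness

/-!
# The second exterior power of a quotient

`ker_map`: for `p : M → M''` surjective with kernel the image of `f : M' → M`, the kernel of `⋀² p` is the image of
`M' ⊗ M → ⋀² M`, `x ⊗ y ↦ f x ∧ y`.
`exists_equiv`: `⋀²_B M = ⋀²_A M` for `A → B` surjective.
-/

set_option autoImplicit false
universe u u₁ u₂ u₃

open scoped TensorProduct

namespace K535.Lam2Alg

section

variable {A : Type u} [CommRing A] {M' : Type u₁} {M : Type u₂} {M'' : Type u₃}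
  [AddCommGroup M'] [Module A M'] [AddCommGroup M] [Module A M] [AddCommGroup M''] [Module A M'']

theorem up0 {T : Type*} (x y z : T) : Function.update ![x, y] 0 z = ![z, y] := by
  funext i; fin_cases i <;> rfl

theorem up1 {T : Type*} (x y z : T) : Function.update ![x, y] 1 z = ![x, z] := by
  funext i; fin_cases i <;> rfl

/-- `x ∧ y` -/
noncomputable def w2 : M →ₗ[A] M →ₗ[A] ⋀[A]^2 M :=
  LinearMap.mk₂ A (fun x y => exteriorPower.ιMulti A 2 ![x, y])
    (fun x x' y => by
      have := (exteriorPower.ιMulti A 2 (M := M)).map_update_add ![x, y] 0 x x'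
      rwa [up0, up0, up0] at this)
    (fun c x y => by
      have := (exteriorPower.ιMulti A 2 (M := M)).map_update_smul ![x, y] 0 c x
      rwa [up0, up0] at this)
    (fun x y y' => by
      have := (exteriorPower.ιMulti A 2 (M := M)).map_update_add ![x, y] 1 y y'
      rwa [up1, up1, up1] at this)
    (fun c x y => by
      have := (exteriorPower.ιMulti A 2 (M := M)).map_update_smul ![x, y] 1 c y
      rwa [up1, up1] at this)

theorem w2_apply (x y : M) : w2 (A := A) x y = exteriorPower.ιMulti A 2 ![x, y] := rfl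

theorem w2_eq (v : Fin 2 → M) : exteriorPower.ιMulti A 2 v = w2 (A := A) (v 0) (v 1) := by
  rw [w2_apply]
  congr 1
  funext i
  fin_cases i <;> rfl

theorem w2_self (x : M) : w2 (A := A) x x = 0 :=
  (exteriorPower.ιMulti A 2 (M := M)).map_eq_zero_of_eq ![x, x] (i := 0) (j := 1) rfl (by decide)

theorem w2_swap (x y : M) : w2 (A := A) x y = - w2 (A := A) y x := by
  have h := w2_self (A := A) (x + y)
  simp only [map_add, LinearMap.add_apply, w2_self, zero_add, add_zero] at h
  exact eq_neg_of_add_eq_zero_left (by rw [add_comm]; exact h)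

theorem map_w2 (g : M →ₗ[A] M'') (x y : M) :
    exteriorPower.map 2 g (w2 (A := A) x y) = w2 (A := A) (g x) (g y) := by
  rw [w2_apply, exteriorPower.map_apply_ιMulti, w2_eq]
  rfl

theorem w2_induction {C : ⋀[A]^2 M → Prop} (h0 : C 0) (ha : ∀ x y, C x → C y → C (x + y))
    (hw : ∀ x y, C (w2 (A := A) x y)) (ω : ⋀[A]^2 M) : C ω := by
  have hx : ω ∈ Submodule.span A (Set.range (exteriorPower.ιMulti A 2 (M := M))) := by
    rw [exteriorPower.ιMulti_span]; trivial
  induction hx using Submodule.closure_induction with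
  | zero => exact h0
  | add x y _ _ hx hy => exact ha x y hx hy
  | smul_mem c x h =>
    obtain ⟨v, rfl⟩ := h
    rw [w2_eq, ← LinearMap.smul_apply, ← map_smul]
    exact hw _ _

/-- Two additive maps agree if they agree on `x ∧ y`. -/
theorem addHom_ext {N : Type*} [AddCommGroup N] {f g : ⋀[A]^2 M →+ N}
    (h : ∀ x y, f (w2 (A := A) x y) = g (w2 (A := A) x y)) (ω : ⋀[A]^2 M) : f ω = g ω := by
  refine w2_induction (C := fun ω => f ω = g ω) (by simp) (fun x y hx hy => by simp [hx, hy]) h ω

/-- The linear map given by an alternating bilinear map. -/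
noncomputable def desc {N : Type*} [AddCommGroup N] [Module A N] (β : M → M → N)
    (ha : ∀ x x' y, β (x + x') y = β x y + β x' y) (hs : ∀ (c : A) x y, β (c • x) y = c • β x y)
    (h0 : ∀ x, β x x = 0) (ha' : ∀ x y y', β x (y + y') = β x y + β x y') : ⋀[A]^2 M →ₗ[A] N :=
  exteriorPower.alternatingMapLinearEquiv
    { toFun := fun v => β (v 0) (v 1)
      map_update_add' := by
        have hd : ∀ (d : DecidableEq (Fin 2)), d = instDecidableEqFin 2 := fun d => Subsingleton.elim _ _
        intro d v i x y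
        obtain rfl := hd d
        fin_cases i
        · simp [Function.update, ha]
        · simp [Function.update, ha']
      map_update_smul' := by
        have hd : ∀ (d : DecidableEq (Fin 2)), d = instDecidableEqFin 2 := fun d => Subsingleton.elim _ _
        have hsw : ∀ x y, β x y = - β y x := by
          intro x y
          have h := h0 (x + y)
          rw [ha, ha', ha', h0, h0, zero_add, add_zero] at h
          exact eq_neg_of_add_eq_zero_left h
        intro d v i c x
        obtain rfl := hd d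
        fin_cases i
        · simp [Function.update, hs]
        · simp only [Function.update, Fin.mk_one, Fin.isValue]
          simp only [Fin.isValue, zero_ne_one, ↓reduceDIte]
          rw [hsw, hs, hsw x, smul_neg, neg_neg, hsw, smul_neg]
      map_eq_zero_of_eq' := by
        intro v i j h hij
        have : v 0 = v 1 := by
          fin_cases i <;> fin_cases j <;> first | exact h | exact h.symm | exact absurd rfl hij
        rw [this, h0] }

@[simp]
theorem desc_w2 {N : Type*} [AddCommGroup N] [Module A N] (β : M → M → N)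
    (ha : ∀ x x' y, β (x + x') y = β x y + β x' y) (hs : ∀ (c : A) x y, β (c • x) y = c • β x y)
    (h0 : ∀ x, β x x = 0) (ha' : ∀ x y y', β x (y + y') = β x y + β x y') (x y : M) :
    desc β ha hs h0 ha' (w2 (A := A) x y) = β x y := by
  rw [desc, w2_apply, exteriorPower.alternatingMapLinearEquiv_apply_ιMulti]
  rfl

/-- `x ⊗ y ↦ f x ∧ y` -/
noncomputable def mu2 (f : M' →ₗ[A] M) : M' ⊗[A] M →ₗ[A] ⋀[A]^2 M :=
  TensorProduct.lift (w2 ∘ₗ f)

@[simp]
theorem mu2_tmul (f : M' →ₗ[A] M) (x : M') (y : M) : mu2 f (x ⊗ₜ[A] y) = w2 (A := A) (f x) y := by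
  simp [mu2]

theorem map_mu2 (f : M' →ₗ[A] M) (p : M →ₗ[A] M'') (h : ∀ x, p (f x) = 0) (t : M' ⊗[A] M) :
    exteriorPower.map 2 p (mu2 f t) = 0 := by
  induction t using TensorProduct.induction_on with
  | zero => simp
  | add x y hx hy => simp [hx, hy]
  | tmul x y => rw [mu2_tmul, map_w2, h, map_zero, LinearMap.zero_apply]

/-- The kernel of `⋀² p`. -/
theorem ker_map (f : M' →ₗ[A] M) (p : M →ₗ[A] M'') (hp : Function.Surjective p)
    (hfp : ∀ m, p m = 0 → ∃ x, f x = m) (ω : ⋀[A]^2 M) (h : exteriorPower.map 2 p ω = 0) :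
    ∃ t, mu2 f t = ω := by
  let N : Submodule A (⋀[A]^2 M) := LinearMap.range (mu2 f)
  let σ := Function.surjInv hp
  have hσ : ∀ x, p (σ x) = x := Function.surjInv_eq hp
  have h1 : ∀ (a b : M), (∃ x, f x = a) → w2 (A := A) a b ∈ N := by
    rintro a b ⟨x, rfl⟩
    exact ⟨x ⊗ₜ b, mu2_tmul _ _ _⟩
  have h2 : ∀ (a b : M), (∃ x, f x = b) → w2 (A := A) a b ∈ N := by
    intro a b hb
    rw [w2_swap]
    exact N.neg_mem (h1 b a hb)
  have key : ∀ a a' b b' : M, p a = p a' → p b = p b' →
      N.mkQ (w2 (A := A) a b) = N.mkQ (w2 (A := A) a' b') := by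
    intro a a' b b' ha hb
    rw [← sub_eq_zero, ← map_sub, Submodule.mkQ_apply, Submodule.Quotient.mk_eq_zero]
    have : w2 (A := A) a b - w2 (A := A) a' b' = w2 (A := A) (a - a') b + w2 (A := A) a' (b - b') := by
      simp only [map_sub, LinearMap.sub_apply]; abel
    rw [this]
    exact N.add_mem (h1 _ _ (hfp _ (by rw [map_sub, ha, sub_self])))
      (h2 _ _ (hfp _ (by rw [map_sub, hb, sub_self])))
  let g : ⋀[A]^2 M'' →ₗ[A] (⋀[A]^2 M) ⧸ N := desc (fun x y => N.mkQ (w2 (A := A) (σ x) (σ y)))
    (fun x x' y => by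
      rw [← map_add, ← LinearMap.add_apply, ← map_add]
      exact key _ _ _ _ (by rw [hσ, map_add, hσ, hσ]) rfl)
    (fun c x y => by
      rw [← map_smul, ← LinearMap.smul_apply, ← map_smul]
      exact key _ _ _ _ (by rw [hσ, map_smul, hσ]) rfl)
    (fun x => by rw [w2_self, map_zero])
    (fun x y y' => by
      rw [← map_add, ← map_add]
      exact key _ _ _ _ rfl (by rw [hσ, map_add, hσ, hσ]))
  have hg : ∀ ω, g (exteriorPower.map 2 p ω) = N.mkQ ω := by
    intro ω
    refine addHom_ext (f := (g ∘ₗ exteriorPower.map 2 p).toAddMonoidHom) (g := N.mkQ.toAddMonoidHom)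
      (fun x y => ?_) ω
    change g (exteriorPower.map 2 p (w2 x y)) = N.mkQ (w2 x y)
    rw [map_w2, desc_w2]
    exact key _ _ _ _ (hσ _) (hσ _)
  have h3 := hg ω
  rw [h, map_zero] at h3
  exact (Submodule.Quotient.mk_eq_zero N).1 h3.symm

end

section Restrict

variable {A B : Type u} [CommRing A] [CommRing B] {M : Type u₁} {M' : Type u₂} [AddCommGroup M] [AddCommGroup M']
  [Module B M] [Module A M'] (σ : A →+* B) (hσ : Function.Surjective σ) (e : M ≃+ M')
  (he : ∀ (a : A) (x : M), e (σ a • x) = a • e x)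

include he in
theorem smul_eq_of_eq {a a' : A} (h : σ a = σ a') (ω : ⋀[A]^2 M') : a • ω = a' • ω := by
  have h1 : ∀ x : M', a • x = a' • x := by
    intro x
    obtain ⟨y, rfl⟩ := e.surjective x
    rw [← he, ← he, h]
  refine w2_induction (C := fun ω => a • ω = a' • ω) (by simp) (fun x y hx hy => by simp only [smul_add, hx, hy])
    (fun x y => ?_) ω
  rw [← LinearMap.smul_apply, ← map_smul, h1, map_smul, LinearMap.smul_apply]

include hσ he in
/-- `⋀²_B M = ⋀²_A M` for `A → B` surjective. -/
theorem exists_equiv : ∃ E : (⋀[B]^2 M) ≃+ (⋀[A]^2 M'),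
    (∀ x y, E (w2 (A := B) x y) = w2 (A := A) (e x) (e y)) ∧ ∀ (a : A) ω, E (σ a • ω) = a • E ω := by
  let τ := Function.surjInv hσ
  have hτ : ∀ b, σ (τ b) = b := Function.surjInv_eq hσ
  have key : ∀ {a a' : A}, σ a = σ a' → ∀ ω : ⋀[A]^2 M', a • ω = a' • ω := fun h ω => smul_eq_of_eq σ e he h ω
  letI m1 : Module B (⋀[A]^2 M') :=
    { smul := fun b ω => τ b • ω
      one_smul := fun ω => (key (by rw [hτ, map_one]) ω).trans (one_smul A ω)
      mul_smul := fun b b' ω => (key (a' := τ b * τ b') (by rw [hτ, map_mul, hτ, hτ]) ω).trans (mul_smul _ _ _)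
      smul_zero := fun b => smul_zero (τ b)
      smul_add := fun b x y => smul_add (τ b) x y
      add_smul := fun b b' ω => (key (a' := τ b + τ b') (by rw [hτ, map_add, hτ, hτ]) ω).trans (add_smul _ _ _)
      zero_smul := fun ω => (key (a' := 0) (by rw [hτ, map_zero]) ω).trans (zero_smul _ _) }
  have hm1 : ∀ (b : B) (ω : ⋀[A]^2 M'), b • ω = τ b • ω := fun _ _ => rfl
  letI m2 : Module A (⋀[B]^2 M) := Module.compHom _ σ
  have hm2 : ∀ (a : A) (ω : ⋀[B]^2 M), a • ω = σ a • ω := fun _ _ => rfl
  let E1 : ⋀[B]^2 M →ₗ[B] ⋀[A]^2 M' := desc (fun x y => w2 (A := A) (e x) (e y))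
    (fun x x' y => by rw [map_add, map_add, LinearMap.add_apply])
    (fun c x y => by
      rw [hm1, ← LinearMap.smul_apply, ← map_smul, ← he, hτ])
    (fun x => w2_self _)
    (fun x y y' => by rw [map_add, map_add])
  have hE1 : ∀ x y, E1 (w2 (A := B) x y) = w2 (A := A) (e x) (e y) := fun x y => desc_w2 _ _ _ _ _ x y
  let E2 : ⋀[A]^2 M' →ₗ[A] ⋀[B]^2 M := desc (fun x y => w2 (A := B) (e.symm x) (e.symm y))
    (fun x x' y => by rw [map_add, map_add, LinearMap.add_apply])
    (fun c x y => by
      rw [hm2, ← LinearMap.smul_apply, ← map_smul]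
      congr 2
      apply e.injective
      rw [he, e.apply_symm_apply, e.apply_symm_apply])
    (fun x => w2_self _)
    (fun x y y' => by rw [map_add, map_add])
  have hE2 : ∀ x y, E2 (w2 (A := A) x y) = w2 (A := B) (e.symm x) (e.symm y) := fun x y => desc_w2 _ _ _ _ _ x y
  refine ⟨{ toFun := E1, invFun := E2, left_inv := ?_, right_inv := ?_, map_add' := map_add E1 }, hE1, ?_⟩
  · intro ω
    refine addHom_ext (f := E2.toAddMonoidHom.comp E1.toAddMonoidHom) (g := AddMonoidHom.id _) (fun x y => ?_) ω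
    change E2 (E1 (w2 x y)) = w2 x y
    rw [hE1, hE2, e.symm_apply_apply, e.symm_apply_apply]
  · intro ω
    refine addHom_ext (f := E1.toAddMonoidHom.comp E2.toAddMonoidHom) (g := AddMonoidHom.id _) (fun x y => ?_) ω
    change E1 (E2 (w2 x y)) = w2 x y
    rw [hE2, hE1, e.apply_symm_apply, e.apply_symm_apply]
  · intro a ω
    change E1 (σ a • ω) = a • E1 ω
    rw [map_smul, hm1]
    exact key (hτ _) _

end Restrict

end K535.Lam2Alg
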