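import Groth.Agent.KRR.K535.Lam2Alg
import Groth.Agent.Sga67.TensorOps
import Mathlib.AlgebraicGeometry.Morphisms.ClosedImmersion

/-!
# The second exterior power of a direct image along a closed immersion

`isExtPow_push`: `Λ²(i_* F) = i_* Λ² F`.
-/

set_option autoImplicit false
universe u
open CategoryTheory CategoryTheory.Limits AlgebraicGeometry Opposite TopologicalSpace
open scoped TensorProduct
open Groth.Agent
open Groth.Agent.Sga67.Sec Groth.Agent.Sga67.LocBasis Groth.Agent.Sga67.ExtSheaf

namespace K535.Lam2Push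

open K535.Lam2Alg

variable {Z W : Scheme.{u}} (i : Z ⟶ W)

/-- Sections of `F` over `i⁻¹ U` as sections of `i_* F`. -/
noncomputable def toP (F : Z.Modules) (U : W.Opens) : Sec F (i ⁻¹ᵁ U) ≃+ Sec ((Scheme.Modules.pushforward i).obj F) U :=
  AddEquiv.refl _

theorem toP_smul (F : Z.Modules) (U : W.Opens) (a : Γ(W, U)) (x : Sec F (i ⁻¹ᵁ U)) :
    toP i F U ((i.app U).hom a • x) = a • toP i F U x := rfl

theorem toP_res (F : Z.Modules) {U V : W.Opens} (h : V ≤ U) (x : Sec F (i ⁻¹ᵁ U)) :
    toP i F V (res F (i.preimage_mono h) x) = res _ h (toP i F U x) := rfl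

theorem isExtPow_push [IsClosedImmersion i] {F L : Z.Modules} (h : ExtPow.IsExtPow 2 F L) :
    ExtPow.IsExtPow 2 ((Scheme.Modules.pushforward i).obj F) ((Scheme.Modules.pushforward i).obj L) := by
  obtain ⟨φ, hφ⟩ := exists_phi h
  have hσ : ∀ U : W.affineOpens, Function.Surjective (i.app U.1).hom := fun U => i.app_surjective U.1 U.2
  choose E hE hE' using fun U : W.affineOpens => exists_equiv (i.app U.1).hom (hσ U) (toP i F U.1)
    (toP_smul i F U.1)
  let U' : W.affineOpens → Z.affineOpens := fun U => ⟨i ⁻¹ᵁ U.1, U.2.preimage i⟩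
  let ψ : Phi 2 ((Scheme.Modules.pushforward i).obj F) ((Scheme.Modules.pushforward i).obj L) := fun U =>
    { toFun := fun s => E U (φ (U' U) ((toP i L U.1).symm s))
      invFun := fun ω => toP i L U.1 ((φ (U' U)).symm ((E U).symm ω))
      left_inv := fun s => by simp
      right_inv := fun ω => by simp
      map_add' := fun s t => by simp
      map_smul' := fun a s => by
        have h1 : (toP i L U.1).symm (a • s) = (i.app U.1).hom a • (toP i L U.1).symm s := by
          apply (toP i L U.1).injective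
          rw [toP_smul, AddEquiv.apply_symm_apply, AddEquiv.apply_symm_apply]
        rw [h1, map_smul, hE', RingHom.id_apply] }
  have hψ : ∀ (U : W.affineOpens) (ω), (ψ U).symm ω = toP i L U.1 ((φ (U' U)).symm ((E U).symm ω)) :=
    fun _ _ => rfl
  refine ⟨ψ, fun U V hVU e => ?_⟩
  change res _ hVU ((ψ U).symm (exteriorPower.ιMulti _ 2 e)) =
    (ψ V).symm (exteriorPower.ιMulti _ 2 (fun j => res _ hVU (e j)))
  have h1 : ∀ (U : W.affineOpens) (x y : Sec ((Scheme.Modules.pushforward i).obj F) U.1),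
      (E U).symm (w2 (A := Γ(W, U.1)) x y) =
        w2 (A := Γ(Z, i ⁻¹ᵁ U.1)) ((toP i F U.1).symm x) ((toP i F U.1).symm y) := by
    intro U x y
    apply (E U).injective
    rw [hE]
    simp
  rw [hψ, hψ, w2_eq, w2_eq, h1, h1, ← toP_res]
  congr 1
  have h2 := hφ (U' U) (U' V) (i.preimage_mono hVU) ![(toP i F U.1).symm (e 0), (toP i F U.1).symm (e 1)]
  rw [w2_eq, w2_eq] at h2
  exact h2

end K535.Lam2Push
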