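import Groth.Agent.KRR.K535.Lam2Sh
import Groth.Agent.KRR.K535.Lam2Push
import Groth.Agent.Ega1.ClosedKill
import Groth.Agent.W4c1frobunstiva.K811.KerComp

/-!
# The restriction sequence and its variant for a quotient

`shortExact_unit`: `0 → I ⊗ M → M → i_* i^* M → 0`.
`exists_ses_quot`: for `0 → E₁ → E₀ → i_* F → 0` the sequence `0 → I ⊗ E₀ → E₁ → i_* K → 0`, `K = ker(i^* E₀ → F)`.
-/

set_option autoImplicit false
universe u
open CategoryTheory CategoryTheory.Limits AlgebraicGeometry Opposite TopologicalSpace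
open scoped TensorProduct
open Groth.Agent
open Groth.Agent.Sga67.Sec Groth.Agent.Sga67.LocBasis Groth.Agent.Sga67.ExtSheaf

namespace K535.Lam2Div

open K535.Lam2Alg K535.Lam2Sh K535.Lam2Push Groth.Agent.Ega1.ClosedKill

theorem iO_mem {W : Scheme.{u}} (D : W.IdealSheafData) (U : W.affineOpens) (a : Sec (ClSub.idealMod D) U.1) :
    iO D U.1 a ∈ D.ideal U :=
  (Groth.Agent.CohqA.IdealMod.exists_idealModι_app_iff D U _).1 ⟨a, rfl⟩

theorem exists_iO {W : Scheme.{u}} (D : W.IdealSheafData) (U : W.affineOpens) {a : Γ(W, U.1)} (ha : a ∈ D.ideal U) :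
    ∃ a' : Sec (ClSub.idealMod D) U.1, iO D U.1 a' = a :=
  (Groth.Agent.CohqA.IdealMod.exists_idealModι_app_iff D U _).2 ha

theorem mult_comp_of_kills {W : Scheme.{u}} {D : W.IdealSheafData} {M N : W.Modules} (g : M ⟶ N)
    (hN : Kills D N) : mult D M ≫ g = 0 := by
  apply tensor_hom_ext
  intro x U hx
  obtain ⟨_, ⟨V, rfl⟩, hxV, hV⟩ := Opens.isBasis_iff_nbhd.mp (affineBasis W) hx
  refine ⟨V.1, hV, hxV, fun a y => ?_⟩
  rw [appS_comp, appS_mult, appS_zero, map_smul]
  exact hN V _ (iO_mem D V a) _

theorem kills_cokernel {W : Scheme.{u}} (D : W.IdealSheafData) (M : W.Modules) :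
    Kills D (cokernel (mult D M)) := by
  have key : ∀ (U : W.affineOpens) (a' : Sec (ClSub.idealMod D) U.1) (s : Sec (cokernel (mult D M)) U.1),
      iO D U.1 a' • s = 0 := by
    intro U a' s
    apply eq_of_locally (cokernel (mult D M)) (U := U.1)
    intro x hx
    obtain ⟨V, hV, hxV, t, ht⟩ := locally_surjective_of_epi (cokernel.π (mult D M)) s x hx
    obtain ⟨_, ⟨V', rfl⟩, hxV', hV'⟩ := Opens.isBasis_iff_nbhd.mp (affineBasis W) hxV
    refine ⟨V'.1, hV'.trans hV, hxV', ?_⟩
    rw [map_zero, res_smul, resO_iO, ← res_res (cokernel (mult D M)) hV hV' s, ← ht, ← appS_res, ← map_smul,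
      ← appS_mult, ← appS_comp, cokernel.condition]
    rfl
  intro U a ha s
  obtain ⟨a', rfl⟩ := exists_iO D U ha
  exact key U a' s

variable {Z W : Scheme.{u}} (i : Z ⟶ W) [IsClosedImmersion i]

theorem pullback_mult (M : W.Modules) : (Scheme.Modules.pullback i).map (mult i.ker M) = 0 := by
  apply ((Scheme.Modules.pullbackPushforwardAdjunction i).homEquiv _ _).injective
  rw [Adjunction.homEquiv_unit, Adjunction.homEquiv_unit, Adjunction.unit_naturality, Functor.map_zero, comp_zero]
  exact mult_comp_of_kills _ (kills_pushforward i _)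

/-- `0 → I ⊗ M → M → i_* i^* M → 0` -/
theorem shortExact_unit {M : W.Modules} (hM : FlatMod.IsFinLocFree M) :
    ∃ w : mult i.ker M ≫ (Scheme.Modules.pullbackPushforwardAdjunction i).unit.app M = 0,
      (ShortComplex.mk (mult i.ker M) ((Scheme.Modules.pullbackPushforwardAdjunction i).unit.app M) w).ShortExact := by
  let m := mult i.ker M
  let Q := cokernel m
  let π : M ⟶ Q := cokernel.π m
  have hm : Mono m := mono_mult i.ker hM
  have hS : (ShortComplex.mk m π (cokernel.condition m)).ShortExact :=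
    { exact := ShortComplex.exact_of_g_is_cokernel _ (cokernelIsCokernel m)
      mono_f := hm
      epi_g := (inferInstance : Epi (cokernel.π m)) }
  have hQ : IsIso ((Scheme.Modules.pullbackPushforwardAdjunction i).unit.app Q) := (kills_cokernel _ _).isIso_unit i
  have hpc : PreservesColimitsOfSize.{0, 0} (Scheme.Modules.pullback i) :=
    (Scheme.Modules.pullbackPushforwardAdjunction i).leftAdjoint_preservesColimits
  have hπ : IsIso ((Scheme.Modules.pullback i).map π) := by
    have h1 : ((ShortComplex.mk m π (cokernel.condition m)).map (Scheme.Modules.pullback i)).Exact :=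
      hS.exact.map_of_epi_of_preservesCokernel (Scheme.Modules.pullback i) (inferInstance : Epi (cokernel.π m)) inferInstance
    have h2 : Mono ((Scheme.Modules.pullback i).map π) := h1.mono_g (pullback_mult i M)
    have h3 : Epi ((Scheme.Modules.pullback i).map π) := inferInstance
    exact isIso_of_mono_of_epi _
  have hnat := (Scheme.Modules.pullbackPushforwardAdjunction i).unit_naturality π
  let e : Q ≅ (Scheme.Modules.pushforward i).obj ((Scheme.Modules.pullback i).obj M) :=
    asIso ((Scheme.Modules.pullbackPushforwardAdjunction i).unit.app Q) ≪≫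
      ((Scheme.Modules.pushforward i).mapIso (asIso ((Scheme.Modules.pullback i).map π))).symm
  have he : π ≫ e.hom = (Scheme.Modules.pullbackPushforwardAdjunction i).unit.app M := by
    rw [← cancel_mono ((Scheme.Modules.pushforward i).mapIso (asIso ((Scheme.Modules.pullback i).map π))).hom]
    simp only [e, Iso.trans_hom, Iso.symm_hom, Category.assoc, Iso.inv_hom_id, Category.comp_id]
    exact hnat.symm
  have w : m ≫ (Scheme.Modules.pullbackPushforwardAdjunction i).unit.app M = 0 := by
    rw [← he, ← Category.assoc]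
    have : m ≫ π = 0 := cokernel.condition m
    rw [this, zero_comp]
  refine ⟨w, ShortComplex.shortExact_of_iso (ShortComplex.isoMk (S₁ := ShortComplex.mk m π (cokernel.condition m))
    (S₂ := ShortComplex.mk m ((Scheme.Modules.pullbackPushforwardAdjunction i).unit.app M) w)
    (Iso.refl _) (Iso.refl _) e ?_ ?_) hS⟩
  · simp
  · simp [he]

theorem exists_of_kernel {W : Scheme.{u}} {M N : W.Modules} (f : M ⟶ N) {U : W.Opens} (m : Sec M U) (h : appS f U m = 0) :
    ∃ t : Sec (kernel f) U, appS (kernel.ι f) U t = m :=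
  exists_of_appS_eq_zero (S := ShortComplex.mk (kernel.ι f) f (kernel.condition _))
    (ShortComplex.exact_kernel _) m h

/-- The adjoint of `p : E₀ ⟶ i_* F`. -/
noncomputable abbrev adj' {E₀ : W.Modules} {F : Z.Modules} (p : E₀ ⟶ (Scheme.Modules.pushforward i).obj F) :
    (Scheme.Modules.pullback i).obj E₀ ⟶ F :=
  ((Scheme.Modules.pullbackPushforwardAdjunction i).homEquiv E₀ F).symm p

omit [IsClosedImmersion i] in
theorem unit_adj' {E₀ : W.Modules} {F : Z.Modules} (p : E₀ ⟶ (Scheme.Modules.pushforward i).obj F) :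
    (Scheme.Modules.pullbackPushforwardAdjunction i).unit.app E₀ ≫ (Scheme.Modules.pushforward i).map (adj' i p) = p := by
  have h := (Scheme.Modules.pullbackPushforwardAdjunction i).homEquiv_unit (X := E₀) (Y := F) (f := adj' i p)
  rw [← h, Equiv.apply_symm_apply]

/-- `0 → I ⊗ E₀ → E₁ → i_* K → 0` -/
theorem exists_ses_quot {E₀ : W.Modules} (hE₀ : FlatMod.IsFinLocFree E₀) {F : Z.Modules}
    (p : E₀ ⟶ (Scheme.Modules.pushforward i).obj F) :
    ∃ (m₀ : CohB1.tensorMod (ClSub.idealMod i.ker) E₀ ⟶ kernel p)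
      (q : kernel p ⟶ (Scheme.Modules.pushforward i).obj (kernel (adj' i p))) (w : m₀ ≫ q = 0),
      (ShortComplex.mk m₀ q w).ShortExact ∧ m₀ ≫ kernel.ι p = mult i.ker E₀ := by
  obtain ⟨w₀, h₀⟩ := shortExact_unit i hE₀
  let η := (Scheme.Modules.pullbackPushforwardAdjunction i).unit.app E₀
  have hη : Epi η := h₀.epi_g
  let p' := adj' i p
  have hηp : η ≫ (Scheme.Modules.pushforward i).map p' = p := unit_adj' i p
  let m₀ : CohB1.tensorMod (ClSub.idealMod i.ker) E₀ ⟶ kernel p :=
    kernel.lift p (mult i.ker E₀) (mult_comp_of_kills p (kills_pushforward i F))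
  have hm₀ : m₀ ≫ kernel.ι p = mult i.ker E₀ := kernel.lift_ι _ _ _
  let K := kernel p'
  let κ := (Scheme.Modules.pushforward i).map (kernel.ι p')
  have hκ : Mono κ := inferInstance
  have hK : ((ShortComplex.mk (kernel.ι p') p' (kernel.condition p')).map (Scheme.Modules.pushforward i)).Exact :=
    (ShortComplex.exact_kernel p').map_of_mono_of_preservesKernel (Scheme.Modules.pushforward i)
      (inferInstance : Mono (kernel.ι p')) inferInstance
  have hz : (kernel.ι p ≫ η) ≫ (Scheme.Modules.pushforward i).map p' = 0 := by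
    rw [Category.assoc, hηp, kernel.condition]
  have hmono : Mono ((ShortComplex.mk (kernel.ι p') p' (kernel.condition p')).map (Scheme.Modules.pushforward i)).f := hκ
  let q : kernel p ⟶ (Scheme.Modules.pushforward i).obj K := hK.lift (kernel.ι p ≫ η) hz
  have hq : q ≫ κ = kernel.ι p ≫ η := hK.lift_f _ _
  have w : m₀ ≫ q = 0 := by
    rw [← cancel_mono κ, Category.assoc, hq, ← Category.assoc, hm₀, zero_comp]
    exact w₀
  refine ⟨m₀, q, w, { exact := ?_, mono_f := ?_, epi_g := ?_ }, hm₀⟩
  · apply exact_of_locally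
    intro U s hs x hx
    have h1 : appS η U (appS (kernel.ι p) U s) = 0 := by
      have h2 : appS q U s = 0 := hs
      rw [← appS_comp, ← hq, appS_comp, h2, map_zero]
    have hmf := h₀.mono_f
    obtain ⟨t, ht⟩ := exists_of_appS_eq_zero h₀.exact (appS (kernel.ι p) U s) h1
    refine ⟨U, le_rfl, hx, t, ?_⟩
    rw [res_self]
    apply Groth.Agent.Sga67.Sec.injective_of_mono (kernel.ι p) U
    change appS (kernel.ι p) U (appS m₀ U t) = _
    rw [← appS_comp, hm₀]
    exact ht
  · have := h₀.mono_f
    exact mono_of_mono_fac hm₀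
  · apply epi_of_locally_surjective
    intro U s x hx
    obtain ⟨V, hV, hxV, t, ht⟩ := locally_surjective_of_epi η (appS κ U s) x hx
    have h1 : appS p V t = 0 := by
      rw [← hηp, appS_comp, ht, ← appS_res, ← appS_comp]
      have : κ ≫ (Scheme.Modules.pushforward i).map p' = 0 := by
        rw [← Functor.map_comp, kernel.condition, Functor.map_zero]
      rw [this]
      rfl
    obtain ⟨t', rfl⟩ := exists_of_kernel p t h1
    refine ⟨V, hV, hxV, t', ?_⟩
    apply Groth.Agent.Sga67.Sec.injective_of_mono κ V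
    change appS κ V (appS q V t') = _
    rw [← appS_comp, hq, appS_comp, ht, appS_res]
    rfl

end K535.Lam2Div
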