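import Groth.Agent.KRR.K535.Lam2Div
import Groth.Agent.Krr.H498.RegPush
import Groth.Agent.Krr.H498.LFRes
import Groth.Agent.Krr.H498.ResPerf
import Groth.Agent.Dix.IdealModCartier
import Groth.Agent.KRR.K535.KrPush
import Groth.Agent.Krr.H495.ExtExist
import Groth.Agent.Krr.H482.PullLambda

/-!
# The kernel `E₁` of `E₀ → i_* F` for a divisor, and `Λ² E₁ → Λ² E₀`
-/

set_option autoImplicit false
universe u
open CategoryTheory CategoryTheory.Limits AlgebraicGeometry Opposite TopologicalSpace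
open scoped TensorProduct
open Groth.Agent
open Groth.Agent.Sga67.Sec Groth.Agent.Sga67.LocBasis Groth.Agent.Sga67.ExtSheaf

namespace K535.Lam2Mono

open K535.Lam2Alg K535.Lam2Sh K535.Lam2Push K535.Lam2Div
open Groth.Agent.Krr.H498 Groth.Agent.Krr.H498.PdSec Groth.Agent.Krr.H498.PdAlg

/-- Small affine opens on which `D` is generated by a nonzerodivisor. -/
theorem exists_small {X : Scheme.{u}} {D : X.IdealSheafData} (hD : BlowUp.IsEffCartierIdeal D) (x : X) (U : X.Opens)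
    (hx : x ∈ U) : ∃ V : X.affineOpens, V.1 ≤ U ∧ x ∈ V.1 ∧ ∃ a : Γ(X, V.1), a ∈ nonZeroDivisors Γ(X, V.1) ∧
      D.ideal V = Ideal.span {a} := by
  obtain ⟨W, a, hxW, ha⟩ := Groth.Agent.Dix.IdealModCartier.exists_genOn hD x
  obtain ⟨_, ⟨V, rfl⟩, hxV, hV⟩ := Opens.isBasis_iff_nbhd.mp (affineBasis X) (show x ∈ U ⊓ W.1 from ⟨hx, hxW⟩)
  exact ⟨V, hV.trans inf_le_left, hxV, _, ha V (hV.trans inf_le_right)⟩

/-- `Λ² f` is a monomorphism. -/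
theorem mono_l {X : Scheme.{u}} {D : X.IdealSheafData} (hD : BlowUp.IsEffCartierIdeal D)
    {E₁ E₀ L₀ L₁ : X.Modules} {f : E₁ ⟶ E₀} [Mono f] (φ₀ : Phi 2 E₀ L₀) (φ₁ : Phi 2 E₁ L₁)
    {m₀ : CohB1.tensorMod (ClSub.idealMod D) E₀ ⟶ E₁} (hm₀ : m₀ ≫ f = mult D E₀)
    {l : L₁ ⟶ L₀} (hl : ∀ (U : X.affineOpens) (s : Sec L₁ U.1),
      φ₀ U (appS l U.1 s) = exteriorPower.map 2 (appS f U.1) (φ₁ U s)) (hL₁ : FlatMod.IsFinLocFree L₁) : Mono l := by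
  apply mono_of_locally_injective
  intro x U hx
  obtain ⟨V₁, hV₁, hx₁, n, b, hb⟩ := Groth.Agent.Sga67.TensorOps.exists_basis_nhd hL₁ hx
  obtain ⟨V, hV, hxV, a, ha, hDa⟩ := exists_small hD x V₁ hx₁
  refine ⟨V.1, hV.trans hV₁, hxV, fun s hs => ?_⟩
  obtain ⟨c, hc⟩ := exists_iO D V (a := a) (by rw [hDa]; exact Ideal.mem_span_singleton_self a)
  let mm : Sec E₀ V.1 →ₗ[Γ(X, V.1)] Sec E₁ V.1 :=
    appS m₀ V.1 ∘ₗ tau _ _ V.1 ∘ₗ (TensorProduct.mk Γ(X, V.1) (Sec (ClSub.idealMod D) V.1) (Sec E₀ V.1) c)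
  have hmm : ∀ z : Sec E₁ V.1, mm (appS f V.1 z) = a • z := by
    intro z
    apply Groth.Agent.Sga67.Sec.injective_of_mono f V.1
    change appS f V.1 (appS m₀ V.1 (tau _ _ V.1 (c ⊗ₜ[Γ(X, V.1)] appS f V.1 z))) = _
    rw [← appS_comp, hm₀, appS_mult, hc, map_smul]
  have h1 : ∀ ω : ⋀[Γ(X, V.1)]^2 (Sec E₁ V.1),
      exteriorPower.map 2 mm (exteriorPower.map 2 (appS f V.1) ω) = (a * a) • ω := by
    intro ω
    refine w2_induction (C := fun ω => exteriorPower.map 2 mm (exteriorPower.map 2 (appS f V.1) ω) = (a * a) • ω)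
      (by simp only [map_zero, smul_zero]) (fun y z hy hz => by simp only [map_add, smul_add, hy, hz])
      (fun y z => ?_) ω
    rw [map_w2, map_w2, hmm, hmm, map_smul, map_smul, LinearMap.smul_apply, smul_smul]
  have h2 : (a * a) • s = 0 := by
    apply (φ₁ V).injective
    rw [map_zero, map_smul, ← h1, ← hl, hs, map_zero, map_zero]
  have haa : a * a ∈ nonZeroDivisors Γ(X, V.1) := mul_mem ha ha
  have hbV := hb.basis hV
  apply hbV.ext_elem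
  intro j
  have h3 : (a * a) * hbV.repr s j = 0 := by
    have := congrArg (fun t => hbV.repr t j) h2
    simpa using this
  rw [map_zero, Finsupp.zero_apply]
  exact (mem_nonZeroDivisors_iff.1 haa).1 _ h3

/-- `i_* F` has local projective dimension at most one for a divisor. -/
theorem pdLE_one {Z W : Scheme.{u}} (i : Z ⟶ W) [IsClosedImmersion i] (hD : BlowUp.IsEffCartierIdeal i.ker)
    {F : Z.Modules} (hF : FlatMod.IsFinLocFree F) : PdLE 1 ((Scheme.Modules.pushforward i).obj F) := by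
  intro y
  obtain ⟨⟨U, hU⟩, hyU, f, hf, hI⟩ := hD y
  refine ⟨U, hU, hyU, ?_⟩
  letI : Algebra Γ(W, U) Γ(Z, i ⁻¹ᵁ U) := (i.app U).hom.toAlgebra
  letI : Module Γ(W, U) Γ(F, i ⁻¹ᵁ U) := Module.compHom _ (i.app U).hom
  haveI : IsScalarTower Γ(W, U) Γ(Z, i ⁻¹ᵁ U) Γ(F, i ⁻¹ᵁ U) :=
    IsScalarTower.of_algebraMap_smul (fun r x => rfl)
  have hs : Function.Surjective (algebraMap Γ(W, U) Γ(Z, i ⁻¹ᵁ U)) := i.app_surjective U hU
  have hk : RingHom.ker (algebraMap Γ(W, U) Γ(Z, i ⁻¹ᵁ U)) = Ideal.ofList [f] := by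
    rw [Ideal.ofList_singleton, ← hI, Scheme.Hom.ker_apply]
    rfl
  have hU' : IsAffineOpen (i ⁻¹ᵁ U) := hU.preimage i
  obtain ⟨h1, h2⟩ := finProj_sections hF hU'
  have hreg : RingTheory.Sequence.IsWeaklyRegular Γ(W, U) [f] := by
    rw [RingTheory.Sequence.isWeaklyRegular_singleton_iff]
    intro x y hxy
    exact sub_eq_zero.1 ((mem_nonZeroDivisors_iff.1 hf).1 (x - y) (by
      rw [mul_sub]; exact sub_eq_zero.2 hxy))
  exact hasProjectiveDimensionLE_of_surjective hs [f] hreg hk Γ(F, i ⁻¹ᵁ U)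

/-- `E₁ = ker (E₀ → i_* F)` is finite locally free. -/
theorem flf_kernel {Z W : Scheme.{u}} [CompactSpace W] [QuasiSeparatedSpace W] (hW : KRR.HasEnoughLocFree W)
    (i : Z ⟶ W) [IsClosedImmersion i] (hD : BlowUp.IsEffCartierIdeal i.ker)
    {F : Z.Modules} (hF : FlatMod.IsFinLocFree F) (hF' : KRR.HasLFRes ((Scheme.Modules.pushforward i).obj F))
    {S : ShortComplex W.Modules} (hS : S.ShortExact) (h₂ : FlatMod.IsFinLocFree S.X₂)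
    (e : S.X₃ = (Scheme.Modules.pushforward i).obj F) : FlatMod.IsFinLocFree S.X₁ := by
  have h3 : KRR.HasLFRes S.X₃ := by rw [e]; exact hF'
  have h2 : KRR.HasLFRes S.X₂ := by
    rw [ResPerf.hasLFRes_iff_isPerfect hW]
    exact PerfA.PerfLocal.isPerfect_inD_of_isFinLocFree h₂
  have h1 : KRR.HasLFRes S.X₁ := ResPerf.hasLFRes_X₁ hW hS h2 h3
  obtain ⟨n, c, hc⟩ := LFRes.hasLFRes_iff.1 h1
  obtain ⟨n', c', hc'⟩ := LFRes.hasLFRes_iff.1 h3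
  refine isFinLocFree_of_pdLE_zero (LFRes.pdLE_and_isCoh_of_res hc).2 ?_
  refine pdLE_kernel hS h₂ (LFRes.pdLE_and_isCoh_of_res hc').2.1 ?_
  rw [e]
  exact pdLE_one i hD hF

/-- The data of the computation of `ψ²(i_* F)`. -/
structure Data {Z W : Scheme.{u}} (i : Z ⟶ W) (F : Z.Modules) where
  E₀ : W.Modules
  E₁ : W.Modules
  L₀ : W.Modules
  L₁ : W.Modules
  G : W.Modules
  K : Z.Modules
  LF : Z.Modules
  LK : Z.Modules
  hE₀ : FlatMod.IsFinLocFree E₀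
  hE₁ : FlatMod.IsFinLocFree E₁
  hK : FlatMod.IsFinLocFree K
  hL₀ : ExtPow.IsExtPow 2 E₀ L₀
  hL₁ : ExtPow.IsExtPow 2 E₁ L₁
  hLF : ExtPow.IsExtPow 2 F LF
  hLK : ExtPow.IsExtPow 2 K LK
  S₀ : ShortComplex W.Modules
  S₁ : ShortComplex Z.Modules
  T₀ : ShortComplex W.Modules
  T₁ : ShortComplex W.Modules
  hS₀ : S₀.ShortExact
  hS₁ : S₁.ShortExact
  hT₀ : T₀.ShortExact
  hT₁ : T₁.ShortExact
  eS₀ : S₀.X₁ = E₁ ∧ S₀.X₂ = E₀ ∧ S₀.X₃ = (Scheme.Modules.pushforward i).obj F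
  eS₁ : S₁.X₁ = K ∧ S₁.X₂ = (Scheme.Modules.pullback i).obj E₀ ∧ S₁.X₃ = F
  eT₀ : T₀.X₁ = G ∧ T₀.X₂ = L₀ ∧ T₀.X₃ = (Scheme.Modules.pushforward i).obj LF
  eT₁ : T₁.X₁ = CohB1.tensorMod (ClSub.idealMod i.ker) G ∧ T₁.X₂ = L₁ ∧ T₁.X₃ = (Scheme.Modules.pushforward i).obj LK

theorem exists_data {Z W : Scheme.{u}} [CompactSpace W] [QuasiSeparatedSpace W] (hW : KRR.HasEnoughLocFree W)
    (i : Z ⟶ W) [IsClosedImmersion i] (hD : BlowUp.IsEffCartierIdeal i.ker) (hi : PushCl.GoodPush i)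
    {F : Z.Modules} (hF : FlatMod.IsFinLocFree F) : Nonempty (Data i F) := by
  have hiF := hi F hF
  have hcoh : Coh.IsCoh ((Scheme.Modules.pushforward i).obj F) := by
    obtain ⟨n, c, hc⟩ := LFRes.hasLFRes_iff.1 hiF
    exact (LFRes.pdLE_and_isCoh_of_res hc).2
  obtain ⟨E₀, p, hE₀, hp⟩ := hW _ hcoh
  have hqF : Coh.IsQCoh ((Scheme.Modules.pushforward i).obj F) := hcoh.1
  have hqE₀ : Coh.IsQCoh E₀ := (PerfA.CohSerre.isCoh_of_isFinLocFree hE₀).1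
  -- `0 → E₁ → E₀ → i_* F → 0`
  let S₀ : ShortComplex W.Modules := ShortComplex.mk (kernel.ι p) p (kernel.condition p)
  have hS₀ : S₀.ShortExact :=
    { exact := ShortComplex.exact_kernel p, mono_f := (inferInstance : Mono (kernel.ι p)), epi_g := hp }
  have hE₁ : FlatMod.IsFinLocFree (kernel p) := flf_kernel hW i hD hF hiF hS₀ hE₀ rfl
  have hqE₁ : Coh.IsQCoh (kernel p) := (PerfA.CohSerre.isCoh_of_isFinLocFree hE₁).1
  -- `0 → K → i^* E₀ → F → 0`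
  have hadj : Epi (adj' i p) := (K811.KerComp.main i E₀ F p).1
  let S₁ : ShortComplex Z.Modules := ShortComplex.mk (kernel.ι (adj' i p)) (adj' i p) (kernel.condition _)
  have hS₁ : S₁.ShortExact :=
    { exact := ShortComplex.exact_kernel _, mono_f := (inferInstance : Mono (kernel.ι (adj' i p))), epi_g := hadj }
  have hiE₀ := Groth.Agent.Krr.H482.PullLambda.isFinLocFree_pullback i hE₀
  have hK : FlatMod.IsFinLocFree (kernel (adj' i p)) := KrEuler.isFinLocFree_kernel hS₁ hiE₀ hF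
  obtain ⟨m₀, q, w, hQ, hm₀⟩ := exists_ses_quot i hE₀ p
  have hqK : Coh.IsQCoh ((Scheme.Modules.pushforward i).obj (kernel (adj' i p))) := by
    obtain ⟨n, c, hc⟩ := LFRes.hasLFRes_iff.1 (hi _ hK)
    exact (LFRes.pdLE_and_isCoh_of_res hc).2.1
  obtain ⟨L₀, hL₀', hL₀⟩ := Groth.Agent.Krr.H495.ExtExist.exists_isExtPow 2 E₀ hE₀
  obtain ⟨L₁, hL₁', hL₁⟩ := Groth.Agent.Krr.H495.ExtExist.exists_isExtPow 2 _ hE₁
  obtain ⟨LF, hLF', hLF⟩ := Groth.Agent.Krr.H495.ExtExist.exists_isExtPow 2 F hF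
  obtain ⟨LK, hLK', hLK⟩ := Groth.Agent.Krr.H495.ExtExist.exists_isExtPow 2 _ hK
  obtain ⟨φ₀, hφ₀⟩ := exists_phi hL₀
  obtain ⟨φ₁, hφ₁⟩ := exists_phi hL₁
  obtain ⟨φF, hφF⟩ := exists_phi (isExtPow_push i hLF)
  obtain ⟨φK, hφK⟩ := exists_phi (isExtPow_push i hLK)
  obtain ⟨l, hl⟩ := exists_extMap (kernel.ι p) φ₁ hφ₁ φ₀ hφ₀
  obtain ⟨g₀, hg₀⟩ := exists_extMap p φ₀ hφ₀ φF hφF
  obtain ⟨g₁, hg₁⟩ := exists_extMap q φ₁ hφ₁ φK hφK
  obtain ⟨W₀, hW₀⟩ := exists_wmap (kernel.ι p) φ₀ hφ₀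
  obtain ⟨W₁, hW₁⟩ := exists_wmap m₀ φ₁ hφ₁
  obtain ⟨w₀, hT₀⟩ := lam_ses (S := S₀) φ₀ φF g₀ hg₀ W₀ hW₀ hS₀
  obtain ⟨w₁, hT₁⟩ := lam_ses (S := ShortComplex.mk m₀ q w) φ₁ φK g₁ hg₁ W₁ hW₁ hQ
  have hlm : Mono l := mono_l hD φ₀ φ₁ hm₀ hl hL₁'
  have hI : FlatMod.IsFinLocFree (ClSub.idealMod i.ker) :=
    Groth.Agent.Krr.H482.PullLambda.isFinLocFree_of_rank
      (Groth.Agent.Ega2.QCohLocal.isFinLocFreeOfRank_one_iff.mpr
        (Groth.Agent.Dix.IdealModCartier.isInvertible_idealMod hD))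
  obtain ⟨e⟩ := nonempty_iso_twist φ₀ φ₁ hm₀ hW₀ hW₁ hl hI hL₀'
  have w₂ : (e.inv ≫ image.ι W₁) ≫ g₁ = 0 := by rw [Category.assoc, w₁, comp_zero]
  have hT₂ : (ShortComplex.mk (e.inv ≫ image.ι W₁) g₁ w₂).ShortExact :=
    ShortComplex.shortExact_of_iso (ShortComplex.isoMk (S₁ := ShortComplex.mk (image.ι W₁) g₁ w₁)
      (S₂ := ShortComplex.mk (e.inv ≫ image.ι W₁) g₁ w₂) e (Iso.refl _) (Iso.refl _) (by simp) (by simp)) hT₁
  exact ⟨⟨E₀, kernel p, L₀, L₁, image W₀, kernel (adj' i p), LF, LK, hE₀, hE₁, hK, hL₀, hL₁, hLF, hLK,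
    S₀, S₁, _, _, hS₀, hS₁, hT₀, hT₂, ⟨rfl, rfl, rfl⟩, ⟨rfl, rfl, rfl⟩, ⟨rfl, rfl, rfl⟩, ⟨rfl, rfl, rfl⟩⟩⟩

end K535.Lam2Mono
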