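import Groth.Agent.KRR.K535.Lam2Alg
import Groth.Agent.Sga67.TensorOps
import Groth.Agent.PerfA.QCohEpi
import Groth.Agent.CohqA.IdealMod

/-!
# The second exterior power of a quotient of quasi-coherent modules

`lam_ses`: for `0 → E₁ → E₀ → M → 0` exact with quasi-coherent modules, and second exterior powers `L₀`, `N` of `E₀`,
`M`, the sequence `0 → G → L₀ → N → 0` is exact, `G` the image of `E₁ ⊗ E₀ → L₀`, `x ⊗ y ↦ f x ∧ y`.
-/

set_option autoImplicit false
universe u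
open CategoryTheory CategoryTheory.Limits AlgebraicGeometry Opposite TopologicalSpace
open scoped TensorProduct
open Groth.Agent
open Groth.Agent.Sga67.Sec Groth.Agent.Sga67.LocBasis Groth.Agent.Sga67.ExtSheaf

namespace K535.Lam2Sh

open K535.Lam2Alg

variable {X : Scheme.{u}}

/-- `z` is locally in the image of `b`. -/
def LocIm {B L : X.Modules} (b : B ⟶ L) (V : X.Opens) (z : Sec L V) : Prop :=
  ∀ x ∈ V, ∃ (V' : X.Opens) (h : V' ≤ V), x ∈ V' ∧ ∃ t : Sec B V', appS b V' t = res L h z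

section LocIm

variable {B L : X.Modules} {b : B ⟶ L} {V : X.Opens}

theorem LocIm.of_eq {z : Sec L V} (t : Sec B V) (h : appS b V t = z) : LocIm b V z :=
  fun x hx => ⟨V, le_rfl, hx, t, by rw [h, res_self]⟩

theorem LocIm.zero : LocIm b V (0 : Sec L V) := LocIm.of_eq 0 (map_zero _)

theorem LocIm.add {z z' : Sec L V} (h : LocIm b V z) (h' : LocIm b V z') : LocIm b V (z + z') := by
  intro x hx
  obtain ⟨V₁, hV₁, hx₁, t₁, ht₁⟩ := h x hx
  obtain ⟨V₂, hV₂, hx₂, t₂, ht₂⟩ := h' x hx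
  refine ⟨V₁ ⊓ V₂, inf_le_left.trans hV₁, ⟨hx₁, hx₂⟩, res B inf_le_left t₁ + res B inf_le_right t₂, ?_⟩
  rw [map_add, appS_res, appS_res, ht₁, ht₂, res_res, res_res, map_add]

theorem LocIm.res {z : Sec L V} (h : LocIm b V z) {V' : X.Opens} (hV : V' ≤ V) :
    LocIm b V' (Groth.Agent.Sga67.Sec.res L hV z) := by
  intro x hx
  obtain ⟨V₁, hV₁, hx₁, t₁, ht₁⟩ := h x (hV hx)
  refine ⟨V₁ ⊓ V', inf_le_right, ⟨hx₁, hx⟩, Groth.Agent.Sga67.Sec.res B inf_le_left t₁, ?_⟩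
  rw [appS_res, ht₁, res_res, res_res]

theorem LocIm.of_local {z : Sec L V} (h : ∀ x ∈ V, ∃ (V' : X.Opens) (h : V' ≤ V), x ∈ V' ∧
    LocIm b V' (Groth.Agent.Sga67.Sec.res L h z)) : LocIm b V z := by
  intro x hx
  obtain ⟨V₁, hV₁, hx₁, h₁⟩ := h x hx
  obtain ⟨V₂, hV₂, hx₂, t, ht⟩ := h₁ x hx₁
  exact ⟨V₂, hV₂.trans hV₁, hx₂, t, by rw [ht, res_res]⟩

theorem LocIm.smul {z : Sec L V} (h : LocIm b V z) (a : Γ(X, V)) : LocIm b V (a • z) := by
  intro x hx
  obtain ⟨V₁, hV₁, hx₁, t₁, ht₁⟩ := h x hx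
  exact ⟨V₁, hV₁, hx₁, resO X hV₁ a • t₁, by rw [map_smul, ht₁, res_smul]⟩

theorem LocIm.neg {z : Sec L V} (h : LocIm b V z) : LocIm b V (-z) := by
  intro x hx
  obtain ⟨V₁, hV₁, hx₁, t₁, ht₁⟩ := h x hx
  exact ⟨V₁, hV₁, hx₁, - t₁, by rw [map_neg, ht₁, map_neg]⟩

end LocIm

/-- Monomorphisms into `L` with the same local image. -/
theorem nonempty_iso_of_locIm {A B L : X.Modules} (a : A ⟶ L) (b : B ⟶ L) [Mono a] [Mono b]
    (h₁ : ∀ (U : X.Opens) (s : Sec A U), LocIm b U (appS a U s))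
    (h₂ : ∀ (U : X.Opens) (s : Sec B U), LocIm a U (appS b U s)) : Nonempty (A ≅ B) := by
  have key : ∀ {A B : X.Modules} (a : A ⟶ L) (b : B ⟶ L) [Mono a] [Mono b],
      (∀ (U : X.Opens) (s : Sec A U), LocIm b U (appS a U s)) → ∃ j : A ⟶ B, j ≫ b = a := by
    intro A B a b _ _ h
    have h0 : a ≫ cokernel.π b = 0 := by
      apply hom_ext
      intro U s
      apply eq_of_locally
      intro x hx
      obtain ⟨V, hV, hxV, t, ht⟩ := h U s x hx
      refine ⟨V, hV, hxV, ?_⟩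
      rw [← appS_res, appS_comp, appS_res a, ← ht, ← appS_comp, cokernel.condition, appS_zero, appS_zero, map_zero]
    exact ⟨Abelian.monoLift b a h0, Abelian.monoLift_comp _ _ _⟩
  obtain ⟨j, hj⟩ := key a b h₁
  obtain ⟨k, hk⟩ := key b a h₂
  exact ⟨⟨j, k, by rw [← cancel_mono a, Category.assoc, hk, hj, Category.id_comp],
    by rw [← cancel_mono b, Category.assoc, hj, hk, Category.id_comp]⟩⟩

/-- Induction on sections of a tensor product. -/
theorem tensor_ind {A B : X.Modules} (C : ∀ V : X.Opens, Sec (CohB1.tensorMod A B) V → Prop)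
    (hloc : ∀ V s, (∀ x ∈ V, ∃ (V' : X.Opens) (h : V' ≤ V), x ∈ V' ∧ C V' (res _ h s)) → C V s)
    (h0 : ∀ V, C V 0) (hadd : ∀ V s t, C V s → C V t → C V (s + t))
    (hgen : ∀ (V : X.affineOpens) (a : Sec A V.1) (b : Sec B V.1), C V.1 (tau A B V.1 (a ⊗ₜ[Γ(X, V.1)] b)))
    (V : X.Opens) (s : Sec (CohB1.tensorMod A B) V) : C V s := by
  apply hloc
  intro x hx
  obtain ⟨V₁, hV₁, hx₁, t, ht⟩ := tau_locsurj A B s x hx
  obtain ⟨_, ⟨V₂, rfl⟩, hx₂, hV₂⟩ := Opens.isBasis_iff_nbhd.mp (affineBasis X) hx₁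
  refine ⟨V₂.1, hV₂.trans hV₁, hx₂, ?_⟩
  rw [← res_res _ hV₁ hV₂, ← ht, ← tau_tres]
  generalize tres A B hV₂ t = t'
  induction t' using TensorProduct.induction_on with
  | zero => rw [map_zero]; exact h0 _
  | add y z hy hz => rw [map_add]; exact hadd _ _ _ hy hz
  | tmul a b => exact hgen V₂ a b

/-- The map `E₁ ⊗ E₀ → Λ² E₀`, `x ⊗ y ↦ f x ∧ y`. -/
theorem exists_wmap {E₁ E₀ L₀ : X.Modules} (f : E₁ ⟶ E₀) (φ : Phi 2 E₀ L₀) (hφ : PhiComp φ) :
    ∃ m : CohB1.tensorMod E₁ E₀ ⟶ L₀, ∀ (U : X.affineOpens) (t : Sec E₁ U.1 ⊗[Γ(X, U.1)] Sec E₀ U.1),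
      φ U (appS m U.1 (tau E₁ E₀ U.1 t)) = mu2 (appS f U.1) t := by
  obtain ⟨m, hm⟩ := exists_tensor_hom (affineBasis X) E₁ E₀ L₀
    (fun U => (φ U).symm.toLinearMap ∘ₗ mu2 (appS f U.1)) (by
      intro U V h x y
      have h1 := hφ U V h ![appS f U.1 x, y]
      simp only [LinearMap.comp_apply, LinearEquiv.coe_coe, mu2_tmul, w2_apply]
      rw [h1, w2_eq, w2_eq]
      simp [appS_res])
  refine ⟨m, fun U t => ?_⟩
  rw [hm U t]
  simp

section Ses

variable {S : ShortComplex X.Modules} {L₀ N : X.Modules} (φ : Phi 2 S.X₂ L₀) (ψ : Phi 2 S.X₃ N)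
  (l : L₀ ⟶ N) (hl : ∀ (U : X.affineOpens) (s : Sec L₀ U.1),
    ψ U (appS l U.1 s) = exteriorPower.map 2 (appS S.g U.1) (φ U s))
  (m : CohB1.tensorMod S.X₁ S.X₂ ⟶ L₀)
  (hm : ∀ (U : X.affineOpens) (t : Sec S.X₁ U.1 ⊗[Γ(X, U.1)] Sec S.X₂ U.1),
    φ U (appS m U.1 (tau S.X₁ S.X₂ U.1 t)) = mu2 (appS S.f U.1) t)

include hl hm in
theorem comp_eq_zero : m ≫ l = 0 := by
  apply hom_ext
  intro V s
  refine tensor_ind (C := fun V s => appS (m ≫ l) V s = appS 0 V s) ?_ ?_ ?_ ?_ V s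
  · intro V s h
    apply eq_of_locally
    intro x hx
    obtain ⟨V', hV', hx', e⟩ := h x hx
    exact ⟨V', hV', hx', by rw [← appS_res, ← appS_res, e]⟩
  · intro V; rw [map_zero, map_zero]
  · intro V s t hs ht; rw [map_add, map_add, hs, ht]
  · intro V a b
    apply (ψ V).injective
    rw [appS_comp, appS_zero, map_zero, hl, hm]
    exact map_mu2 _ _ (fun x => by rw [← appS_comp, S.zero]; rfl) _

variable (hS : S.ShortExact) [Coh.IsQCoh S.X₂] [Coh.IsQCoh S.X₃]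

include hl hS in
theorem epi_l : Epi l := by
  have := hS.epi_g
  apply epi_of_locally_surjective
  intro U s x hx
  obtain ⟨_, ⟨V, rfl⟩, hxV, hV⟩ := Opens.isBasis_iff_nbhd.mp (affineBasis X) hx
  refine ⟨V.1, hV, hxV, ?_⟩
  have hsurj : Function.Surjective (appS S.g V.1) :=
    Groth.Agent.PerfA.QCohEpi.app_surjective_of_epi S.g V.2
  obtain ⟨ω, hω⟩ := exteriorPower.map_surjective (n := 2) hsurj (ψ V (res N hV s))
  refine ⟨(φ V).symm ω, ?_⟩
  apply (ψ V).injective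
  rw [hl, LinearEquiv.apply_symm_apply, hω]

include hl hm hS in
/-- `0 → G → Λ² E₀ → Λ² M → 0` -/
theorem lam_ses : ∃ w : image.ι m ≫ l = 0, (ShortComplex.mk (image.ι m) l w).ShortExact := by
  have w : image.ι m ≫ l = 0 := by
    rw [← cancel_epi (factorThruImage m), ← Category.assoc, image.fac, comp_zero]
    exact comp_eq_zero φ ψ l hl m hm
  have hepi := epi_l φ ψ l hl hS
  have := hS.epi_g
  have hmono := hS.mono_f
  refine ⟨w, { exact := ?_, mono_f := (inferInstance : Mono (image.ι m)), epi_g := hepi }⟩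
  apply exact_of_locally
  intro U s hs x hx
  obtain ⟨_, ⟨V, rfl⟩, hxV, hV⟩ := Opens.isBasis_iff_nbhd.mp (affineBasis X) hx
  refine ⟨V.1, hV, hxV, ?_⟩
  have hsurj : Function.Surjective (appS S.g V.1) :=
    Groth.Agent.PerfA.QCohEpi.app_surjective_of_epi S.g V.2
  have h0 : exteriorPower.map 2 (appS S.g V.1) (φ V (res L₀ hV s)) = 0 := by
    rw [← hl, appS_res]
    have : appS l U s = 0 := hs
    rw [this, map_zero, map_zero]
  obtain ⟨t, ht⟩ := ker_map (appS S.f V.1) (appS S.g V.1) hsurj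
    (fun y hy => exists_of_appS_eq_zero hS.exact y hy) _ h0
  refine ⟨appS (factorThruImage m) V.1 (tau _ _ V.1 t), ?_⟩
  change appS (image.ι m) V.1 (appS (factorThruImage m) V.1 (tau _ _ V.1 t)) = res L₀ hV s
  rw [← appS_comp, image.fac]
  apply (φ V).injective
  rw [hm, ht]

end Ses

section Mult

variable (D : X.IdealSheafData)

/-- The inclusion of the ideal on sections. -/
noncomputable def iO (U : X.Opens) : Sec (ClSub.idealMod D) U →ₗ[Γ(X, U)] Γ(X, U) :=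
  appS (ClSub.idealModι D) U

theorem resO_iO {U V : X.Opens} (h : V ≤ U) (a : Sec (ClSub.idealMod D) U) :
    resO X h (iO D U a) = iO D V (res _ h a) := (appS_res (ClSub.idealModι D) h a).symm

theorem mono_idealModι : Mono (ClSub.idealModι D) :=
  (inferInstance : Mono (kernel.ι (C := X.Modules) (ClSub.toSubscheme D)))

/-- The multiplication `I ⊗ M → M`. -/
theorem exists_mult (M : X.Modules) : ∃ m : CohB1.tensorMod (ClSub.idealMod D) M ⟶ M,
    ∀ (U : X.affineOpens) (a : Sec (ClSub.idealMod D) U.1) (y : Sec M U.1),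
      appS m U.1 (tau _ _ U.1 (a ⊗ₜ[Γ(X, U.1)] y)) = iO D U.1 a • y := by
  obtain ⟨m, hm⟩ := exists_tensor_hom (affineBasis X) (ClSub.idealMod D) M M
    (fun U => TensorProduct.lift ((LinearMap.lsmul Γ(X, U.1) (Sec M U.1)) ∘ₗ iO D U.1)) (by
      intro U V h a y
      simp only [TensorProduct.lift.tmul, LinearMap.comp_apply, LinearMap.lsmul_apply]
      rw [res_smul, resO_iO])
  exact ⟨m, fun U a y => by rw [hm]; simp⟩

/-- The multiplication `I ⊗ M → M`. -/
noncomputable def mult (M : X.Modules) : CohB1.tensorMod (ClSub.idealMod D) M ⟶ M := (exists_mult D M).choose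

theorem appS_mult (M : X.Modules) (U : X.affineOpens) (a : Sec (ClSub.idealMod D) U.1) (y : Sec M U.1) :
    appS (mult D M) U.1 (tau _ _ U.1 (a ⊗ₜ[Γ(X, U.1)] y)) = iO D U.1 a • y :=
  (exists_mult D M).choose_spec U a y

theorem mono_mult {M : X.Modules} (hM : FlatMod.IsFinLocFree M) : Mono (mult D M) := by
  apply Preadditive.mono_of_cancel_zero
  intro K k hk
  apply hom_ext
  intro U s
  apply eq_of_locally
  intro x hx
  obtain ⟨V, hV, hxV, t, ht⟩ := tau_locsurj _ M (appS k U s) x hx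
  obtain ⟨V₁, hV₁, hx₁, n, b, hb⟩ := Groth.Agent.Sga67.TensorOps.exists_basis_nhd hM hxV
  obtain ⟨_, ⟨W, rfl⟩, hxW, hW⟩ := Opens.isBasis_iff_nbhd.mp (affineBasis X) hx₁
  have hfree : Module.Free Γ(X, W.1) (Sec M W.1) := Module.Free.of_basis (hb.basis hW)
  have := mono_idealModι D
  have hinj : Function.Injective (TensorProduct.map (iO D W.1) (LinearMap.id (M := Sec M W.1))) :=
    Module.Flat.rTensor_preserves_injective_linearMap (M := Sec M W.1) (iO D W.1)
      (Groth.Agent.Sga67.Sec.injective_of_mono (ClSub.idealModι D) W.1)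
  have h3 : tres _ M (hW.trans hV₁) t = 0 := by
    apply hinj
    rw [map_zero]
    apply (TensorProduct.lid Γ(X, W.1) (Sec M W.1)).injective
    rw [map_zero]
    have h4 : ∀ t : Sec (ClSub.idealMod D) W.1 ⊗[Γ(X, W.1)] Sec M W.1,
        TensorProduct.lid Γ(X, W.1) (Sec M W.1) (TensorProduct.map (iO D W.1) LinearMap.id t) =
          appS (mult D M) W.1 (tau _ _ W.1 t) := by
      intro t
      induction t using TensorProduct.induction_on with
      | zero => simp only [map_zero]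
      | add y z hy hz => simp only [map_add, hy, hz]
      | tmul a y => rw [appS_mult]; simp
    rw [h4, tau_tres, ht, res_res, appS_res, ← appS_comp, hk, appS_zero, map_zero]
  refine ⟨W.1, (hW.trans hV₁).trans hV, hxW, ?_⟩
  rw [← res_res _ hV (hW.trans hV₁), ← ht, ← tau_tres, h3, map_zero, appS_zero, map_zero]

/-- Naturality of the multiplication. -/
theorem tmap_mult {M N : X.Modules} (g : M ⟶ N) : tmap (ClSub.idealMod D) g ≫ mult D N = mult D M ≫ g := by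
  apply tensor_hom_ext
  intro x U hx
  obtain ⟨_, ⟨W, rfl⟩, hxW, hW⟩ := Opens.isBasis_iff_nbhd.mp (affineBasis X) hx
  refine ⟨W.1, hW, hxW, fun a y => ?_⟩
  rw [appS_comp, appS_comp, appS_tmap, TensorProduct.map_tmul, appS_mult, appS_mult, map_smul]
  rfl

variable {D}
variable {E₁ E₀ L₀ L₁ : X.Modules} {f : E₁ ⟶ E₀} (φ₀ : Phi 2 E₀ L₀) (φ₁ : Phi 2 E₁ L₁)
  {m₀ : CohB1.tensorMod (ClSub.idealMod D) E₀ ⟶ E₁} (hm₀ : m₀ ≫ f = mult D E₀)
  {W₀ : CohB1.tensorMod E₁ E₀ ⟶ L₀}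
  (hW₀ : ∀ (U : X.affineOpens) (t : Sec E₁ U.1 ⊗[Γ(X, U.1)] Sec E₀ U.1),
    φ₀ U (appS W₀ U.1 (tau E₁ E₀ U.1 t)) = mu2 (appS f U.1) t)
  {W₁ : CohB1.tensorMod (CohB1.tensorMod (ClSub.idealMod D) E₀) E₁ ⟶ L₁}
  (hW₁ : ∀ (U : X.affineOpens) (t : Sec (CohB1.tensorMod (ClSub.idealMod D) E₀) U.1 ⊗[Γ(X, U.1)] Sec E₁ U.1),
    φ₁ U (appS W₁ U.1 (tau _ E₁ U.1 t)) = mu2 (appS m₀ U.1) t)
  {l : L₁ ⟶ L₀} (hl : ∀ (U : X.affineOpens) (s : Sec L₁ U.1),
    φ₀ U (appS l U.1 s) = exteriorPower.map 2 (appS f U.1) (φ₁ U s))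

include hm₀ hW₀ hW₁ hl in
theorem key_eq (V : X.affineOpens) (c : Sec (ClSub.idealMod D) V.1) (y : Sec E₀ V.1) (x : Sec E₁ V.1) :
    appS (W₁ ≫ l) V.1 (tau _ _ V.1 (tau _ _ V.1 (c ⊗ₜ[Γ(X, V.1)] y) ⊗ₜ[Γ(X, V.1)] x)) =
      - (iO D V.1 c • appS W₀ V.1 (tau _ _ V.1 (x ⊗ₜ[Γ(X, V.1)] y))) := by
  apply (φ₀ V).injective
  have e1 : φ₀ V (appS (W₁ ≫ l) V.1 (tau _ _ V.1 (tau _ _ V.1 (c ⊗ₜ[Γ(X, V.1)] y) ⊗ₜ[Γ(X, V.1)] x))) =
      iO D V.1 c • w2 (A := Γ(X, V.1)) y (appS f V.1 x) := by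
    rw [appS_comp, hl, hW₁, mu2_tmul, map_w2, ← appS_comp m₀, hm₀, appS_mult, map_smul, LinearMap.smul_apply]
  have e2 : φ₀ V (- (iO D V.1 c • appS W₀ V.1 (tau _ _ V.1 (x ⊗ₜ[Γ(X, V.1)] y)))) =
      - (iO D V.1 c • w2 (A := Γ(X, V.1)) (appS f V.1 x) y) := by
    rw [map_neg, (φ₀ V).map_smul, hW₀, mu2_tmul]
  rw [e1, e2, w2_swap, smul_neg]

include hm₀ hW₀ hW₁ hl in
/-- The image of `(I ⊗ E₀) ⊗ E₁ → Λ² E₁` is `I ⊗ G`. -/
theorem nonempty_iso_twist (hI : FlatMod.IsFinLocFree (ClSub.idealMod D)) (hL₀ : FlatMod.IsFinLocFree L₀) [Mono l] :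
    Nonempty (image W₁ ≅ CohB1.tensorMod (ClSub.idealMod D) (image W₀)) := by
  have h1 : Mono (mult D L₀) := mono_mult D hL₀
  have h2 : Mono (tmap (ClSub.idealMod D) (image.ι W₀)) := Groth.Agent.Sga67.TensorOps.mono_tmap hI _
  have hm1 : Mono (image.ι W₁ ≫ l) := mono_comp _ _
  have hm2 : Mono (tmap (ClSub.idealMod D) (image.ι W₀) ≫ mult D L₀) := mono_comp _ _
  have hb : ∀ (V : X.affineOpens) (c : Sec (ClSub.idealMod D) V.1) (g : Sec (image W₀) V.1),
      appS (tmap (ClSub.idealMod D) (image.ι W₀) ≫ mult D L₀) V.1 (tau _ _ V.1 (c ⊗ₜ[Γ(X, V.1)] g)) =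
        iO D V.1 c • appS (image.ι W₀) V.1 g := by
    intro V c g
    rw [appS_comp, appS_tmap, TensorProduct.map_tmul, appS_mult]
    rfl
  refine nonempty_iso_of_locIm (image.ι W₁ ≫ l) (tmap (ClSub.idealMod D) (image.ι W₀) ≫ mult D L₀) ?_ ?_
  · intro U s
    have key : ∀ V s', LocIm (tmap (ClSub.idealMod D) (image.ι W₀) ≫ mult D L₀) V (appS (W₁ ≫ l) V s') := by
      refine tensor_ind _ ?_ ?_ ?_ ?_
      · intro V s h
        refine LocIm.of_local fun x hx => ?_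
        obtain ⟨V', hV', hx', h'⟩ := h x hx
        exact ⟨V', hV', hx', by rw [← appS_res]; exact h'⟩
      · intro V; rw [map_zero]; exact LocIm.zero
      · intro V s t hs ht; rw [map_add]; exact hs.add ht
      · intro V z x
        have key2 : ∀ V (z : Sec (CohB1.tensorMod (ClSub.idealMod D) E₀) V), ∀ x : Sec E₁ V,
            LocIm (tmap (ClSub.idealMod D) (image.ι W₀) ≫ mult D L₀) V
              (appS (W₁ ≫ l) V (tau _ _ V (z ⊗ₜ[Γ(X, V)] x))) := by
          refine tensor_ind _ ?_ ?_ ?_ ?_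
          · intro V s h x
            refine LocIm.of_local fun y hy => ?_
            obtain ⟨V', hV', hx', h'⟩ := h y hy
            refine ⟨V', hV', hx', ?_⟩
            rw [← appS_res, ← tau_tres, tres_tmul]
            exact h' _
          · intro V x; rw [TensorProduct.zero_tmul, map_zero, map_zero]; exact LocIm.zero
          · intro V s t hs ht x; rw [TensorProduct.add_tmul, map_add, map_add]; exact (hs x).add (ht x)
          · intro V c y x
            rw [key_eq φ₀ φ₁ hm₀ hW₀ hW₁ hl]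
            apply LocIm.neg
            refine LocIm.of_eq (tau _ _ V.1 (c ⊗ₜ[Γ(X, V.1)]
              appS (factorThruImage W₀) V.1 (tau _ _ V.1 (x ⊗ₜ[Γ(X, V.1)] y)))) ?_
            rw [hb, ← appS_comp, image.fac]
        exact key2 V.1 z x
    refine LocIm.of_local fun x hx => ?_
    obtain ⟨V, hV, hxV, s', hs'⟩ := locally_surjective_of_epi (factorThruImage W₁) s x hx
    refine ⟨V, hV, hxV, ?_⟩
    rw [← appS_res, ← hs', ← appS_comp, ← Category.assoc, image.fac]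
    exact key V s'
  · refine tensor_ind _ ?_ ?_ ?_ ?_
    · intro V s h
      refine LocIm.of_local fun x hx => ?_
      obtain ⟨V', hV', hx', h'⟩ := h x hx
      exact ⟨V', hV', hx', by rw [← appS_res]; exact h'⟩
    · intro V; rw [map_zero]; exact LocIm.zero
    · intro V s t hs ht; rw [map_add]; exact hs.add ht
    · intro V c g
      rw [hb]
      have key : ∀ V (s' : Sec (CohB1.tensorMod E₁ E₀) V), ∀ c : Sec (ClSub.idealMod D) V,
          LocIm (image.ι W₁ ≫ l) V (iO D V c • appS W₀ V s') := by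
        refine tensor_ind _ ?_ ?_ ?_ ?_
        · intro V s h c
          refine LocIm.of_local fun x hx => ?_
          obtain ⟨V', hV', hx', h'⟩ := h x hx
          refine ⟨V', hV', hx', ?_⟩
          rw [res_smul, ← appS_res, resO_iO]
          exact h' _
        · intro V c; rw [map_zero, smul_zero]; exact LocIm.zero
        · intro V s t hs ht c; rw [map_add, smul_add]; exact (hs c).add (ht c)
        · intro V x y c
          have h := key_eq φ₀ φ₁ hm₀ hW₀ hW₁ hl V c y x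
          rw [← neg_eq_iff_eq_neg] at h
          rw [← h]
          apply LocIm.neg
          refine LocIm.of_eq (appS (factorThruImage W₁) V.1
            (tau _ _ V.1 (tau _ _ V.1 (c ⊗ₜ[Γ(X, V.1)] y) ⊗ₜ[Γ(X, V.1)] x))) ?_
          rw [← appS_comp, ← Category.assoc, image.fac]
      refine LocIm.of_local fun x hx => ?_
      obtain ⟨V', hV', hxV', s', hs'⟩ := locally_surjective_of_epi (factorThruImage W₀) g x hx
      refine ⟨V', hV', hxV', ?_⟩
      rw [res_smul, ← appS_res, ← hs', ← appS_comp, image.fac, resO_iO]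
      exact key V' s' _

end Mult

end K535.Lam2Sh
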