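import Groth.Agent.Books.Lambda1
import Groth.Prelude.Def_KRR
import Mathlib.RingTheory.Nilpotent.Lemmas
import Mathlib.RingTheory.Polynomial.UniqueFactorization
import Mathlib.RingTheory.TensorProduct.Maps

/-!
# Elements of augmentation zero are nilpotent, without the splitting principle

* `coeff_sub_mem_prime` : if `a b = (1 + X) ^ m`, `deg a ≤ r`, `deg b ≤ s`, `r + s = m`, `a(0) = 1` over a domain,
  then `a = (1 + X) ^ r`.
* `isNilpotent_sub_of_add_eq_natCast` : if `a + b` is a natural number, `a, b` positive, then `a - ε(a)` is nilpotent.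
* `isNilpotent_of_aug_eq_zero` : if `K` has an ample line element, then `Ker ε` is nil.
-/

set_option autoImplicit false
universe u

open Polynomial LambdaRing

namespace K535.NilAug

/-- A factor of `(1 + X) ^ m` over a domain. -/
theorem eq_pow_of_mul_eq {F : Type*} [CommRing F] [IsDomain F] {a b : F[X]} {r s m : ℕ} (hm : r + s = m)
    (h : a * b = (1 + X) ^ m) (ha : a.natDegree ≤ r) (hb : b.natDegree ≤ s) (h0 : a.coeff 0 = 1) :
    a = (1 + X) ^ r := by
  have hp : Prime (1 + X : F[X]) := by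
    have := Polynomial.prime_X_sub_C (-1 : F)
    rwa [map_neg, map_one, sub_neg_eq_add, add_comm] at this
  obtain ⟨i, hi, c, hc⟩ := (dvd_prime_pow hp m).1 ⟨b, h.symm⟩
  have hd : (1 + X : F[X]).natDegree = 1 := by
    have : (1 + X : F[X]) = X + C 1 := by rw [map_one, add_comm]
    rw [this, natDegree_X_add_C]
  have hne : ∀ k, (1 + X : F[X]) ^ k ≠ 0 := fun k => pow_ne_zero _ hp.ne_zero
  have ha0 : a ≠ 0 := by
    rintro rfl
    simp at h0
  have hb0 : b ≠ 0 := by
    rintro rfl
    rw [mul_zero] at h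
    exact hne m h.symm
  obtain ⟨d, hd'⟩ := Polynomial.isUnit_iff.1 c.isUnit
  have hdeg : a.natDegree = i := by
    have h1 : (a * (c : F[X])).natDegree = a.natDegree := by
      rw [← hd'.2, natDegree_mul_C (by
        intro h2
        rw [h2] at hd'
        exact not_isUnit_zero hd'.1)]
    rw [← h1, hc, natDegree_pow, hd, mul_one]
  have hsum : a.natDegree + b.natDegree = m := by
    rw [← natDegree_mul ha0 hb0, h, natDegree_pow, hd, mul_one]
  have hir : i = r := by omega
  subst hir
  have h2 : (a * (c : F[X])).coeff 0 = ((1 + X : F[X]) ^ i).coeff 0 := by rw [hc]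
  rw [← hd'.2, coeff_mul_C, h0, one_mul] at h2
  have h3 : ((1 + X : F[X]) ^ i).coeff 0 = 1 := by
    rw [coeff_zero_eq_eval_zero]
    simp
  rw [h3] at h2
  rw [← hc, ← hd'.2, h2, map_one, mul_one]

variable {K : Type*} [CommRing K] [LambdaOps K]

/-- `λ_t(x)` as a polynomial of degree at most `r`. -/
noncomputable def lamPoly (x : K) (r : ℕ) : K[X] :=
  ∑ i ∈ Finset.range (r + 1), C (LambdaOps.lam i x) * X ^ i

theorem coeff_lamPoly (x : K) (r i : ℕ) : (lamPoly x r).coeff i = if i ≤ r then LambdaOps.lam i x else 0 := by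
  unfold lamPoly
  rw [finsetSum_coeff]
  simp only [coeff_C_mul, coeff_X_pow, mul_ite, mul_one, mul_zero]
  rw [Finset.sum_ite_eq]
  simp

theorem natDegree_lamPoly_le (x : K) (r : ℕ) : (lamPoly x r).natDegree ≤ r := by
  rw [natDegree_le_iff_coeff_eq_zero]
  intro N hN
  rw [coeff_lamPoly, if_neg (by omega)]

theorem coe_lamPoly {x : K} {r : ℕ} (h : ∀ i, r < i → LambdaOps.lam i x = 0) :
    ((lamPoly x r : K[X]) : PowerSeries K) = lamSeries x := by
  ext i
  rw [coeff_coe, coeff_lamPoly, Groth.Agent.Books.Lambda1.coeff_lamSeries]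
  split_ifs with hi
  · rfl
  · exact (h i (by omega)).symm

theorem lamSeries_one (P : PosStructure K) : lamSeries (1 : K) = 1 + PowerSeries.X := by
  have h1 : P.IsLine (1 : K) := by
    refine ⟨?_, map_one _⟩
    have := P.natCast_mem 1 one_pos
    rwa [Nat.cast_one] at this
  rw [Groth.Agent.Books.Lambda1.lamSeries_line P 1 h1, map_one, one_mul]

theorem lamSeries_natCast (P : PosStructure K) (m : ℕ) : lamSeries (m : K) = (1 + PowerSeries.X) ^ m := by
  induction m with
  | zero => rw [Nat.cast_zero, Groth.Agent.Books.Lambda1.lamSeries_zero, pow_zero]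
  | succ m ih => rw [Nat.cast_succ, Groth.Agent.Books.Lambda1.lamSeries_add, ih, lamSeries_one P, pow_succ]

/-- If `a + b = m`, `λ^i a = 0` for `i > r`, `λ^i b = 0` for `i > s`, `r + s = m`, then `λ^i a - C(r, i)` is
nilpotent. -/
theorem isNilpotent_lam_sub (P : PosStructure K) {a b : K} {r s m : ℕ} (hm : r + s = m) (hab : a + b = (m : K))
    (ha : ∀ i, r < i → LambdaOps.lam i a = 0) (hb : ∀ i, s < i → LambdaOps.lam i b = 0) (i : ℕ) :
    IsNilpotent (LambdaOps.lam i a - (r.choose i : K)) := by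
  have h1 : lamPoly a r * lamPoly b s = (1 + X) ^ m := by
    apply Polynomial.coe_injective K
    rw [Polynomial.coe_mul, coe_lamPoly ha, coe_lamPoly hb, ← Groth.Agent.Books.Lambda1.lamSeries_add, hab,
      lamSeries_natCast P, Polynomial.coe_pow, Polynomial.coe_add, Polynomial.coe_one, Polynomial.coe_X]
  rw [← mem_nilradical, nilradical_eq_sInf, Ideal.mem_sInf]
  intro p hp
  have hp' : p.IsPrime := hp
  let q := Ideal.Quotient.mk p
  have h2 : (lamPoly a r).map q * (lamPoly b s).map q = (1 + X) ^ m := by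
    rw [← Polynomial.map_mul, h1, Polynomial.map_pow, Polynomial.map_add, Polynomial.map_one, Polynomial.map_X]
  have h3 : (lamPoly a r).map q = (1 + X) ^ r := by
    refine eq_pow_of_mul_eq hm h2 ((natDegree_map_le).trans (natDegree_lamPoly_le a r))
      ((natDegree_map_le).trans (natDegree_lamPoly_le b s)) ?_
    rw [coeff_map, coeff_lamPoly, if_pos (Nat.zero_le _), LambdaOps.lam_zero, map_one]
  have h4 := congrArg (fun f : (K ⧸ p)[X] => f.coeff i) h3
  simp only [coeff_map, coeff_lamPoly, coeff_one_add_X_pow] at h4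
  rw [← Ideal.Quotient.eq_zero_iff_mem, map_sub, map_natCast, sub_eq_zero]
  rcases le_or_gt i r with hi | hi
  · rw [if_pos hi] at h4
    exact h4
  · rw [ha i hi, Nat.choose_eq_zero_of_lt hi, map_zero, Nat.cast_zero]

theorem isNilpotent_sub_of_add_eq_natCast (P : PosStructure K) {a b : K} (ha : a ∈ P.pos) (hb : b ∈ P.pos)
    {m : ℕ} (hab : a + b = (m : K)) : IsNilpotent (a - (P.aug a : K)) := by
  have ha' := P.aug_pos a ha
  have hb' := P.aug_pos b hb
  obtain ⟨r, hr⟩ := Int.eq_ofNat_of_zero_le ha'.le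
  obtain ⟨s, hs⟩ := Int.eq_ofNat_of_zero_le hb'.le
  have hm : r + s = m := by
    have h1 := congrArg P.aug hab
    rw [map_add, map_natCast, hr, hs] at h1
    exact_mod_cast h1
  have h2 := isNilpotent_lam_sub P hm hab (fun i hi => P.lam_eq_zero a ha i (by rw [hr]; exact_mod_cast hi))
    (fun i hi => P.lam_eq_zero b hb i (by rw [hs]; exact_mod_cast hi)) 1
  rw [LambdaOps.lam_one, Nat.choose_one_right] at h2
  rw [hr, Int.cast_natCast]
  exact h2

theorem isUnit_of_isLine {P : PosStructure K} {v : K} (hv : P.IsLine v) : IsUnit v := by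
  have h := P.isUnit_lam v hv.1
  rw [hv.2] at h
  rwa [show Int.toNat 1 = 1 from rfl, LambdaOps.lam_one] at h

theorem isNilpotent_pow_mul_sub {P : PosStructure K} {v : K} (hv : KRR.IsAmpleElt P v) {e : K} (he : e ∈ P.pos) :
    ∃ n₀ : ℕ, ∀ n : ℕ, n₀ ≤ n → IsNilpotent (v ^ n * e - (P.aug e : K)) := by
  obtain ⟨n₀, hn₀⟩ := hv.2 (-e)
  refine ⟨n₀, fun n hn => ?_⟩
  obtain ⟨b, m, hb, hm⟩ := hn₀ n hn
  have hpow : v ^ n ∈ P.pos := by
    clear hm hn
    induction n with
    | zero =>
      have := P.natCast_mem 1 one_pos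
      rwa [pow_zero, ← Nat.cast_one]
    | succ n ih => rw [pow_succ]; exact P.mul_mem _ _ ih hv.1.1
  have h1 : v ^ n * e + b = (m : K) := by linear_combination -hm
  have h2 := isNilpotent_sub_of_add_eq_natCast P (P.mul_mem _ _ hpow he) hb h1
  rwa [map_mul, map_pow, hv.1.2, one_pow, one_mul] at h2

/-- A positive element minus its augmentation is nilpotent. -/
theorem isNilpotent_sub_aug {P : PosStructure K} {v : K} (hv : KRR.IsAmpleElt P v) {e : K} (he : e ∈ P.pos) :
    IsNilpotent (e - (P.aug e : K)) := by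
  have hone : (1 : K) ∈ P.pos := by
    have := P.natCast_mem 1 one_pos
    rwa [Nat.cast_one] at this
  obtain ⟨n₀, h₀⟩ := isNilpotent_pow_mul_sub hv he
  obtain ⟨n₁, h₁⟩ := isNilpotent_pow_mul_sub hv hone
  have h2 := h₀ (max n₀ n₁) (le_max_left _ _)
  have h3 := h₁ (max n₀ n₁) (le_max_right _ _)
  rw [map_one, Int.cast_one, mul_one] at h3
  set w := v ^ max n₀ n₁ with hw
  have hu : IsUnit w := (isUnit_of_isLine hv.1).pow _
  have h4 : IsNilpotent (w * (e - (P.aug e : K))) := by
    have h5 : w * (e - (P.aug e : K)) = (w * e - (P.aug e : K)) - (P.aug e : K) * (w - 1) := by ring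
    rw [h5, ← mem_nilradical]
    exact sub_mem (mem_nilradical.2 h2) (Ideal.mul_mem_left _ _ (mem_nilradical.2 h3))
  obtain ⟨c, hc⟩ := hu
  have h6 : e - (P.aug e : K) = ((c⁻¹ : Kˣ) : K) * (w * (e - (P.aug e : K))) := by
    rw [← mul_assoc, ← hc, Units.inv_mul, one_mul]
  rw [h6, ← mem_nilradical]
  exact Ideal.mul_mem_left _ _ (mem_nilradical.2 h4)

/-- **Elements of augmentation zero are nilpotent** if there is an ample line element. -/
theorem isNilpotent_of_aug_eq_zero {P : PosStructure K} {v : K} (hv : KRR.IsAmpleElt P v) {x : K}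
    (hx : P.aug x = 0) : IsNilpotent x := by
  obtain ⟨e, f, he, hf, rfl⟩ := P.exists_sub x
  have h1 : e - f = (e - (P.aug e : K)) - (f - (P.aug f : K)) := by
    rw [map_sub, sub_eq_zero] at hx
    rw [hx]
    ring
  rw [h1, ← mem_nilradical]
  exact sub_mem (mem_nilradical.2 (isNilpotent_sub_aug hv he)) (mem_nilradical.2 (isNilpotent_sub_aug hv hf))

end K535.NilAug
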