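import Groth.Agent.KRR.K535.NilAug
import Mathlib.LinearAlgebra.TensorProduct.RightExactness
import Mathlib.RingTheory.IntegralClosure.IsIntegralClosure.Basic
import Mathlib.RingTheory.Adjoin.FG

/-!
# Units of `A ⊗ K` and finitely generated subrings of `K`, when `Ker ε` is nil
-/

set_option autoImplicit false
universe u v

open LambdaRing
open scoped TensorProduct

namespace K535.NilTens

variable {K : Type v} [CommRing K]

/-- If `Ker ε` is nil, then `y ∈ A ⊗ K` is invertible iff `(id ⊗ ε)(y)` is. -/
theorem isUnit_iff (e : K →+* ℤ) (h : ∀ x, e x = 0 → IsNilpotent x) (A : Type u) [CommRing A] (y : A ⊗[ℤ] K) :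
    IsUnit y ↔ IsUnit (Algebra.TensorProduct.map (AlgHom.id ℤ A) e.toIntAlgHom y) := by
  constructor
  · intro hy
    exact hy.map (Algebra.TensorProduct.map (AlgHom.id ℤ A) e.toIntAlgHom)
  · intro hy
    have hsurj : Function.Surjective e.toIntAlgHom := fun m => ⟨(m : K), by simp⟩
    have hker := Algebra.TensorProduct.lTensor_ker (A := A) e.toIntAlgHom hsurj
    have hnil : ∀ z, Algebra.TensorProduct.map (AlgHom.id ℤ A) e.toIntAlgHom z = 0 → IsNilpotent z := by
      intro z hz
      have h1 : z ∈ RingHom.ker (Algebra.TensorProduct.map (AlgHom.id ℤ A) e.toIntAlgHom) := hz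
      rw [hker] at h1
      rw [← mem_nilradical]
      refine (Ideal.map_le_iff_le_comap.2 ?_) h1
      intro x hx
      exact mem_nilradical.2 ((h x hx).map _)
    obtain ⟨u, hu⟩ := hy.exists_right_inv
    have hsurj2 : Function.Surjective (Algebra.TensorProduct.map (AlgHom.id ℤ A) e.toIntAlgHom) :=
      TensorProduct.map_surjective Function.surjective_id hsurj
    obtain ⟨w, rfl⟩ := hsurj2 u
    rw [← map_mul] at hu
    have h2 : IsNilpotent (y * w - 1) := hnil _ (by rw [map_sub, hu, map_one, sub_self])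
    have h3 : IsUnit (y * w) := by
      have := h2.isUnit_one_add
      rwa [add_sub_cancel] at this
    exact isUnit_of_mul_isUnit_left h3

theorem sub_mem_of_mem_closure (e : K →+* ℤ) (s : Set K) (J : Ideal K)
    (hJ : ∀ c ∈ s, c - (e c : K) ∈ J) {y : K} (hy : y ∈ Subring.closure s) : y - (e y : K) ∈ J := by
  induction hy using Subring.closure_induction with
  | mem x hx => exact hJ x hx
  | zero => simp
  | one => simp
  | add x y _ _ hx hy =>
    have : x + y - ((e (x + y) : ℤ) : K) = (x - (e x : K)) + (y - (e y : K)) := by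
      rw [map_add]; push_cast; ring
    rw [this]
    exact add_mem hx hy
  | neg x _ hx =>
    have : -x - ((e (-x) : ℤ) : K) = -(x - (e x : K)) := by
      rw [map_neg]; push_cast; ring
    rw [this]
    exact neg_mem hx
  | mul x y _ _ hx hy =>
    have : x * y - ((e (x * y) : ℤ) : K) = y * (x - (e x : K)) + (e x : K) * (y - (e y : K)) := by
      rw [map_mul]; push_cast; ring
    rw [this]
    exact add_mem (Ideal.mul_mem_left _ _ hx) (Ideal.mul_mem_left _ _ hy)

/-- The augmentation ideal of a finitely generated subring is nilpotent. -/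
theorem exists_prod_eq_zero (e : K →+* ℤ) (h : ∀ x, e x = 0 → IsNilpotent x) {s : Set K} (hs : s.Finite) :
    ∃ n : ℕ, ∀ f : Fin n → K, (∀ t, f t ∈ Subring.closure s ∧ e (f t) = 0) → ∏ t, f t = 0 := by
  let J : Ideal K := Ideal.span ((fun c => c - (e c : K)) '' s)
  have hfg : J.FG := by
    refine ⟨(hs.image fun c => c - (e c : K)).toFinset, ?_⟩
    rw [Set.Finite.coe_toFinset]
  have hJ : J ≤ nilradical K := by
    rw [Ideal.span_le]
    rintro _ ⟨c, -, rfl⟩
    exact mem_nilradical.2 (h _ (by simp))
  obtain ⟨n, hn⟩ := (Ideal.FG.isNilpotent_iff_le_nilradical hfg).2 hJ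
  refine ⟨n, fun f hf => ?_⟩
  have h1 : ∀ t, f t ∈ J := by
    intro t
    have := sub_mem_of_mem_closure e s J (fun c hc => Ideal.subset_span ⟨c, hc, rfl⟩) (hf t).1
    rwa [(hf t).2, Int.cast_zero, sub_zero] at this
  have h2 : ∏ t, f t ∈ ∏ _t : Fin n, J := Ideal.prod_mem_prod fun t _ => h1 t
  rw [Finset.prod_const, Finset.card_univ, Fintype.card_fin, hn] at h2
  exact h2

/-- A finitely generated subring is a finitely generated abelian group. -/
theorem fg_closure (e : K →+* ℤ) (h : ∀ x, e x = 0 → IsNilpotent x) {s : Set K} (hs : s.Finite) :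
    (Subring.closure s).toAddSubgroup.FG := by
  have hint : ∀ x ∈ s, IsIntegral ℤ x := by
    intro x _
    have h1 : IsNilpotent (x - (e x : K)) := h _ (by simp)
    obtain ⟨n, hn⟩ := h1
    have h2 : IsIntegral ℤ (x - (e x : K)) := by
      refine ⟨Polynomial.X ^ n, Polynomial.monic_X_pow n, ?_⟩
      rw [Polynomial.eval₂_X_pow, hn]
    have h3 : x = (x - (e x : K)) + algebraMap ℤ K (e x) := by simp
    rw [h3]
    exact h2.add isIntegral_algebraMap
  have h1 := fg_adjoin_of_finite hs hint
  rw [Submodule.fg_iff_addSubgroup_fg] at h1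
  have h2 : (Subalgebra.toSubmodule (Algebra.adjoin ℤ s)).toAddSubgroup = (Subring.closure s).toAddSubgroup := by
    rw [Algebra.adjoin_int]
    rfl
  rwa [h2] at h1

end K535.NilTens
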