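import Groth.Agent.Krr.H454.CohVan
import Groth.Agent.CohqA.DirectSum
import Groth.Agent.CohqB.QC7
import Groth.Agent.Ega2.GlobGenCrit
import Groth.Agent.Krr.H471.ChartUnit
import Groth.Agent.CohqB.TwistMono
import Groth.Agent.CurvesB.HZero
import Groth.Agent.Sga67.SerreVB

/-!
# Cohomology of the twists of `g^* M` on `P^r_A`, `M` quasi-coherent on `Spec A`

`g : P^r_A ⟶ Spec A`, `A` any commutative ring.

* `exists_epi_sigma` : a quasi-coherent module on an affine scheme is a quotient of a free module.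
* `hh_pullback_pos` : `H^q(P^r_A, O(j) ⊗ g^* M) = 0` for `q ≥ 1`, `j ≥ -r`.
* `hh_pullback_neg` : `H^q(P^r_A, O(j) ⊗ g^* M) = 0` for all `q`, `-r ≤ j ≤ -1`.
* `unit_surjective` : `Γ(M) ⟶ Γ(g^* M)` is surjective.
-/

set_option autoImplicit false
universe u

open CategoryTheory CategoryTheory.Limits AlgebraicGeometry Opposite TopologicalSpace

namespace K535.QcVan

open Groth.Agent Groth.Agent.Sga67.CMReg Groth.Agent.Sga67.TwistProj Groth.Agent.Fga.HShift
  Groth.Agent.Ega2

/-- A quasi-coherent module on an affine scheme is a quotient of a free module. -/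
theorem exists_epi_sigma {X : Scheme.{u}} [IsAffine X] {M : X.Modules} (hM : Coh.IsQCoh M) :
    ∃ (ι : Type u) (p : (∐ fun _ : ι => Coh.structureModule X) ⟶ M), Epi p := by
  refine ⟨Γ(M, ⊤), GlobGenCrit.desc (fun k => Fdesc.LocGen.homOf k), ?_⟩
  refine GlobGenCrit.epi_desc_of_span hM (fun _ : Unit => (⊤ : X.Opens)) (fun _ => isAffineOpen_top X)
    (by simp) _ fun _ => ?_
  rw [eq_top_iff]
  intro x _
  refine Submodule.subset_span ⟨x, ?_⟩
  refine (Fdesc.LocGen.sec_homOf x _).trans ?_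
  exact Fdesc.LocGen.res_refl _ _

variable {r : ℕ} {A : Type u} [CommRing A]

theorem hh_sigma {S : Scheme.{u}} (g : CohB1.ProjSpace r A ⟶ S) (ι : Type u) (j : ℤ) (q : ℕ)
    (h : Subsingleton (Coh.HH (CohB1.ProjSpace r A) (Twist.twistProjSpace r A j) q)) :
    Subsingleton (Coh.HH (CohB1.ProjSpace r A)
      ((tA r A j).obj ((Scheme.Modules.pullback g).obj (∐ fun _ : ι => Coh.structureModule S))) q) := by
  have := Sga67.SerreVB.compactSpace r A
  have := Sga67.SerreVB.quasiSeparatedSpace r A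
  obtain ⟨e0⟩ := Ega3B.PullTensor.nonempty_pullUnitIso g
  have hc : PreservesColimitsOfSize.{u, u} (tA r A j) := inferInstance
  let e : (tA r A j).obj ((Scheme.Modules.pullback g).obj (∐ fun _ : ι => Coh.structureModule S)) ≅
      ∐ fun _ : ι => Twist.twistProjSpace r A j :=
    (tA r A j).mapIso (PreservesCoproduct.iso (Scheme.Modules.pullback g) (fun _ : ι => Coh.structureModule S)
        ≪≫ Sigma.mapIso (fun _ : ι => e0)) ≪≫
      PreservesCoproduct.iso (tA r A j) (fun _ : ι => Coh.structureModule (CohB1.ProjSpace r A)) ≪≫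
      Sigma.mapIso (fun _ : ι => Ega2.Tens.runit (Twist.twistProjSpace r A j))
  exact subsingleton_of_iso e.symm q (CohqA.DirectSum.subsingleton_coproduct _ q fun _ => h)

/-- the short exact sequence of an epimorphism -/
theorem shortExact_kernel {X : Scheme.{u}} {M N : X.Modules} (p : M ⟶ N) [Epi p] :
    (ShortComplex.mk (kernel.ι p) p (kernel.condition p)).ShortExact :=
  { exact := ShortComplex.exact_of_f_is_kernel _ (kernelIsKernel _)
    mono_f := inferInstanceAs (Mono (kernel.ι p))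
    epi_g := inferInstanceAs (Epi p) }

theorem isQCoh_sigma {X : Scheme.{u}} (ι : Type u) : Coh.IsQCoh (∐ fun _ : ι => Coh.structureModule X) :=
  CohqB.QC7.isQCoh_coproduct _ fun _ => QCohLocal.isQCoh_structureModule X

theorem shortExact_pull {T : ShortComplex (Spec (CommRingCat.of A)).Modules} (hT : T.ShortExact) (j : ℤ) :
    ((T.map (Scheme.Modules.pullback (CohB1.ProjSpace.toSpec r A))).map (tA r A j)).ShortExact := by
  have hfl : PreservesFiniteLimits (Scheme.Modules.pullback (CohB1.ProjSpace.toSpec r A)) :=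
    Sga67.FlatPre.preservesFiniteLimits_pullback _
  exact (hT.map_of_exact _).map_of_exact _

theorem hh_pullback_aux (j : ℤ) (hj : -(r : ℤ) ≤ j) (k : ℕ) :
    ∀ (q : ℕ) (_ : 1 ≤ q) (_ : r < q + k) (M : (Spec (CommRingCat.of A)).Modules) (_ : Coh.IsQCoh M),
    Subsingleton (Coh.HH (CohB1.ProjSpace r A)
      ((tA r A j).obj ((Scheme.Modules.pullback (CohB1.ProjSpace.toSpec r A)).obj M)) q) := by
  induction k with
  | zero =>
    intro q hq hr M hM
    have hq' : Coh.IsQCoh ((Scheme.Modules.pullback (CohB1.ProjSpace.toSpec r A)).obj M) :=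
      FormalA.PullbackQC.isQCoh_pullback _ _ hM
    exact (hh_iff _ j q).1 (subsingleton_of_gt hq' j q (by omega))
  | succ k ih =>
    intro q hq hr M hM
    obtain ⟨ι, p, hp⟩ := exists_epi_sigma hM
    have hK : Coh.IsQCoh (kernel p) := PerfA.QCohSerre.isQCoh_kernel _ (isQCoh_sigma ι) hM
    refine subsingleton₃ (shortExact_pull (r := r) (shortExact_kernel p) j) q ?_ ?_
    · exact hh_sigma _ ι j q (S0844.result A r j q (by omega) (by omega))
    · exact ih (q + 1) (by omega) (by omega) _ hK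

/-- `H^q(P^r_A, O(j) ⊗ g^* M) = 0` for `q ≥ 1`, `j ≥ -r`. -/
theorem hh_pullback_pos {M : (Spec (CommRingCat.of A)).Modules} (hM : Coh.IsQCoh M)
    (j : ℤ) (hj : -(r : ℤ) ≤ j) (q : ℕ) (hq : 1 ≤ q) :
    Subsingleton (Coh.HH (CohB1.ProjSpace r A)
      ((tA r A j).obj ((Scheme.Modules.pullback (CohB1.ProjSpace.toSpec r A)).obj M)) q) :=
  hh_pullback_aux j hj r q hq (by omega) M hM

/-- `H^q(P^r_A, O(j) ⊗ g^* M) = 0` for all `q`, `-r ≤ j ≤ -1`. -/
theorem hh_pullback_neg {M : (Spec (CommRingCat.of A)).Modules} (hM : Coh.IsQCoh M)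
    (j : ℤ) (hj : -(r : ℤ) ≤ j) (hj' : j ≤ -1) (q : ℕ) :
    Subsingleton (Coh.HH (CohB1.ProjSpace r A)
      ((tA r A j).obj ((Scheme.Modules.pullback (CohB1.ProjSpace.toSpec r A)).obj M)) q) := by
  rcases Nat.eq_zero_or_pos q with rfl | hq
  · obtain ⟨ι, p, hp⟩ := exists_epi_sigma hM
    have hK : Coh.IsQCoh (kernel p) := PerfA.QCohSerre.isQCoh_kernel _ (isQCoh_sigma ι) hM
    refine subsingleton₃ (shortExact_pull (r := r) (shortExact_kernel p) j) 0 ?_ ?_
    · exact hh_sigma _ ι j 0 (S0844.result A r j 0 (by omega) (by omega))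
    · exact hh_pullback_pos hK j hj 1 le_rfl
  · exact hh_pullback_pos hM j hj q hq

/-- Sections of a coproduct are finite sums of sections of the summands. -/
theorem exists_sum_sections {X : Scheme.{u}} [CompactSpace X] [QuasiSeparatedSpace X] {ι : Type u}
    (F : ι → X.Modules) (s : Γ(∐ F, ⊤)) :
    ∃ (t : Finset ι) (y : ∀ i, Γ(F i, ⊤)), s = ∑ i ∈ t, (Sigma.ι F i).app ⊤ (y i) := by
  obtain ⟨t, y, hy⟩ := CohqA.DirectSum.exists_finset_sum F 0 ((CurvesB.HZero.equivAdd _).symm s)
  refine ⟨t, fun i => CurvesB.HZero.equivAdd _ (y i), ?_⟩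
  have h := congrArg (CurvesB.HZero.equivAdd (∐ F)) hy
  rw [AddEquiv.apply_symm_apply, map_sum] at h
  rw [h]
  exact Finset.sum_congr rfl fun i _ => CurvesB.HZero.equivAdd_map _ _

/-- `Γ(O) = Γ(P^r_A, g^* O)`. -/
theorem unit_surjective_one : Function.Surjective (((Scheme.Modules.pullbackPushforwardAdjunction
    (CohB1.ProjSpace.toSpec r A)).unit.app (Coh.structureModule (Spec (CommRingCat.of A)))).app ⊤) := by
  have hb : VarietyB.TensCoh.HasBases (Coh.structureModule (Spec (CommRingCat.of A))) :=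
    VarietyB.TensCoh.HasBases.of_isFinLocFreeOfRank
      (QCohLocal.isFinLocFreeOfRank_one_iff.mpr (Fdesc.LocGen.isInvertible_structureModule))
  have h1 := Sga67.PushTwist.isIso_unit (CohB1.ProjSpace.toSpec r A)
    (Krr.H471.ChartUnit.toSpec_app_bijective r A) hb
  have h2 : IsIso (((Scheme.Modules.pullbackPushforwardAdjunction
    (CohB1.ProjSpace.toSpec r A)).unit.app (Coh.structureModule (Spec (CommRingCat.of A)))).app ⊤) :=
    inferInstance
  exact ((ConcreteCategory.isIso_iff_bijective _).1 h2).2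

theorem unit_naturality {X Y : Scheme.{u}} (g : X ⟶ Y) {M N : Y.Modules} (φ : M ⟶ N) (a : Γ(M, ⊤)) :
    ((Scheme.Modules.pullback g).map φ).app ⊤
      ((show Γ((Scheme.Modules.pullback g).obj M, ⊤) from
        ((Scheme.Modules.pullbackPushforwardAdjunction g).unit.app M).app ⊤ a)) =
      (show Γ((Scheme.Modules.pullback g).obj N, ⊤) from
        ((Scheme.Modules.pullbackPushforwardAdjunction g).unit.app N).app ⊤ (φ.app ⊤ a)) := by
  have h := (Scheme.Modules.pullbackPushforwardAdjunction g).unit.naturality φ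
  have h2 := congrArg (fun ψ : M ⟶ (Scheme.Modules.pushforward g).obj ((Scheme.Modules.pullback g).obj N) =>
    ψ.app ⊤ a) h
  exact h2.symm

theorem unit_surjective_sigma (ι : Type u) : Function.Surjective (((Scheme.Modules.pullbackPushforwardAdjunction
    (CohB1.ProjSpace.toSpec r A)).unit.app
      (∐ fun _ : ι => Coh.structureModule (Spec (CommRingCat.of A)))).app ⊤) := by
  have := Sga67.SerreVB.compactSpace r A
  have := Sga67.SerreVB.quasiSeparatedSpace r A
  let g := CohB1.ProjSpace.toSpec r A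
  let O := Coh.structureModule (Spec (CommRingCat.of A))
  let F : ι → (CohB1.ProjSpace r A).Modules := fun _ => (Scheme.Modules.pullback g).obj O
  let e : (Scheme.Modules.pullback g).obj (∐ fun _ : ι => O) ≅ ∐ F :=
    PreservesCoproduct.iso (Scheme.Modules.pullback g) (fun _ : ι => O)
  have he : ∀ i, Sigma.ι F i ≫ e.inv = (Scheme.Modules.pullback g).map (Sigma.ι (fun _ : ι => O) i) := by
    intro i
    exact ι_comp_sigmaComparison (Scheme.Modules.pullback g) (fun _ : ι => O) i
  intro s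
  have s' : Γ((Scheme.Modules.pullback g).obj (∐ fun _ : ι => O), ⊤) := s
  obtain ⟨t, y, hy⟩ := exists_sum_sections F (e.hom.app ⊤ (show
    Γ((Scheme.Modules.pullback g).obj (∐ fun _ : ι => O), ⊤) from s))
  choose a ha using fun i => unit_surjective_one (r := r) (A := A) (y i)
  refine ⟨∑ i ∈ t, (Sigma.ι (fun _ : ι => O) i).app ⊤ (a i), ?_⟩
  rw [map_sum]
  have h1 : (show Γ((Scheme.Modules.pullback g).obj (∐ fun _ : ι => O), ⊤) from s) =
      e.inv.app ⊤ (e.hom.app ⊤ (show Γ((Scheme.Modules.pullback g).obj (∐ fun _ : ι => O), ⊤) from s)) := by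
    have h2 := congrArg (fun φ : (Scheme.Modules.pullback g).obj (∐ fun _ : ι => O) ⟶ _ => φ.app ⊤
      (show Γ((Scheme.Modules.pullback g).obj (∐ fun _ : ι => O), ⊤) from s)) e.hom_inv_id
    exact h2.symm
  refine Eq.trans ?_ h1.symm
  rw [hy, map_sum]
  refine Finset.sum_congr rfl fun i _ => ?_
  have h3 := unit_naturality g (Sigma.ι (fun _ : ι => O) i) (a i)
  refine h3.symm.trans ?_
  have h4 : (show Γ((Scheme.Modules.pullback g).obj O, ⊤) from
      ((Scheme.Modules.pullbackPushforwardAdjunction g).unit.app O).app ⊤ (a i)) = y i := ha i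
  rw [h4, ← he i]
  rfl

/-- `Γ(M) ⟶ Γ(P^r_A, g^* M)` is surjective for quasi-coherent `M`. -/
theorem unit_surjective {M : (Spec (CommRingCat.of A)).Modules} (hM : Coh.IsQCoh M) :
    Function.Surjective (((Scheme.Modules.pullbackPushforwardAdjunction
      (CohB1.ProjSpace.toSpec r A)).unit.app M).app ⊤) := by
  obtain ⟨ι, p, hp⟩ := exists_epi_sigma hM
  have hK : Coh.IsQCoh (kernel p) := PerfA.QCohSerre.isQCoh_kernel _ (isQCoh_sigma ι) hM
  have hfl : PreservesFiniteLimits (Scheme.Modules.pullback (CohB1.ProjSpace.toSpec r A)) :=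
    Sga67.FlatPre.preservesFiniteLimits_pullback _
  have hT : ((ShortComplex.mk (kernel.ι p) p (kernel.condition p)).map
      (Scheme.Modules.pullback (CohB1.ProjSpace.toSpec r A))).ShortExact :=
    (shortExact_kernel p).map_of_exact _
  have h1 := CohqB.TwistMono.surjective_of_H1 hT
    ((hh_tA_zero 1).1 (hh_pullback_pos (r := r) hK 0 (by omega) 1 le_rfl))
  intro s
  obtain ⟨s', hs'⟩ := h1 s
  obtain ⟨a, ha⟩ := unit_surjective_sigma (r := r) (A := A) ι s'
  refine ⟨p.app ⊤ a, ?_⟩
  refine (unit_naturality (CohB1.ProjSpace.toSpec r A) p a).symm.trans ?_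
  refine Eq.trans ?_ hs'
  exact congrArg _ ha

end K535.QcVan
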