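import Groth.Agent.Krr.H455.RelCast
import Groth.Agent.Ega3B.RpushAbCmp
import Groth.Prelude.Def_KRR

/-!
# Regularity on `P^n_T` along short exact sequences

* `shortExact_tw`: twisting a short exact sequence.
* `reg₂`, `reg₃`, `reg₁`: regularity of the middle, right and left terms.
-/

set_option autoImplicit false
universe u

open CategoryTheory CategoryTheory.Limits AlgebraicGeometry

namespace K535.RegSES

open Groth.Agent.Krr.H455.RelCast Groth.Agent.Sga67.TwistOver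

variable {n : ℕ} {T : Scheme.{u}}

/-- The twist of a short exact sequence is short exact. -/
theorem shortExact_tw {S : ShortComplex (KRR.PY n T).Modules} (hS : S.ShortExact) (d : ℤ) :
    (S.map (tw n T d)).ShortExact := by
  have := preservesFiniteLimits_tw n T d
  have := preservesFiniteColimits_tw n T d
  exact hS.map_of_exact _

/-- `O(i) ⊗ F` regular means `R^q p_* F(i - q) = 0`. -/
theorem van_tw_tw_iff {F : (KRR.PY n T).Modules} (i j k : ℤ) (h : i + j = k) (q : ℕ) :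
    Van (KRR.pr n T) q ((tw n T i).obj ((tw n T j).obj F)) ↔ Van (KRR.pr n T) q ((tw n T k).obj F) := by
  subst h
  obtain ⟨e⟩ := nonempty_tw_tw n T i j F
  exact ⟨van_of_iso _ q e, van_of_iso _ q e.symm⟩

theorem reg₂ {S : ShortComplex (KRR.PY n T).Modules} (hS : S.ShortExact)
    (h1 : KRR.IsRegSheaf n T S.X₁) (h3 : KRR.IsRegSheaf n T S.X₃) : KRR.IsRegSheaf n T S.X₂ := by
  intro i hi
  exact van₂ (KRR.pr n T) (shortExact_tw hS (-(i : ℤ))) i (h1 i hi) (h3 i hi)

theorem reg₃ {S : ShortComplex (KRR.PY n T).Modules} (hS : S.ShortExact)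
    (h2 : KRR.IsRegSheaf n T S.X₂) (h1 : KRR.IsRegSheaf n T (KRR.twF n T 1 S.X₁)) :
    KRR.IsRegSheaf n T S.X₃ := by
  intro i hi
  refine van₃ (KRR.pr n T) (shortExact_tw hS (-(i : ℤ))) i (h2 i hi) ?_
  have h := h1 (i + 1) (by omega)
  exact (van_tw_tw_iff (-((i + 1 : ℕ) : ℤ)) 1 (-(i : ℤ)) (by push_cast; ring) (i + 1)).1 h

/-- The surjectivity of `p_* F ⟶ p_* F''` gives the vanishing of `R^1 p_* F'` from that of `R^1 p_* F`. -/
theorem van₁_one {X Y : Scheme.{u}} (f : X ⟶ Y) {S : ShortComplex X.Modules} (hS : S.ShortExact)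
    (hepi : Epi ((Scheme.Modules.pushforward f).map S.g)) (h2 : Van f 1 S.X₂) : Van f 1 S.X₁ := by
  have hT' := Groth.Agent.Fga.HShift.map_shortExact hS
  obtain ⟨-, -, δ, hδ⟩ := Groth.Agent.Cohder.RDLES.exists_les (Coh.pushAb f) hT'
  obtain ⟨w₁, w₂, -, he⟩ := hδ 0
  have e0 : Epi ((Groth.Agent.Ega3B.RpushAbCmp.toAbF Y).map ((Scheme.Modules.pushforward f).map S.g)) :=
    inferInstance
  have e1 : Epi ((Coh.pushAb f).map ((Groth.Agent.Fga.HShift.shAb X).map S.g)) := e0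
  have e2 : Epi (((Coh.pushAb f).rightDerived 0).map ((Groth.Agent.Fga.HShift.shAb X).map S.g)) := by
    have hn := (Coh.pushAb f).rightDerivedZeroIsoSelf.hom.naturality
      ((Groth.Agent.Fga.HShift.shAb X).map S.g)
    have h3 : ((Coh.pushAb f).rightDerived 0).map ((Groth.Agent.Fga.HShift.shAb X).map S.g) =
        (Coh.pushAb f).rightDerivedZeroIsoSelf.hom.app _ ≫
          (Coh.pushAb f).map ((Groth.Agent.Fga.HShift.shAb X).map S.g) ≫
          (Coh.pushAb f).rightDerivedZeroIsoSelf.inv.app _ := by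
      rw [← Category.assoc, ← hn, Category.assoc, Iso.hom_inv_id_app, Category.comp_id]
    rw [h3]
    infer_instance
  have hδ0 : δ 0 = 0 := by
    have h4 : ((Coh.pushAb f).rightDerived 0).map ((Groth.Agent.Fga.HShift.shAb X).map S.g) ≫ δ 0 =
      ((Coh.pushAb f).rightDerived 0).map ((Groth.Agent.Fga.HShift.shAb X).map S.g) ≫ 0 := by
        rw [comp_zero]; exact w₁
    exact e2.left_cancellation _ _ h4
  exact he.isZero_of_both_zeros hδ0 (h2.eq_of_tgt _ _)

theorem reg₁ {S : ShortComplex (KRR.PY n T).Modules} (hS : S.ShortExact)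
    (h2 : KRR.IsRegSheaf n T (KRR.twF n T 1 S.X₂)) (h3 : KRR.IsRegSheaf n T S.X₃)
    (hepi : Epi ((Scheme.Modules.pushforward (KRR.pr n T)).map S.g)) :
    KRR.IsRegSheaf n T (KRR.twF n T 1 S.X₁) := by
  intro i hi
  obtain ⟨j, rfl⟩ : ∃ j, i = j + 1 := ⟨i - 1, by omega⟩
  refine (van_tw_tw_iff (-((j + 1 : ℕ) : ℤ)) 1 (-(j : ℤ)) (by push_cast; ring) (j + 1)).2 ?_
  have h2' := (van_tw_tw_iff (-((j + 1 : ℕ) : ℤ)) 1 (-(j : ℤ)) (by push_cast; ring) (j + 1)).1
    (h2 (j + 1) (by omega))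
  rcases Nat.eq_zero_or_pos j with rfl | hj
  · have hz : ∀ F : (KRR.PY n T).Modules, Nonempty ((tw n T (-((0 : ℕ) : ℤ))).obj F ≅ F) := by
      intro F
      simpa using nonempty_tw_zero n T F
    obtain ⟨e1⟩ := hz S.X₁
    obtain ⟨e2⟩ := hz S.X₂
    exact van_of_iso _ _ e1.symm (van₁_one _ hS hepi (van_of_iso _ _ e2 h2'))
  · exact van₁ (KRR.pr n T) (shortExact_tw hS (-(j : ℤ))) j (h3 j hj) h2'

end K535.RegSES
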