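import Groth.Agent.Fga.UnitRestrict

/-!
# Surjectivity of the unit of `(f^*, f_*)` on sections, from charts
-/

set_option autoImplicit false
universe u

open CategoryTheory CategoryTheory.Limits AlgebraicGeometry

namespace K535.UnitChart

open Scheme.Modules

/-- The unit of restriction along an open immersion is bijective on opens in the image. -/
theorem bijective_restrict_unit {X U : Scheme.{u}} (j : U ⟶ X) [IsOpenImmersion j] (M : X.Modules)
    (V : X.Opens) (hV : V ≤ j.opensRange) :
    Function.Bijective (((restrictAdjunction j).unit.app M).app V) := by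
  rw [← ConcreteCategory.isIso_iff_bijective, restrictAdjunction_unit_app_app]
  have h : j ''ᵁ (j ⁻¹ᵁ V) = V := by
    rw [Scheme.Hom.image_preimage_eq_opensRange_inf]
    simpa using hV
  have : IsIso (homOfLE (j.image_preimage_le V)) := ⟨homOfLE h.ge, rfl, rfl⟩
  exact Functor.map_isIso M.presheaf (homOfLE (j.image_preimage_le V)).op

/-- If the unit of `(g^*, g_*)` at `N|_A` is surjective on global sections, `g` the restriction of `f` to the
open `h : A ⟶ S`, then the unit of `(f^*, f_*)` at `N` is surjective on sections over (the image of) `A`. -/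
theorem unit_surjective_of_chart {X S A P : Scheme.{u}} (f : X ⟶ S) (h : A ⟶ S) [IsOpenImmersion h]
    (c : P ⟶ X) [IsOpenImmersion c] (g : P ⟶ A) (hsq : c ≫ f = g ≫ h)
    (hr : c.opensRange = f ⁻¹ᵁ h.opensRange) (N : S.Modules)
    (hN : Function.Surjective (((pullbackPushforwardAdjunction g).unit.app (N.restrict h)).app ⊤)) :
    Function.Surjective (((pullbackPushforwardAdjunction f).unit.app N).app h.opensRange) := by
  let adj₁ : restrictFunctor h ⋙ pullback g ⊣ pushforward g ⋙ pushforward h :=
    (restrictAdjunction h).comp (pullbackPushforwardAdjunction g)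
  let adj₂ : pullback f ⋙ restrictFunctor c ⊣ pushforward c ⋙ pushforward f :=
    (pullbackPushforwardAdjunction f).comp (restrictAdjunction c)
  let e : pushforward g ⋙ pushforward h ≅ pushforward c ⋙ pushforward f :=
    pushforwardComp g h ≪≫ pushforwardCongr hsq.symm ≪≫ (pushforwardComp c f).symm
  have key := unit_conjugateEquiv_symm adj₁ adj₂ e.hom N
  have h1 : Function.Surjective ((adj₁.unit.app N).app h.opensRange) := by
    have e1 : adj₁.unit.app N = (restrictAdjunction h).unit.app N ≫ (pushforward h).map
        ((pullbackPushforwardAdjunction g).unit.app ((restrictFunctor h).obj N)) := by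
      simp [adj₁]
    rw [e1, Hom.comp_app]
    have h2 : ∀ W : A.Opens, W = ⊤ → Function.Surjective
        (((pullbackPushforwardAdjunction g).unit.app (N.restrict h)).app W) := by
      rintro W rfl
      exact hN
    have h3 : Function.Surjective (((pushforward h).map
        ((pullbackPushforwardAdjunction g).unit.app ((restrictFunctor h).obj N))).app h.opensRange) :=
      h2 _ (by simp)
    exact h3.comp (bijective_restrict_unit h N _ le_rfl).2
  have h2 : Function.Surjective ((adj₁.unit.app N ≫ e.hom.app _).app h.opensRange) := by
    rw [Hom.comp_app]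
    have h3 : Function.Surjective ((e.hom.app ((restrictFunctor h ⋙ pullback g).obj N)).app h.opensRange) := by
      have : IsIso ((e.hom.app ((restrictFunctor h ⋙ pullback g).obj N)).app h.opensRange) := inferInstance
      exact ((ConcreteCategory.isIso_iff_bijective _).1 this).2
    exact h3.comp h1
  rw [key, Hom.comp_app] at h2
  have h3 : IsIso ((conjugateEquiv adj₁ adj₂).symm e.hom) := inferInstance
  have h4 : Function.Bijective (((pushforward c ⋙ pushforward f).map
      (((conjugateEquiv adj₁ adj₂).symm e.hom).app N)).app h.opensRange) := by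
    rw [← ConcreteCategory.isIso_iff_bijective]
    infer_instance
  have h5 : Function.Surjective ((adj₂.unit.app N).app h.opensRange) := by
    intro s
    obtain ⟨a, ha⟩ := h2 (((pushforward c ⋙ pushforward f).map
      (((conjugateEquiv adj₁ adj₂).symm e.hom).app N)).app h.opensRange s)
    exact ⟨a, h4.1 ha⟩
  have e2 : adj₂.unit.app N = (pullbackPushforwardAdjunction f).unit.app N ≫ (pushforward f).map
      ((restrictAdjunction c).unit.app ((Scheme.Modules.pullback f).obj N)) := by
    simp [adj₂]
  rw [e2, Hom.comp_app] at h5
  have h6 : Function.Bijective (((pushforward f).map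
      ((restrictAdjunction c).unit.app ((Scheme.Modules.pullback f).obj N))).app h.opensRange) :=
    bijective_restrict_unit c _ (f ⁻¹ᵁ h.opensRange) hr.ge
  intro s
  obtain ⟨a, ha⟩ := h5 (((pushforward f).map
      ((restrictAdjunction c).unit.app ((Scheme.Modules.pullback f).obj N))).app h.opensRange s)
  exact ⟨a, h6.1 ha⟩

end K535.UnitChart
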