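import Groth.Agent.KRR.K535.QcVan
import Groth.Agent.KRR.K535.UnitChart
import Groth.Agent.KRR.K535.RegSES
import Groth.Agent.Krr.H454.RegSheaf
import Groth.Agent.Krr.H498.ResCat

/-!
# The canonical resolution of a regular quasi-coherent module on `P^n_T`

`p : P^n_T ⟶ T`, `T` any scheme.

* `isRegSheaf_pull` : `p^* M` is regular.
* `isRegSheaf_next` : `K(1)` is regular, `K` the kernel of `p^* p_* F ⟶ F`, for `F` regular and quasi-coherent.
* `van_zero_ker` : `p_* K = 0`.
* `exists_resolution` : the resolution.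
-/

set_option autoImplicit false
universe u

open CategoryTheory CategoryTheory.Limits AlgebraicGeometry Opposite TopologicalSpace

namespace K535.RegResQ

open Groth.Agent Groth.Agent.Krr.H455.RelCast Groth.Agent.Sga67.TwistOver Groth.Agent.Krr.H454.RegSheaf
  Groth.Agent.Sga67.ResolGlob745 Groth.Agent.Sga67.TwistProj Groth.Agent.Fga.HShift Groth.Agent.Ega3A

variable {n : ℕ} {T : Scheme.{u}}

theorem isQCoh_pull {M : T.Modules} (hM : Coh.IsQCoh M) :
    Coh.IsQCoh ((Scheme.Modules.pullback (KRR.pr n T)).obj M) :=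
  FormalA.PullbackQC.isQCoh_pullback _ _ hM

/-- The vanishing above the relative dimension. -/
theorem van_of_gt {F : (KRR.PY n T).Modules} (hF : Coh.IsQCoh F) (j : ℤ) (q : ℕ) (hq : n < q) :
    Van (KRR.pr n T) q ((tw n T j).obj F) := by
  refine (isZero_RpushAb_twF_iff hF j q).2 fun V => ?_
  exact (hh_iff _ j q).1 (Sga67.CMReg.subsingleton_of_gt (isQCoh_restrict hF V) j q hq)

theorem van_pull {M : T.Modules} (hM : Coh.IsQCoh M) (j : ℤ) (q : ℕ)
    (h : ∀ V : T.affineOpens, Subsingleton (Coh.HH (CohB1.ProjSpace n Γ(T, V.1))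
      ((tA n Γ(T, V.1) j).obj ((Scheme.Modules.pullback (CohB1.ProjSpace.toSpec n Γ(T, V.1))).obj
        ((Scheme.Modules.pullback (hh V)).obj M))) q)) :
    Van (KRR.pr n T) q ((tw n T j).obj ((Scheme.Modules.pullback (KRR.pr n T)).obj M)) :=
  (isZero_RpushAb_twF_iff (isQCoh_pull hM) j q).2 fun V =>
    subsingleton_of_iso ((tA n Γ(T, V.1) j).mapIso (midIso (hh V) M).symm) q (h V)

/-- `R^q p_* (p^* M)(j) = 0` for `-n ≤ j ≤ -1`. -/
theorem van_pull_neg {M : T.Modules} (hM : Coh.IsQCoh M) (j : ℤ) (hj : -(n : ℤ) ≤ j) (hj' : j ≤ -1) (q : ℕ) :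
    Van (KRR.pr n T) q ((tw n T j).obj ((Scheme.Modules.pullback (KRR.pr n T)).obj M)) :=
  van_pull hM j q fun V => QcVan.hh_pullback_neg (FormalA.PullbackQC.isQCoh_pullback (hh V) _ hM) j hj hj' q

theorem isRegSheaf_pull {M : T.Modules} (hM : Coh.IsQCoh M) :
    KRR.IsRegSheaf n T ((Scheme.Modules.pullback (KRR.pr n T)).obj M) := by
  intro i hi
  rcases le_or_gt i n with h | h
  · exact van_pull_neg hM (-(i : ℤ)) (by omega) (by omega) i
  · exact van_of_gt (isQCoh_pull hM) _ i h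

variable {F : (KRR.PY n T).Modules}

theorem isQCoh_ker (hF : Coh.IsQCoh F) : Coh.IsQCoh (kernel (cou F)) :=
  PerfA.QCohSerre.isQCoh_kernel _ (isQCoh_pull (Sga67.CohBasic.isQCoh_push (KRR.pr n T) hF)) hF

theorem epi_push_cou (F : (KRR.PY n T).Modules) :
    Epi ((Scheme.Modules.pushforward (KRR.pr n T)).map (cou F)) := by
  have tri := (Scheme.Modules.pullbackPushforwardAdjunction (KRR.pr n T)).right_triangle_components F
  have : IsSplitEpi ((Scheme.Modules.pushforward (KRR.pr n T)).map (cou F)) := ⟨⟨⟨_, tri⟩⟩⟩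
  infer_instance

theorem isRegSheaf_tw_one {M : (KRR.PY n T).Modules} (h : KRR.IsRegSheaf n T M) :
    KRR.IsRegSheaf n T ((tw n T 1).obj M) := by
  have h1 := reg_twist (f := KRR.pr n T) (F := M) h 1
  intro i hi
  have h2 := h1 i hi
  have e : (((1 : ℕ) : ℤ)) = 1 := Nat.cast_one
  have e2 : (tw n T ((1 : ℕ) : ℤ)).obj M = (tw n T 1).obj M := by rw [e]
  rw [e2] at h2
  exact h2

theorem isRegSheaf_next_aux (h : KRR.IsRegSheaf n T F) (hepi : Epi (cou F))
    (h1 : KRR.IsRegSheaf n T ((tw n T 1).obj (seq F).X₂))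
    (h4 : Epi ((Scheme.Modules.pushforward (KRR.pr n T)).map (seq F).g)) :
    KRR.IsRegSheaf n T ((tw n T 1).obj (kernel (cou F))) := by
  have h2 : KRR.IsRegSheaf n T (KRR.twF n T 1 (seq F).X₂) := h1
  have h3 : KRR.IsRegSheaf n T (seq F).X₃ := h
  have h5 := RegSES.reg₁ (shortExact_seq F) h2 h3 h4
  exact h5

theorem isRegSheaf_next (hF : Coh.IsQCoh F) (h : KRR.IsRegSheaf n T F) :
    KRR.IsRegSheaf n T ((tw n T 1).obj (kernel (cou F))) :=
  isRegSheaf_next_aux h (epi_cou hF h)
    (isRegSheaf_tw_one (isRegSheaf_pull (n := n) (Sga67.CohBasic.isQCoh_push (KRR.pr n T) hF))) (epi_push_cou F)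

theorem opensRange_cc (V : T.affineOpens) :
    (cc n V).opensRange = KRR.pr n T ⁻¹ᵁ (hh V).opensRange := by
  rw [← Scheme.Hom.image_top_eq_opensRange, ← Scheme.Hom.image_top_eq_opensRange]
  exact image_top (hh V)

theorem injective_chart (hF : Coh.IsQCoh F) (V : T.affineOpens) :
    Function.Injective (((Scheme.Modules.restrictFunctor (cc n V)).map (cou F)).app ⊤) := by
  have h2 : Function.Injective ((cou F).app (KRR.pr n T ⁻¹ᵁ (hh V ''ᵁ ⊤))) := by
    rw [Scheme.Hom.image_top_eq_opensRange]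
    have hM := Sga67.CohBasic.isQCoh_push (KRR.pr n T) hF
    have h3 := UnitChart.unit_surjective_of_chart (KRR.pr n T) (hh V) (cc n V)
      (CohB1.ProjSpace.toSpec n Γ(T, V.1)) (cc_isPullback V).w (opensRange_cc V)
      ((Scheme.Modules.pushforward (KRR.pr n T)).obj F)
      (QcVan.unit_surjective (PerfA.QCohSerre.isQCoh_restrict (hh V) hM))
    rw [injective_iff_map_eq_zero]
    intro s hs
    obtain ⟨m, hm⟩ := h3 s
    have tri := (Scheme.Modules.pullbackPushforwardAdjunction (KRR.pr n T)).right_triangle_components F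
    have h4 := congrArg (fun φ : (Scheme.Modules.pushforward (KRR.pr n T)).obj F ⟶
      (Scheme.Modules.pushforward (KRR.pr n T)).obj F => φ.app (hh V).opensRange m) tri
    have h5 : m = 0 := by
      refine h4.symm.trans ?_
      refine Eq.trans ?_ hs
      rw [← hm]
      rfl
    rw [← hm, h5, map_zero]
    rfl
  rw [← image_top (r := n) (hh V)] at h2
  exact h2

/-- `p_* K = 0`. -/
theorem van_zero_ker (hF : Coh.IsQCoh F) (h : KRR.IsRegSheaf n T F) : Van (KRR.pr n T) 0 (kernel (cou F)) := by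
  have hepi := epi_cou hF h
  have h1 := (Krr.H454.Bridge.isZero_RpushAb_iff (ι := T.affineOpens) (f := KRR.pr n T) (h := hh) hh_cover
    (fun V => cc_isPullback (n := n) V) (isQCoh_ker hF) 0).2
  refine h1 fun V => ?_
  have h2 := Sga67.RegResol.hh_zero_of_injective (shortExact_kseq (hh V) F) (injective_chart hF V)
  exact h2

variable (n T)

/-- The regular quasi-coherent modules. -/
structure QR where
  F : (KRR.PY n T).Modules
  qc : Coh.IsQCoh F
  reg : KRR.IsRegSheaf n T F

variable {n T}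

/-- `K(1)`. -/
noncomputable def QR.next (G : QR n T) : QR n T where
  F := (tw n T 1).obj (kernel (cou G.F))
  qc := isQCoh_twF (isQCoh_ker G.qc) 1
  reg := isRegSheaf_next G.qc G.reg

theorem QR.shortExact (G : QR n T) : (seq G.F).ShortExact := by
  have := epi_cou G.qc G.reg
  exact shortExact_seq G.F

theorem van_next (q : ℕ) (hq : q ≤ n) : ∀ (i : ℕ) (_ : q ≤ i) (G : QR n T),
    Van (KRR.pr n T) q ((tw n T (-(q : ℤ))).obj (kernel (cou (QR.next^[i] G).F))) := by
  induction q with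
  | zero =>
    intro i _ G
    obtain ⟨e⟩ := nonempty_tw_zero n T (kernel (cou (QR.next^[i] G).F))
    have h := van_zero_ker (QR.next^[i] G).qc (QR.next^[i] G).reg
    simpa using van_of_iso _ 0 e.symm h
  | succ q ih =>
    intro i hi G
    obtain ⟨i, rfl⟩ : ∃ j, i = j + 1 := ⟨i - 1, by omega⟩
    have hS := RegSES.shortExact_tw (QR.next^[i + 1] G).shortExact (-((q + 1 : ℕ) : ℤ))
    refine van₁ (KRR.pr n T) hS q ?_ ?_
    · rw [Function.iterate_succ_apply']
      refine (RegSES.van_tw_tw_iff (-((q + 1 : ℕ) : ℤ)) 1 (-(q : ℤ)) (by push_cast; ring) q).2 ?_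
      exact ih (by omega) i (by omega) G
    · exact van_pull_neg (Sga67.CohBasic.isQCoh_push (KRR.pr n T) (QR.next^[i + 1] G).qc) _
        (by push_cast; omega) (by push_cast; omega) (q + 1)

theorem isZero_push_of_van {X Y : Scheme.{u}} (f : X ⟶ Y) {F : X.Modules} (h : Van f 0 F) :
    IsZero ((Scheme.Modules.pushforward f).obj F) := by
  have h1 : IsZero ((Coh.pushAb f).obj ((Groth.Agent.Fga.HShift.shAb X).obj F)) :=
    h.of_iso ((Coh.pushAb f).rightDerivedZeroIsoSelf.symm.app _)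
  have h2 : IsZero ((Groth.Agent.Ega3B.RpushAbCmp.toAbF Y).obj ((Scheme.Modules.pushforward f).obj F)) := h1
  rw [IsZero.iff_id_eq_zero] at h2 ⊢
  apply (Groth.Agent.Ega3B.RpushAbCmp.toAbF Y).map_injective
  rw [(Groth.Agent.Ega3B.RpushAbCmp.toAbF Y).map_id, h2, Functor.map_zero]

/-- After `n + 1` steps the module becomes zero. -/
theorem isZero_ker (G : QR n T) : IsZero (kernel (cou (QR.next^[n] G).F)) := by
  let K := kernel (cou (QR.next^[n] G).F)
  have hK : Coh.IsQCoh K := isQCoh_ker (QR.next^[n] G).qc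
  have hreg : KRR.IsRegSheaf n T K := by
    intro q hq
    rcases le_or_gt q n with h | h
    · exact van_next q h n h G
    · exact van_of_gt hK _ q h
  have hepi := epi_cou hK hreg
  have h0 : IsZero ((Scheme.Modules.pushforward (KRR.pr n T)).obj K) :=
    isZero_push_of_van _ (van_zero_ker (QR.next^[n] G).qc (QR.next^[n] G).reg)
  have h1 : IsZero ((Scheme.Modules.pullback (KRR.pr n T)).obj
      ((Scheme.Modules.pushforward (KRR.pr n T)).obj K)) := Functor.map_isZero _ h0
  have h2 : cou K = 0 := h1.eq_of_src _ _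
  exact IsZero.of_epi_eq_zero _ h2

/-- The middle terms. -/
noncomputable abbrev QR.push (G : QR n T) : T.Modules := (Scheme.Modules.pushforward (KRR.pr n T)).obj G.F

theorem quasiIso_zero {C : Type*} [Category* C] [Abelian C] {M : C} (hM : IsZero M) :
    ∃ (L : ChainComplex C ℕ) (π : L ⟶ (ChainComplex.single₀ C).obj M), QuasiIso π ∧ ∀ j, IsZero (L.X j) := by
  refine ⟨(ChainComplex.single₀ C).obj M, 𝟙 _, inferInstance, ?_⟩
  rintro (_ | j)
  · exact hM
  · exact HomologicalComplex.isZero_single_obj_X _ _ _ _ (Nat.succ_ne_zero j)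

theorem exists_resolution_aux (m : ℕ) : ∀ (G : QR n T) (_ : IsZero (QR.next^[m] G).F) (c : ℤ),
    ∃ (L : ChainComplex (KRR.PY n T).Modules ℕ)
      (π : L ⟶ (ChainComplex.single₀ (KRR.PY n T).Modules).obj ((tw n T c).obj G.F)),
      QuasiIso π ∧ (∀ j, j < m → Nonempty (L.X j ≅
        (tw n T (c - j)).obj ((Scheme.Modules.pullback (KRR.pr n T)).obj (QR.next^[j] G).push))) ∧
      ∀ j, m ≤ j → IsZero (L.X j) := by
  induction m with
  | zero =>
    intro G hG c
    obtain ⟨L, π, h1, h2⟩ := quasiIso_zero ((tw n T c).map_isZero hG)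
    exact ⟨L, π, h1, fun j hj => absurd hj (by omega), fun j _ => h2 j⟩
  | succ m ih =>
    intro G hG c
    rw [Function.iterate_succ_apply] at hG
    obtain ⟨L, π, h1, h2, h3⟩ := ih G.next hG (c - 1)
    obtain ⟨e⟩ := nonempty_tw_tw n T (c - 1) 1 (kernel (cou G.F))
    have e' : (tw n T (c - 1)).obj G.next.F ≅ ((seq G.F).map (tw n T c)).X₁ :=
      e ≪≫ eqToIso (by rw [sub_add_cancel]; rfl)
    obtain ⟨L', π', h1', h4, h5⟩ := Krr.H498.ResCat.exists_splice (RegSES.shortExact_tw G.shortExact c) L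
      (π ≫ (ChainComplex.single₀ _).map e'.hom) inferInstance
    refine ⟨L', π', h1', ?_, ?_⟩
    · rintro (_ | j) hj
      · exact ⟨eqToIso h4 ≪≫ eqToIso (by simp)⟩
      · obtain ⟨f⟩ := h2 j (by omega)
        refine ⟨eqToIso (h5 j) ≪≫ f ≪≫ eqToIso ?_⟩
        rw [Function.iterate_succ_apply]
        have : c - 1 - (j : ℤ) = c - ((j + 1 : ℕ) : ℤ) := by push_cast; ring
        rw [this]
    · rintro (_ | j) hj
      · omega
      · rw [h5 j]
        exact h3 j (by omega)

theorem exists_resolution (G : QR n T) : ∃ (L : ChainComplex (KRR.PY n T).Modules ℕ)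
      (π : L ⟶ (ChainComplex.single₀ (KRR.PY n T).Modules).obj G.F),
      (∀ i, i ≤ n → Nonempty (L.X i ≅
        KRR.twF n T (-(i : ℤ)) ((Scheme.Modules.pullback (KRR.pr n T)).obj (QR.next^[i] G).push))) ∧
      (∀ i, n < i → IsZero (L.X i)) ∧ QuasiIso π := by
  have h : IsZero (QR.next^[n + 1] G).F := by
    rw [Function.iterate_succ_apply']
    exact (tw n T 1).map_isZero (isZero_ker G)
  obtain ⟨L, π, h1, h2, h3⟩ := exists_resolution_aux (n + 1) G h 0
  obtain ⟨e⟩ := nonempty_tw_zero n T G.F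
  refine ⟨L, π ≫ (ChainComplex.single₀ _).map e.hom, fun i hi => ?_, fun i hi => h3 i (by omega), inferInstance⟩
  obtain ⟨f⟩ := h2 i (by omega)
  exact ⟨f ≪≫ eqToIso (by rw [zero_sub]; rfl)⟩

end K535.RegResQ
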